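import Groth.Agent.CohExch.Exchange

/-!
# The exchange maps for an arbitrary shape of complexes
-/

set_option autoImplicit false
set_option backward.isDefEq.respectTransparency false

universe u

open CategoryTheory CategoryTheory.Limits TensorProduct Function MonoidalCategory

namespace Groth.Agent.CohExch.AnyShape

variable {A : Type u} [CommRing A] {ι : Type} {c : ComplexShape ι}

section Cls

variable (K L : HomologicalComplex (ModuleCat.{u} A) c) (i j k : ι)

/-- The class of a cycle in homology. -/
noncomputable def cls (hjk : c.next j = k) : LinearMap.ker (K.d j k).hom →ₗ[A] K.homology j :=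
  (K.liftCycles (ModuleCat.ofHom (LinearMap.ker (K.d j k).hom).subtype) k hjk
    (ModuleCat.hom_ext (LinearMap.ext fun x => x.2)) ≫ K.homologyπ j).hom

theorem iCycles_liftCycles (hjk : c.next j = k) (x : LinearMap.ker (K.d j k).hom) :
    K.iCycles j (K.liftCycles (ModuleCat.ofHom (LinearMap.ker (K.d j k).hom).subtype) k hjk
      (ModuleCat.hom_ext (LinearMap.ext fun x => x.2)) x) = (x : K.X j) := by
  rw [← CategoryTheory.comp_apply, HomologicalComplex.liftCycles_i]
  rfl

theorem cls_surjective (hjk : c.next j = k) : Surjective (cls K j k hjk) := by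
  intro h
  obtain ⟨z, rfl⟩ := (ModuleCat.epi_iff_surjective (K.homologyπ j)).mp inferInstance h
  refine ⟨⟨K.iCycles j z, ?_⟩, congrArg (K.homologyπ j) ?_⟩
  · rw [LinearMap.mem_ker]
    show K.d j k (K.iCycles j z) = 0
    rw [← CategoryTheory.comp_apply, K.iCycles_d j k]
    rfl
  · exact (ModuleCat.mono_iff_injective (K.iCycles j)).mp inferInstance (iCycles_liftCycles K j k hjk _)

theorem cls_eq_zero_iff (hij : c.prev j = i) (hjk : c.next j = k) (x : LinearMap.ker (K.d j k).hom) :
    cls K j k hjk x = 0 ↔ (x : K.X j) ∈ LinearMap.range (K.d i j).hom := by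
  have hex := ShortComplex.exact_of_g_is_cokernel
    (ShortComplex.mk (K.toCycles i j) (K.homologyπ j) (K.toCycles_comp_homologyπ i j))
    (K.homologyIsCokernel i j hij)
  rw [ShortComplex.moduleCat_exact_iff] at hex
  set z₀ := K.liftCycles (ModuleCat.ofHom (LinearMap.ker (K.d j k).hom).subtype) k hjk
      (ModuleCat.hom_ext (LinearMap.ext fun x => x.2)) x
  constructor
  · intro h
    obtain ⟨w, hw⟩ := hex z₀ h
    refine ⟨w, ?_⟩
    have e := congrArg (K.iCycles j) hw
    dsimp only at e
    rw [← CategoryTheory.comp_apply, HomologicalComplex.toCycles_i, iCycles_liftCycles K j k hjk] at e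
    exact e
  · rintro ⟨w, hw⟩
    have hc : z₀ = K.toCycles i j w := by
      apply (ModuleCat.mono_iff_injective (K.iCycles j)).mp inferInstance
      rw [iCycles_liftCycles K j k hjk, ← CategoryTheory.comp_apply, HomologicalComplex.toCycles_i]
      exact hw.symm
    show K.homologyπ j z₀ = 0
    rw [hc, ← CategoryTheory.comp_apply, K.toCycles_comp_homologyπ]
    rfl

variable {K L}

theorem map_mem_ker (φ : K ⟶ L) {x : K.X j} (hx : x ∈ LinearMap.ker (K.d j k).hom) :
    φ.f j x ∈ LinearMap.ker (L.d j k).hom := by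
  rw [LinearMap.mem_ker] at hx ⊢
  have := CategoryTheory.congr_fun (φ.comm j k) x
  simp only [CategoryTheory.comp_apply] at this
  rw [show (L.d j k).hom (φ.f j x) = L.d j k (φ.f j x) from rfl, this,
    show K.d j k x = 0 from hx, map_zero]

theorem cls_map (hjk : c.next j = k) (φ : K ⟶ L) (x : LinearMap.ker (K.d j k).hom) :
    HomologicalComplex.homologyMap φ j (cls K j k hjk x) =
      cls L j k hjk ⟨φ.f j x, map_mem_ker j k φ x.2⟩ := by
  set z₀ := K.liftCycles (ModuleCat.ofHom (LinearMap.ker (K.d j k).hom).subtype) k hjk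
      (ModuleCat.hom_ext (LinearMap.ext fun x => x.2)) x
  show HomologicalComplex.homologyMap φ j (K.homologyπ j z₀) = L.homologyπ j _
  rw [← CategoryTheory.comp_apply, HomologicalComplex.homologyπ_naturality, CategoryTheory.comp_apply]
  congr 1
  apply (ModuleCat.mono_iff_injective (L.iCycles j)).mp inferInstance
  rw [← CategoryTheory.comp_apply, HomologicalComplex.cyclesMap_i, CategoryTheory.comp_apply,
    iCycles_liftCycles K j k hjk]
  exact (iCycles_liftCycles L j k hjk ⟨φ.f j x, map_mem_ker j k φ x.2⟩).symm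

end Cls

section Exch

variable (P : HomologicalComplex (ModuleCat.{u} A) c) (q p r : ι) (hq : c.prev p = q)
  (hr : c.next p = r) (M : ModuleCat.{u} A)

theorem d_comp (x : P.X q) : (P.d p r).hom ((P.d q p).hom x) = 0 :=
  LinearMap.congr_fun (congrArg ModuleCat.Hom.hom (P.d_comp_d q p r)) x

/-- The class of a cycle in `T_p(A)`. -/
noncomputable def clsOne : LinearMap.ker (P.d p r).hom →ₗ[A] CohIII.T P p (ModuleCat.of A A) :=
  (cls (CohIII.tensorObj P (ModuleCat.of A A)) p r hr).comp
    (LinearMap.codRestrict _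
      (((TensorProduct.mk A (P.X p) A).flip 1).comp (LinearMap.ker (P.d p r).hom).subtype)
      fun x => by
        have hx : (P.d p r).hom (x : P.X p) = 0 := x.2
        rw [LinearMap.mem_ker]
        show (P.d p r).hom.rTensor A ((x : P.X p) ⊗ₜ[A] (1 : A)) = 0
        rw [LinearMap.rTensor_tmul, hx, TensorProduct.zero_tmul])

theorem clsOne_surjective : Surjective (clsOne P p r hr) := by
  intro z
  obtain ⟨⟨w, hw⟩, rfl⟩ := cls_surjective (CohIII.tensorObj P (ModuleCat.of A A)) p r hr z
  obtain ⟨x, rfl⟩ := (TensorProduct.rid A (P.X p)).symm.surjective w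
  refine ⟨⟨x, ?_⟩, congrArg (cls (CohIII.tensorObj P (ModuleCat.of A A)) p r hr)
    (Subtype.ext (TensorProduct.rid_symm_apply x).symm)⟩
  rw [LinearMap.mem_ker] at hw ⊢
  have : (TensorProduct.rid A (P.X r)) ((P.d p r).hom.rTensor A (x ⊗ₜ[A] (1 : A))) = 0 := by
    rw [← TensorProduct.rid_symm_apply]
    exact (congrArg _ hw).trans (map_zero _)
  rwa [LinearMap.rTensor_tmul, TensorProduct.rid_tmul, one_smul] at this

theorem exch_clsOne (u : LinearMap.ker (P.d p r).hom ⊗[A] M)
    (hu : (LinearMap.ker (P.d p r).hom).subtype.rTensor M u ∈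
      LinearMap.ker ((CohIII.tensorObj P M).d p r).hom) :
    exch P p M ((clsOne P p r hr).rTensor M u) =
      cls (CohIII.tensorObj P M) p r hr ⟨_, hu⟩ := by
  let kt : LinearMap.ker (P.d p r).hom ⊗[A] M →ₗ[A]
      LinearMap.ker ((CohIII.tensorObj P M).d p r).hom :=
    LinearMap.codRestrict _ ((LinearMap.ker (P.d p r).hom).subtype.rTensor M) fun w => by
      rw [LinearMap.mem_ker]
      show (P.d p r).hom.rTensor M ((LinearMap.ker (P.d p r).hom).subtype.rTensor M w) = 0
      rw [← LinearMap.comp_apply, ← LinearMap.rTensor_comp, LinearMap.comp_ker_subtype,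
        LinearMap.rTensor_zero, LinearMap.zero_apply]
  suffices h : ∀ w, exch P p M ((clsOne P p r hr).rTensor M w) =
      cls (CohIII.tensorObj P M) p r hr (kt w) from h u
  intro w
  induction w with
  | zero => simp
  | add a b ha hb => simp only [map_add, ha, hb]
  | tmul x m =>
    rw [LinearMap.rTensor_tmul, exch_tmul]
    refine (cls_map p r hr (CohIII.tensorMap P (elemHom m)) _).trans (congrArg _ (Subtype.ext ?_))
    show (x : P.X p) ⊗ₜ[A] ((1 : A) • m) = (x : P.X p) ⊗ₜ[A] m
    rw [one_smul]

include hq hr in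
/-- The exchange map is bijective when the image and the cycles stay submodules after tensoring. -/
theorem bijective_exch_of_injective
    (h₁ : Injective ((LinearMap.range (P.d p r).hom).subtype.rTensor M))
    (h₂ : Injective ((LinearMap.ker (P.d p r).hom).subtype.rTensor M)) :
    Bijective (exch P p M) := by
  have hex : Exact (LinearMap.ker (P.d p r).hom).subtype (P.d p r).hom.rangeRestrict := by
    rw [LinearMap.exact_iff, LinearMap.ker_rangeRestrict, Submodule.range_subtype]
  have hexM := rTensor_exact M hex (P.d p r).hom.surjective_rangeRestrict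
  refine ⟨?_, fun z => ?_⟩
  · rw [← LinearMap.ker_eq_bot, eq_bot_iff]
    intro w hw
    obtain ⟨u, rfl⟩ := LinearMap.rTensor_surjective M (clsOne_surjective P p r hr) w
    have hu : (LinearMap.ker (P.d p r).hom).subtype.rTensor M u ∈
        LinearMap.ker ((CohIII.tensorObj P M).d p r).hom := by
      rw [LinearMap.mem_ker]
      show (P.d p r).hom.rTensor M ((LinearMap.ker (P.d p r).hom).subtype.rTensor M u) = 0
      rw [← LinearMap.comp_apply, ← LinearMap.rTensor_comp, LinearMap.comp_ker_subtype,
        LinearMap.rTensor_zero, LinearMap.zero_apply]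
    rw [LinearMap.mem_ker, exch_clsOne P p r hr M u hu, cls_eq_zero_iff _ q p r hq hr] at hw
    obtain ⟨v, hv⟩ := hw
    let f' := (P.d q p).hom.codRestrict (LinearMap.ker (P.d p r).hom) fun x =>
      LinearMap.mem_ker.2 (d_comp P q p r x)
    have hu' : u = f'.rTensor M v := h₂ <| by
      rw [← LinearMap.comp_apply (f := (LinearMap.ker (P.d p r).hom).subtype.rTensor M),
        ← LinearMap.rTensor_comp, LinearMap.subtype_comp_codRestrict]
      exact hv.symm
    rw [Submodule.mem_bot, hu', ← LinearMap.comp_apply, ← LinearMap.rTensor_comp]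
    have h0 : (clsOne P p r hr) ∘ₗ f' = 0 := by
      refine LinearMap.ext fun x => ?_
      refine (cls_eq_zero_iff _ q p r hq hr _).2 ⟨x ⊗ₜ[A] (1 : A), ?_⟩
      rfl
    rw [h0, LinearMap.rTensor_zero, LinearMap.zero_apply]
  · obtain ⟨⟨w, hw⟩, rfl⟩ := cls_surjective (CohIII.tensorObj P M) p r hr z
    have hw' : (P.d p r).hom.rangeRestrict.rTensor M w = 0 := h₁ <| by
      rw [map_zero, ← LinearMap.comp_apply, ← LinearMap.rTensor_comp]
      exact hw
    obtain ⟨u, rfl⟩ := (hexM w).1 hw'
    exact ⟨(clsOne P p r hr).rTensor M u, exch_clsOne P p r hr M u hw⟩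

end Exch

end Groth.Agent.CohExch.AnyShape
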