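import Groth.Agent.Props12.FinLocFree
import Groth.Agent.TwistLib.TwistGen
import Groth.Agent.Coherent.FiniteType

/-!
# Criteria on affine opens for isomorphisms and epimorphisms of quasi-coherent modules
-/

set_option autoImplicit false
set_option backward.isDefEq.respectTransparency false

universe u

open CategoryTheory AlgebraicGeometry Opposite TopologicalSpace
open Groth.Agent.PicLib Groth.Agent.Coherent

namespace Groth.Agent.CohExch

variable {X : Scheme.{u}} {M N : X.Modules} (φ : M ⟶ N)

/-- Bijective on an affine cover is an isomorphism, for quasi-coherent modules. -/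
theorem isIso_of_bijective_affine_cover [Coh.IsQCoh M] [Coh.IsQCoh N]
    (h : ∀ x : X, ∃ U : X.Opens, IsAffineOpen U ∧ x ∈ U ∧ Function.Bijective (φ.app U)) :
    IsIso φ := by
  choose U hU hx hb using h
  refine Groth.Agent.TwistLib.isIso_of_bijective_on φ U (fun x => ⟨x, hx x⟩) fun x V hV => ?_
  let j := (U x).ι
  have : IsAffine (U x).toScheme := hU x
  have : Coh.IsQCoh (M.restrict j) := inferInstance
  have : Coh.IsQCoh (N.restrict j) := inferInstance
  let ψ : M.restrict j ⟶ N.restrict j := (Scheme.Modules.restrictFunctor j).map φ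
  have hb' : ∀ {W : X.Opens}, U x = W → Function.Bijective (φ.app W) := fun e => e ▸ hb x
  have := Props12.isIso_of_bijective_top ψ (hb' (U x).ι_image_top.symm)
  have hh : Function.Bijective (ψ.app (j ⁻¹ᵁ V)) :=
    have : IsIso (ψ.app (j ⁻¹ᵁ V)) := Scheme.Modules.Hom.isIso_iff_isIso_app.mp inferInstance _
    ConcreteCategory.bijective_of_isIso _
  have e : j ''ᵁ (j ⁻¹ᵁ V) = V :=
    (Scheme.Hom.image_preimage_eq_opensRange_inf _ _).trans
      ((congrArg (· ⊓ V) (U x).opensRange_ι).trans (inf_eq_right.2 hV))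
  have hh' : Function.Bijective (φ.app (j ''ᵁ (j ⁻¹ᵁ V))) := hh
  have key : ∀ {W : X.Opens}, j ''ᵁ (j ⁻¹ᵁ V) = W → Function.Bijective (φ.app W) := fun e => e ▸ hh'
  exact key e

/-- On a one-point scheme, an epimorphism is a map onto global sections. -/
theorem epi_iff_surjective_top [Subsingleton X] :
    Epi φ ↔ Function.Surjective (φ.app ⊤) := by
  constructor
  · intro _ s
    rcases isEmpty_or_nonempty X with hX | ⟨⟨x⟩⟩
    · refine ⟨0, Props12.eq_of_nhds N _ _ fun y _ => (hX.elim y)⟩
    · obtain ⟨W, hW, hxW, t, ht⟩ := exists_lift_of_epi φ ⊤ s x trivial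
      have e : W = ⊤ := eq_top_iff.2 fun y _ => by rwa [Subsingleton.elim y x]
      subst e
      exact ⟨t, ht.trans (resM_refl _ _)⟩
  · intro h
    refine epi_of_locally_surjective φ fun W a y hy => ?_
    have e : W = ⊤ := eq_top_iff.2 fun z _ => by rwa [Subsingleton.elim z y]
    subst e
    obtain ⟨t, ht⟩ := h a
    exact ⟨⊤, le_rfl, hy, t, ht.trans (resM_refl _ _).symm⟩

end Groth.Agent.CohExch
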