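import Groth.Agent.CohExch.Local0
import Groth.Agent.CohExch.AnyShape
import Groth.Agent.CohExch.IsoCrit

/-!
# Base change in degree zero along affine morphisms
-/

set_option autoImplicit false
set_option backward.isDefEq.respectTransparency false

universe u

open CategoryTheory CategoryTheory.Limits AlgebraicGeometry Opposite TopologicalSpace TensorProduct
open CohPull CohCmp Function
open Groth.Agent.Coherent Groth.Agent.PicLib Groth.Agent.Coherent.CohBC

namespace Groth.Agent.CohExch

/-- The Čech differential of the trivial cover vanishes in degree zero. -/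
theorem cxD_zero_of_subsingleton {A : Type u} [CommRing A] {X : Scheme.{u}}
    [X.Over (Spec (CommRingCat.of A))] {ι : Type u} [Subsingleton ι] (W : ι → X.Opens) (F : X.Modules) :
    cxD A W F 0 = 0 := by
  refine LinearMap.ext fun x => funext fun a => ?_
  show ∑ j : Fin 2, (-1 : ℤ) ^ (j : ℕ) • resM F (cinter_face W a j) (x (a ∘ j.succAbove)) = 0
  rw [Fin.sum_univ_two]
  have key : ∀ (b c : Fin 1 → ι) (_ : b = c) (hb : cinter W a ≤ cinter W b) (hc : cinter W a ≤ cinter W c),
      resM F hb (x b) = resM F hc (x c) := by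
    rintro b c rfl hb hc
    rfl
  rw [key _ (a ∘ (1 : Fin 2).succAbove) (Subsingleton.elim _ _) (cinter_face W a 0) (cinter_face W a 1)]
  simp

variable {X S X' S' : Scheme.{u}} {f : X ⟶ S} {g : S' ⟶ S} {f' : X' ⟶ S'} {g' : X' ⟶ X}

/-- Over affine opens degree zero base change along an affine morphism is bijective. -/
theorem bijective_bc0_app_of_affine (h : IsPullback g' f' f g) [IsAffineHom f] (F : X.Modules)
    [Coh.IsQCoh F] {U : S.Opens} (hU : IsAffineOpen U) {U' : S'.Opens} (hU' : IsAffineOpen U')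
    (le : U' ≤ g ⁻¹ᵁ U) : Bijective ((CohBC.bc0 f g f' g' h.w F).app U') := by
  let _ := overSections f hU
  let W : PUnit.{u + 1} → (f ⁻¹ᵁ U).toScheme.Opens := fun _ => ⊤
  have : IsAffine (f ⁻¹ᵁ U).toScheme := hU.preimage f
  have hcov : ⨆ i, W i = ⊤ := iSup_const
  have hW : ∀ (k : ℕ) (a : Fin (k + 1) → PUnit.{u + 1}), IsAffineOpen (cinter W a) := fun k a => by
    have : cinter W a = ⊤ := by simp [cinter, W]
    rw [this]
    exact isAffineOpen_top _
  refine ((bc0_app_iff h F hU hU' le W hcov) hW).2.2 ?_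
  let C := cxA Γ(S, U) W (F.restrict (f ⁻¹ᵁ U).ι)
  let B := bMod (g.appLE U U' le).hom
  have hd : (C.d 0 1).hom = 0 :=
    (congrArg ModuleCat.Hom.hom (cxA_d Γ(S, U) W (F.restrict (f ⁻¹ᵁ U).ι) 0)).trans
      (cxD_zero_of_subsingleton W (F.restrict (f ⁻¹ᵁ U).ι))
  refine AnyShape.bijective_exch_of_injective C 0 0 1 ?_ ?_ B ?_ ?_
  · exact CochainComplex.prev_nat_zero
  · exact CochainComplex.next ℕ 0
  · rw [hd, LinearMap.range_zero]
    intro a b _
    have : ∀ z : (⊥ : Submodule Γ(S, U) (C.X 1)) ⊗[Γ(S, U)] B, z = 0 := fun z => by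
      induction z with
      | zero => rfl
      | add u v hu hv => rw [hu, hv, add_zero]
      | tmul m b => rw [Subsingleton.elim m 0, TensorProduct.zero_tmul]
    rw [this a, this b]
  · rw [hd, LinearMap.ker_zero]
    exact (LinearEquiv.rTensor B (Submodule.topEquiv (R := Γ(S, U)) (M := C.X 0))).injective

/-- Degree zero base change along affine morphisms is an isomorphism. -/
theorem isIso_bc0_of_affine (h : IsPullback g' f' f g) [IsAffineHom f] (F : X.Modules)
    [Coh.IsQCoh F] : IsIso (CohBC.bc0 f g f' g' h.w F) := by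
  have : IsAffineHom f' := MorphismProperty.of_isPullback (P := @IsAffineHom) h inferInstance
  have : Coh.IsQCoh ((Scheme.Modules.pushforward f).obj F) := isQCoh_push f F
  have : Coh.IsQCoh ((Scheme.Modules.pullback g).obj ((Scheme.Modules.pushforward f).obj F)) :=
    EGA43.InjFibre.isQCoh_pullback g _
  have : Coh.IsQCoh ((Scheme.Modules.pullback g').obj F) := EGA43.InjFibre.isQCoh_pullback g' _
  have : Coh.IsQCoh ((Scheme.Modules.pushforward f').obj ((Scheme.Modules.pullback g').obj F)) :=
    isQCoh_push f' _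
  refine isIso_of_bijective_affine_cover (CohBC.bc0 f g f' g' h.w F) fun z => ?_
  obtain ⟨U, hU, hzU, -⟩ := exists_isAffineOpen_mem_and_subset (x := g z) (U := (⊤ : S.Opens)) trivial
  obtain ⟨U', hU', hzU', le⟩ := exists_isAffineOpen_mem_and_subset (x := z) (U := g ⁻¹ᵁ U) hzU
  exact ⟨U', hU', hzU', bijective_bc0_app_of_affine h F hU hU' le⟩

end Groth.Agent.CohExch
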