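import Groth.Agent.CohExch.Chart
import Groth.Agent.Coherent.CohBC.LocalModules

/-!
# Direct images over charts
-/

set_option autoImplicit false
set_option backward.isDefEq.respectTransparency false

universe u

open CategoryTheory CategoryTheory.Limits AlgebraicGeometry Opposite TopologicalSpace TensorProduct
open CohPull CohCmp Function
open Groth.Agent.Coherent Groth.Agent.Coherent.CohBC Groth.Agent.Props12

namespace Groth.Agent.CohExch

section Modules

variable {S : Scheme.{u}} (R : S.Modules)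

/-- Trivialisations of a restriction, seen on the ambient scheme. -/
theorem exists_trivial_nhd_of_restrict {V : S.Opens} (h : FlatMod.IsFinLocFree (R.restrict V.ι))
    {y : S} (hy : y ∈ V) :
    ∃ (W : S.Opens) (n : ℕ), y ∈ W ∧ W ≤ V ∧
      Nonempty (R.restrict W.ι ≅ FlatMod.freeMod W.toScheme n) := by
  obtain ⟨U, n, hyU, ⟨e⟩⟩ := h ⟨y, hy⟩
  let j := U.ι ≫ V.ι
  refine ⟨j.opensRange, n, ⟨⟨⟨y, hy⟩, hyU⟩, rfl⟩, ?_, ⟨?_⟩⟩
  · rintro z ⟨w, rfl⟩
    exact (U.ι w).2
  · exact (Scheme.Modules.restrictFunctorCongr j.isoOpensRange_inv_comp.symm).app R ≪≫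
      (Scheme.Modules.restrictFunctorComp j.isoOpensRange.inv j).app R ≪≫
      (Scheme.Modules.restrictFunctor j.isoOpensRange.inv).mapIso
        ((Scheme.Modules.restrictFunctorComp U.ι V.ι).app R ≪≫ e) ≪≫
      freeModRestrictIso j.isoOpensRange.inv n

/-- Finite projective sections on an affine open give trivialisations. -/
theorem exists_free_nhd_of_sections [Coh.IsQCoh R] {U : S.Opens} (hU : IsAffineOpen U)
    [Module.Finite Γ(S, U) Γ(R, U)] [Module.Projective Γ(S, U) Γ(R, U)] {y : S} (hy : y ∈ U) :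
    ∃ (W : S.Opens) (n : ℕ), y ∈ W ∧ Nonempty (R.restrict W.ι ≅ FlatMod.freeMod W.toScheme n) := by
  have : Module.FinitePresentation Γ(S, U) Γ(R, U) := Module.finitePresentation_of_projective _ _
  let _ := (S.presheaf.germ U y hy).hom.toAlgebra
  let _ := Module.compHom (R.presheaf.stalk y) (S.presheaf.germ U y hy).hom
  have : IsScalarTower Γ(S, U) (S.presheaf.stalk y) (R.presheaf.stalk y) :=
    IsScalarTower.of_algebraMap_smul fun _ _ => rfl
  let φ : Γ(R, U) →ₗ[Γ(S, U)] R.presheaf.stalk y :=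
    { toFun := R.presheaf.germ U y hy
      map_add' := map_add _
      map_smul' := QCohLoc.germ_smul' (M := R) hy }
  have := EGA43.QcohFP.isLocalizedModule_germ R hU hy φ fun _ => rfl
  have := hU.isLocalization_stalk ⟨y, hy⟩
  have : Module.Flat (S.presheaf.stalk y) (R.presheaf.stalk y) :=
    Module.Flat.of_isLocalizedModule (S.presheaf.stalk y)
      (hU.primeIdealOf ⟨y, hy⟩).asIdeal.primeCompl φ
  have : Module.Finite (S.presheaf.stalk y) (R.presheaf.stalk y) :=
    Module.Finite.of_isLocalizedModule (hU.primeIdealOf ⟨y, hy⟩).asIdeal.primeCompl φ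
  have : Module.Free (S.presheaf.stalk y) (R.presheaf.stalk y) := Module.free_of_flat_of_isLocalRing
  obtain ⟨r, hr, hfr, -⟩ := Module.FinitePresentation.exists_free_localizedModule_powers
    (hU.primeIdealOf ⟨y, hy⟩).asIdeal.primeCompl φ (S.presheaf.stalk y)
  have hxr : y ∈ S.basicOpen r := by
    rw [Scheme.mem_basicOpen _ _ _ hy]
    exact (IsLocalization.AtPrime.isUnit_to_map_iff (S.presheaf.stalk y)
      (hU.primeIdealOf ⟨y, hy⟩).asIdeal r).2 hr
  let _ := (S.presheaf.map (homOfLE (S.basicOpen_le r)).op).hom.toAlgebra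
  let _ := Module.compHom Γ(R, S.basicOpen r)
    (S.presheaf.map (homOfLE (S.basicOpen_le r)).op).hom
  have : IsScalarTower Γ(S, U) Γ(S, S.basicOpen r) Γ(R, S.basicOpen r) :=
    IsScalarTower.of_algebraMap_smul fun _ _ => rfl
  let ρ : Γ(R, U) →ₗ[Γ(S, U)] Γ(R, S.basicOpen r) :=
    { toFun := resM R (S.basicOpen_le r)
      map_add' := map_add _
      map_smul' := resM_smul R _ }
  have := EGA43.QcohFP.isLocalizedModule_res R hU r ρ fun _ => rfl
  have := hU.isLocalization_basicOpen r
  let T : Submonoid Γ(S, U) := Submonoid.powers r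
  let e₁ : Localization T ≃ₐ[Γ(S, U)] Γ(S, S.basicOpen r) := IsLocalization.algEquiv T _ _
  let l : LocalizedModule T Γ(R, U) ≃ₗ[Γ(S, U)] Γ(R, S.basicOpen r) := IsLocalizedModule.iso T ρ
  let _ := Module.compHom Γ(R, S.basicOpen r) e₁.toRingHom
  have : IsScalarTower Γ(S, U) (Localization T) Γ(R, S.basicOpen r) :=
    IsScalarTower.of_algebraMap_smul fun a m => by
      change e₁ (algebraMap _ _ a) • m = _
      rw [AlgEquiv.commutes, algebraMap_smul]
  let bc := Module.Free.chooseBasis (Localization T) (LocalizedModule T Γ(R, U))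
  have : Fintype (Module.Free.ChooseBasisIndex (Localization T) (LocalizedModule T Γ(R, U))) :=
    inferInstance
  let b := ((bc.map (l.extendScalarsOfIsLocalization T (Localization T))).mapCoeffs e₁.toRingEquiv
    fun _ _ => rfl).reindex (Fintype.equivFin _)
  obtain ⟨b'⟩ := exists_basis_restrict_top R _ b
  have : IsAffine (S.basicOpen r).toScheme := hU.basicOpen r
  exact ⟨_, _, hxr, exists_iso_freeMod_of_basis (R.restrict (S.basicOpen r).ι) b'⟩

/-- A module with no sections on small neighbourhoods is zero. -/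
theorem isZero_restrict_of_nhds (U : S.Opens)
    (h : ∀ y ∈ U, ∀ W : S.Opens, y ∈ W → ∃ W' : S.Opens, y ∈ W' ∧ W' ≤ W ∧ Subsingleton Γ(R, W')) :
    IsZero (R.restrict U.ι) :=
  isZero_restrict_of_sections R U fun W _ hWU => ⟨fun a b => by
    refine eq_of_nhds R a b fun y hy => ?_
    obtain ⟨W', hy', hle, _⟩ := h y (hWU hy) W hy
    exact ⟨W', hle, hy', Subsingleton.elim _ _⟩⟩

end Modules

variable {X S : Scheme.{u}} {f : X ⟶ S} {F : X.Modules}

namespace Chart

variable (C : Chart f F)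

theorem nonempty_sectionsEquiv [QuasiCompact f] [QuasiSeparated f] [HasInjectiveResolutions X.Modules]
    [Coh.IsQCoh F] (p : ℕ) :
    Nonempty (Γ((Coh.Rpush f p).obj F, C.U) ≃ₗ[Γ(S, C.U)] C.P.homology (-(p : ℤ))) := by
  let _ := overSections f C.hU
  obtain ⟨e⟩ := exists_rpush_sections_equiv f C.hU F p
  exact ⟨e.symm.trans (C.data.hhHomology p)⟩

/-- Flat cokernels around degree `p` make the direct image finite locally free. -/
theorem exists_trivial_nhd [QuasiCompact f] [QuasiSeparated f] [HasInjectiveResolutions X.Modules]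
    [Coh.IsQCoh F] (p : ℕ) (h : C.Flat p) (h' : C.Flat ((p : ℤ) - 1)) {y : S} (hy : y ∈ C.U) :
    ∃ (W : S.Opens) (n : ℕ), y ∈ W ∧
      Nonempty (((Coh.Rpush f p).obj F).restrict W.ι ≅ FlatMod.freeMod W.toScheme n) := by
  have := isQCoh_rpush f F p
  obtain ⟨e⟩ := C.nonempty_sectionsEquiv p
  obtain ⟨hfin, hproj⟩ := projective_homology_of_flatAt C.P C.finite_free (-(p : ℤ)) h (by
    rw [show -(p : ℤ) + 1 = -((p : ℤ) - 1) by omega]
    exact h')
  have := Module.Finite.equiv e.symm
  have := Module.Projective.of_equiv e.symm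
  exact exists_free_nhd_of_sections _ C.hU hy

theorem isFinLocFree_restrict [QuasiCompact f] [QuasiSeparated f] [HasInjectiveResolutions X.Modules]
    [Coh.IsQCoh F] (p : ℕ) (h : C.Flat p) (h' : C.Flat ((p : ℤ) - 1)) :
    FlatMod.IsFinLocFree (((Coh.Rpush f p).obj F).restrict C.U.ι) :=
  CohBC.isFinLocFree_restrict _ C.U fun _ hy => C.exists_trivial_nhd p h h' hy

/-- A locally free direct image makes the cokernel one degree lower flat. -/
theorem exists_flat_pred [IsSeparated f] [QuasiCompact f] [HasInjectiveResolutions X.Modules]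
    [Coh.IsQCoh F] (hfl : FlatMod.IsFlatOver f F) {V : S.Opens} (p : ℕ)
    (hV : FlatMod.IsFinLocFree (((Coh.Rpush f p).obj F).restrict V.ι))
    {s : S} (hsV : s ∈ V) (hs : s ∈ C.U) (h : C.Flat p) :
    ∃ C' : Chart f F, s ∈ C'.U ∧ C'.U ≤ C.U ∧ C'.Flat ((p : ℤ) - 1) ∧ ∀ m, C.Flat m → C'.Flat m := by
  obtain ⟨W, n, hsW, -, ⟨e⟩⟩ := exists_trivial_nhd_of_restrict _ hV hsV
  obtain ⟨a, hle, hsa⟩ := C.hU.exists_basicOpen_le (V := W) ⟨s, hsW⟩ hs
  obtain ⟨C', hC', h1, -, -⟩ := C.exists_away hfl a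
  have := isQCoh_rpush f F p
  obtain ⟨b⟩ := exists_basis_sections e (show C'.U ≤ W from hC' ▸ hle)
  obtain ⟨eq⟩ := C'.nonempty_sectionsEquiv p
  have : Module.Free Γ(S, C'.U) Γ((Coh.Rpush f p).obj F, C'.U) := .of_basis b
  have hflat : Module.Flat Γ(S, C'.U) (C'.P.homology (-(p : ℤ))) :=
    Module.Flat.of_linearEquiv eq.symm
  refine ⟨C', hC' ▸ hsa, hC' ▸ S.basicOpen_le a, ?_, h1⟩
  show FlatAt C'.P (-((p : ℤ) - 1))
  rw [show -((p : ℤ) - 1) = -(p : ℤ) + 1 by omega]
  exact flatAt_succ_of_flat_homology C'.P C'.finite_free _ (h1 _ h) hflat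

/-- The complex of a chart is exact in large degrees. -/
theorem exists_flat_large [IsSeparated f] : ∃ N : ℕ, ∀ p : ℕ, N ≤ p → C.Flat p := by
  let _ := overSections f C.hU
  have : IsSeparated ((f ⁻¹ᵁ C.U).toScheme ↘ Spec (CommRingCat.of Γ(S, C.U))) :=
    MorphismProperty.of_isPullback (P := @IsSeparated) (isPullback_toSpecSections f C.hU) inferInstance
  have := C.data.finite
  have := C.data.isQCoh
  refine ⟨Nat.card C.data.ι, fun p hp => ?_⟩
  have h : (CohIII.TFun C.data.P (-(p : ℤ))).PreservesEpimorphisms :=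
    FlatCxLib.preservesEpi_of_isZero _ fun M =>
      (isZero_T_cxA C.data.W _ C.data.hW C.data.hcov p hp M).of_iso ((C.data.tIso p).app M).symm
  rw [FlatCxLib.preservesEpi_iff_flat (-(p : ℤ)) (-(p : ℤ) - 1) C.data.flat_P (by omega)] at h
  exact h

/-- Flat cokernel and no homology: every fibre of the chart vanishes. -/
theorem subsingleton_fiberH [IsProper f] [Coh.IsQCoh F] (hfp : CohB1.IsFP F)
    (hfl : FlatMod.IsFlatOver f F) (p : ℕ) (h : C.Flat p)
    (hz : Subsingleton (C.P.homology (-(p : ℤ)))) {s : S} (hs : s ∈ C.U) :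
    Subsingleton (CohIII.fiberH f F s p) := by
  rw [subsingleton_fiberH_iff_rank hfp s p, C.fiberRank_eq hfl hs p]
  have hT : Subsingleton (CohIII.T C.P (-(p : ℤ)) (ModuleCat.of Γ(S, C.U) Γ(S, C.U))) :=
    (unitTIso C.P (-(p : ℤ))).toLinearEquiv.toEquiv.subsingleton
  let φ := algebraMap Γ(S, C.U) (C.pt hs).asIdeal.ResidueField
  have hs' : Subsingleton ((CohIII.bcCx φ C.P).homology (-(p : ℤ))) :=
    subsingleton_homology_bc C.P _ φ (subsingleton_T_of_surjective_exch C.P _ φ 1
      (fun z => Subsingleton.elim _ _) (by rw [map_one]; exact isUnit_one)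
      (bijective_exch_of_flatAt C.P C.finite_free _ h _).2)
  exact Module.finrank_zero_of_subsingleton

/-- With both cokernels flat the fibre dimension is locally constant over the chart. -/
theorem isLocallyConstant_fiberRank [IsSeparated f] [QuasiCompact f] [Coh.IsQCoh F]
    (hfl : FlatMod.IsFlatOver f F) (p : ℕ) (h : C.Flat p) (h' : C.Flat ((p : ℤ) - 1)) :
    IsLocallyConstant (fun v : C.U => CohIII.fiberRank f F p v.1) := by
  have hlc := CohExch.isLocallyConstant_dRank C.P C.finite_free (-(p : ℤ)) h (by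
    rw [show -(p : ℤ) + 1 = -((p : ℤ) - 1) by omega]
    exact h')
  have e : (fun v : C.U => CohIII.fiberRank f F p v.1) =
      CohIII.dRank C.P (-(p : ℤ)) ∘ fun v : C.U => C.pt v.2 :=
    funext fun v => C.fiberRank_eq hfl v.2 p
  rw [e]
  exact hlc.comp_continuous C.hU.isoSpec.hom.base.hom.continuous

end Chart

/-- Locally constant fibre dimension over a reduced base: flat cokernels on any chart. -/
theorem Chart.flat_of_isLocallyConstant [IsSeparated f] [QuasiCompact f] [Coh.IsQCoh F] [IsReduced S]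
    (hfl : FlatMod.IsFlatOver f F) (p : ℕ) (hlc : IsLocallyConstant (CohIII.fiberRank f F p))
    (C : Chart f F) : C.Flat p ∧ C.Flat ((p : ℤ) - 1) := by
  have hc : IsLocallyConstant (CohIII.dRank C.P (-(p : ℤ))) := by
    have e : CohIII.dRank C.P (-(p : ℤ)) = CohIII.fiberRank f F p ∘ C.hU.fromSpec := funext fun x => by
      have hx : C.hU.fromSpec x ∈ C.U := C.hU.range_fromSpec.le ⟨x, rfl⟩
      rw [Function.comp_apply, C.fiberRank_eq hfl hx p]
      exact congrArg _ (C.hU.fromSpec.isOpenEmbedding.injective (C.hU.fromSpec_primeIdealOf _)).symm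
    rw [e]
    exact hlc.comp_continuous C.hU.fromSpec.base.hom.continuous
  obtain ⟨h1, h2⟩ := flatAt_of_isLocallyConstant_dRank C.P C.finite_free (-(p : ℤ)) hc
  refine ⟨h1, ?_⟩
  show FlatAt C.P (-((p : ℤ) - 1))
  rwa [show -((p : ℤ) - 1) = -(p : ℤ) + 1 by omega]

end Groth.Agent.CohExch
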