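import Groth.Agent.CohExch.Cech
import Groth.Agent.CohCmpLib.AffineBase
import Groth.Agent.CohCmpLib.GenBC
import Groth.Agent.CohCmpLib.ResPull
import Groth.Agent.Coherent.RpushStalk

/-!
# The base change map over a pair of affine opens is the exchange map of the Čech complex
-/

set_option autoImplicit false
set_option backward.isDefEq.respectTransparency false

universe u

open CategoryTheory CategoryTheory.Limits AlgebraicGeometry Opposite TopologicalSpace TensorProduct
open CohPull CohCmp Function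
open Groth.Agent.Coherent Groth.Agent.PicLib Groth.Agent.Coherent.CohBC Groth.Agent.CohCmpLib

namespace Groth.Agent.CohExch

variable {X S X' S' : Scheme.{u}}

/-- The preimage of an affine open, over the ring of that open. -/
noncomputable abbrev overSections (f : X ⟶ S) {U : S.Opens} (hU : IsAffineOpen U) :
    (f ⁻¹ᵁ U).toScheme.Over (Spec (CommRingCat.of Γ(S, U))) := ⟨toSpecSections f hU⟩

theorem toGlobal_toSpecSections (f : X ⟶ S) {U : S.Opens} (hU : IsAffineOpen U) (r : Γ(S, U)) :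
    Coh.toGlobal (toSpecSections f hU) r = CohCmpLib.pullFun f r := by
  show (toSpecSections f hU).appTop ((Scheme.ΓSpecIso Γ(S, U)).inv r) = _
  rw [Scheme.Hom.comp_appTop, ConcreteCategory.comp_apply, IsAffineOpen.isoSpec_hom_appTop,
    ConcreteCategory.comp_apply, Iso.inv_hom_id_apply]
  simp only [CohCmpLib.pullFun, Scheme.Hom.appTop, morphismRestrict_app, Scheme.Opens.topIso_inv,
    ← ConcreteCategory.comp_apply]
  rw [Scheme.Hom.naturality_assoc, ← X.presheaf.map_comp]
  rfl

variable {f : X ⟶ S} {g : S' ⟶ S} {f' : X' ⟶ S'} {g' : X' ⟶ X}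

theorem preimage_le_sq (w : g' ≫ f = f' ≫ g) {U : S.Opens} {U' : S'.Opens} (le : U' ≤ g ⁻¹ᵁ U) :
    f' ⁻¹ᵁ U' ≤ g' ⁻¹ᵁ (f ⁻¹ᵁ U) :=
  (f'.preimage_mono le).trans (CohCmp.sqLE f g f' g' w U)

theorem isPullback_resLE_toSpec (h : IsPullback g' f' f g) {U : S.Opens} (hU : IsAffineOpen U)
    {U' : S'.Opens} (hU' : IsAffineOpen U') (le : U' ≤ g ⁻¹ᵁ U) :
    IsPullback (g'.resLE (f ⁻¹ᵁ U) (f' ⁻¹ᵁ U') (preimage_le_sq h.w le)) (toSpecSections f' hU')
      (toSpecSections f hU) (Spec.map (g.appLE U U' le)) := by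
  have e : Spec.map (g.appLE U U' le) ≫ hU.fromSpec = hU'.fromSpec ≫ g :=
    hU.SpecMap_appLE_fromSpec g hU' le
  have h₁ := isPullback_toSpecSections f hU
  have h₂ := isPullback_toSpecSections f' hU'
  have hw : g'.resLE (f ⁻¹ᵁ U) (f' ⁻¹ᵁ U') (preimage_le_sq h.w le) ≫ toSpecSections f hU =
      toSpecSections f' hU' ≫ Spec.map (g.appLE U U' le) := by
    refine (cancel_mono hU.fromSpec).1 ?_
    refine (Category.assoc _ _ _).trans ?_
    refine (congrArg (g'.resLE (f ⁻¹ᵁ U) (f' ⁻¹ᵁ U') (preimage_le_sq h.w le) ≫ ·) h₁.w.symm).trans ?_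
    refine Eq.trans ?_ (Category.assoc _ _ _).symm
    refine Eq.trans ?_ (congrArg (toSpecSections f' hU' ≫ ·) e).symm
    rw [← Category.assoc, Scheme.Hom.resLE_comp_ι, Category.assoc, h.w, ← Category.assoc, h₂.w,
      Category.assoc]
  have big := h₂.paste_horiz h
  rw [← e, ← Scheme.Hom.resLE_comp_ι g' (preimage_le_sq h.w le)] at big
  exact IsPullback.of_right big hw h₁

variable [HasInjectiveResolutions X.Modules] [HasInjectiveResolutions X'.Modules]
  {Δ : RDer.DerivedLES (Scheme.Modules.pushforward f)}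
  {Δ' : RDer.DerivedLES (Scheme.Modules.pushforward f')}
  {E : SectCmp f Δ} {E' : SectCmp f' Δ'}

set_option maxHeartbeats 2000000 in
/-- Over affine opens `U' → U` the base change map is the exchange map. -/
theorem bc_app_iff (h : IsPullback g' f' f g) (B : GenBC f g f' g' h.w E E') [QuasiCompact f]
    [QuasiSeparated f] (F : X.Modules) [Coh.IsQCoh F] {U : S.Opens} (hU : IsAffineOpen U)
    {U' : S'.Opens} (hU' : IsAffineOpen U') (le : U' ≤ g ⁻¹ᵁ U) (p : ℕ) {ι : Type u} [Finite ι]
    (W : ι → (f ⁻¹ᵁ U).toScheme.Opens) (hcov : ⨆ i, W i = ⊤) :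
    letI := overSections f hU
    ∀ (_ : ∀ (k : ℕ) (a : Fin (k + 1) → ι), IsAffineOpen (cinter W a)),
    (Surjective ((B.bc p F).app U') ↔
        Surjective (exch (cxA Γ(S, U) W (F.restrict (f ⁻¹ᵁ U).ι)) p (bMod (g.appLE U U' le).hom))) ∧
      (Bijective ((B.bc p F).app U') ↔
        Bijective (exch (cxA Γ(S, U) W (F.restrict (f ⁻¹ᵁ U).ι)) p (bMod (g.appLE U U' le).hom))) := by
  letI := overSections f hU
  letI := overSections f' hU'
  intro hW
  have : QuasiCompact f' := MorphismProperty.of_isPullback (P := @QuasiCompact) h inferInstance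
  have : QuasiSeparated f' := MorphismProperty.of_isPullback (P := @QuasiSeparated) h inferInstance
  have hP := EGA43.InjFibre.isQCoh_pullback g' F
  let R := (Coh.Rpush f p).obj F
  let G := (Scheme.Modules.pullback g').obj F
  let F₀ := F.restrict (f ⁻¹ᵁ U).ι
  have : Coh.IsQCoh F₀ := inferInstance
  have hR : Coh.IsQCoh R := isQCoh_rpush f F p
  let φ := (g.appLE U U' le).hom
  let _ := φ.toAlgebra
  let r := g'.resLE (f ⁻¹ᵁ U) (f' ⁻¹ᵁ U') (preimage_le_sq h.w le)
  have hsq : IsPullback r ((f' ⁻¹ᵁ U').toScheme ↘ Spec (CommRingCat.of Γ(S', U')))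
      ((f ⁻¹ᵁ U).toScheme ↘ Spec (CommRingCat.of Γ(S, U))) (Spec.map (CommRingCat.ofHom φ)) :=
    isPullback_resLE_toSpec h hU hU' le
  -- the comparison over `U`, linear
  let εU : Coh.HHon X F (f ⁻¹ᵁ U) p ≃ₗ[Γ(S, U)] Γ(R, U) :=
    LinearEquiv.ofBijective
      { toFun := E.ε U F p
        map_add' := fun a b => map_add (E.ε U F p) a b
        map_smul' := fun a x => by
          refine Eq.trans ?_ (ε_smul f E F p a x)
          exact congrArg (fun t => E.ε U F p (Sheaf.H.map (Coh.smulAb F₀ t) p x))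
            (toGlobal_toSpecSections f hU a) }
      (bijective_ε_of_isAffineOpen f E F hU p)
  -- sections of `g^* R^p f_* F` over `U'`
  let _ : Module Γ(S, U) Γ((Scheme.Modules.pullback g).obj R, U') := Module.compHom _ φ
  have : IsScalarTower Γ(S, U) Γ(S', U') Γ((Scheme.Modules.pullback g).obj R, U') :=
    IsScalarTower.of_algebraMap_smul fun _ _ => rfl
  obtain ⟨μ, hμ, hμe⟩ := EGA43.InjFibre.pullMap_isBaseChange g hU hU' le (M := R)
  let src : Coh.HHon X F (f ⁻¹ᵁ U) p ⊗[Γ(S, U)] Γ(S', U') → Γ((Scheme.Modules.pullback g).obj R, U') :=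
    ⇑hμ.equiv ∘ ⇑((LinearEquiv.rTensor Γ(S', U') εU).trans (TensorProduct.comm _ _ _))
  have hsrc : Bijective src := hμ.equiv.bijective.comp (LinearEquiv.bijective _)
  -- the target
  let e := HHCongr Γ(S', U') (pullOnIso g' (f ⁻¹ᵁ U) (f' ⁻¹ᵁ U') (preimage_le_sq h.w le) F) p
  let tgt : Coh.HH (f' ⁻¹ᵁ U').toScheme ((Scheme.Modules.pullback r).obj F₀) p →
      Γ((Coh.Rpush f' p).obj G, U') :=
    fun z => E'.ε U' G p (e z)
  have htgt : Bijective tgt := (bijective_ε_of_isAffineOpen f' E' G hU' p).comp e.bijective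
  let π := pullB φ r hsq W F₀ hW hcov p
  have key : ∀ z, (B.bc p F).app U' (src z) = tgt (π z) := fun z => by
    induction z with
    | zero =>
      have h0 : src 0 = 0 := by simp only [src, Function.comp_apply, map_zero]
      have h1 : tgt (π 0) = 0 := by simp only [tgt, map_zero]
      rw [h0, map_zero, h1]
    | add a b ha hb =>
      have h0 : src (a + b) = src a + src b := by simp only [src, Function.comp_apply, map_add]
      have h1 : tgt (π (a + b)) = tgt (π a) + tgt (π b) := by simp only [tgt, map_add]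
      rw [h0, map_add, ha, hb, h1]
    | tmul x b =>
      have e₁ : src (x ⊗ₜ b) = b • resM ((Scheme.Modules.pullback g).obj R) le (pullSec g (E.ε U F p x)) := by
        show hμ.equiv (b ⊗ₜ E.ε U F p x) = _
        rw [IsBaseChange.equiv_tmul, hμe, pullMap_eq_resM_pullSec g hU hU' le R]
      have e₂ : π (x ⊗ₜ b) = b • pullMod r F₀ p x := pullB_tmul φ r hsq W F₀ hW hcov p x b
      rw [e₁, e₂]
      show (B.bc p F).app U' _ = E'.ε U' G p (e (b • pullMod r F₀ p x))
      rw [map_smul e, Scheme.Modules.Hom.app_smul, app_resM]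
      refine Eq.trans (congrArg (fun t => b • resM ((Coh.Rpush f' p).obj G) le t)
        (bc_pullSec_ε B p F U x)) ?_
      refine Eq.trans (congrArg (b • ·) ((ε_res f' E' le G p _).trans
        (congrArg (E'.ε U' G p) (resLE_pullOn g' (f ⁻¹ᵁ U) (sqLE f g f' g' h.w U)
          (f'.preimage_mono le) F p x)))) ?_
      refine (ε_smul f' E' G p b _).symm.trans ?_
      exact congrArg (fun t => E'.ε U' G p (Sheaf.H.map (Coh.smulAb (G.restrict (f' ⁻¹ᵁ U').ι) t) p
        (pullOn g' (f ⁻¹ᵁ U) (f' ⁻¹ᵁ U') (preimage_le_sq h.w le) F p x)))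
          (toGlobal_toSpecSections f' hU' b).symm
  have hk : ⇑((B.bc p F).app U') ∘ src = tgt ∘ ⇑π := funext key
  obtain ⟨hs, hb⟩ := pullB_iff φ r hsq W F₀ hW hcov p
  constructor
  · rw [← hs, ← Surjective.of_comp_iff _ hsrc.2, hk]
    exact ⟨fun hc y => (hc (tgt y)).imp fun z hz => htgt.1 hz, fun hc => htgt.2.comp hc⟩
  · rw [← hb, ← Bijective.of_comp_iff _ hsrc, hk]
    exact Bijective.of_comp_iff' htgt _

end Groth.Agent.CohExch
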