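import Groth.Agent.CohExch.FlatAlg
import Groth.Agent.CohExch.Local
import Groth.Agent.CohExch.IsoCrit

/-!
# Base change for flat modules with flat higher direct images
-/

set_option autoImplicit false
set_option backward.isDefEq.respectTransparency false

universe u

open CategoryTheory CategoryTheory.Limits AlgebraicGeometry Opposite TopologicalSpace TensorProduct
open CohPull CohCmp Function
open Groth.Agent.Coherent Groth.Agent.Coherent.CohBC Groth.Agent.CohCmpLib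

namespace Groth.Agent.CohExch

theorem toGlobal_comp_specMap {A R : Type u} [CommRing A] [CommRing R] {Z : Scheme.{u}}
    (t : Z ⟶ Spec (CommRingCat.of R)) (ψ : CommRingCat.of A ⟶ CommRingCat.of R) (a : A) :
    Coh.toGlobal (t ≫ Spec.map ψ) a = Coh.toGlobal t (ψ a) := by
  show (t ≫ Spec.map ψ).appTop ((Scheme.ΓSpecIso (CommRingCat.of A)).inv a) = _
  rw [Scheme.Hom.comp_appTop, ConcreteCategory.comp_apply]
  exact congrArg t.appTop (ConcreteCategory.congr_hom (Scheme.ΓSpecIso_inv_naturality ψ) a).symm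

/-- A module with equal scalar actions is flat with either. -/
theorem flat_of_smul_eq {A : Type u} [CommRing A] {M : Type u} [AddCommGroup M] (m₁ m₂ : Module A M)
    (h : ∀ (a : A) (x : M), (letI := m₁; a • x) = (letI := m₂; a • x)) (hf : @Module.Flat A M _ _ m₁) :
    @Module.Flat A M _ _ m₂ := by
  have : m₁ = m₂ := Module.ext (funext fun a => funext fun x => h a x)
  exact this ▸ hf

variable {X Y S X' Y' S' : Scheme.{u}} {a : X ⟶ S} {b : Y ⟶ S} {f : X ⟶ Y}
  {g : S' ⟶ S} {gY : Y' ⟶ Y} {b' : Y' ⟶ S'} {gX : X' ⟶ X} {f' : X' ⟶ Y'}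
  [HasInjectiveResolutions X.Modules] [HasInjectiveResolutions X'.Modules]
  {Δ : RDer.DerivedLES (Scheme.Modules.pushforward f)}
  {Δ' : RDer.DerivedLES (Scheme.Modules.pushforward f')} {E : SectCmp f Δ} {E' : SectCmp f' Δ'}

set_option maxHeartbeats 4000000 in
theorem bijective_bc_app_of_flat (hf : f ≫ b = a) (hY : IsPullback gY b' b g)
    (hX : IsPullback gX f' f gY) (B : GenBC f gY f' gX hX.w E E') [IsSeparated f] [QuasiCompact f]
    (F : X.Modules) [Coh.IsQCoh F] (hF : FlatMod.IsFlatOver a F)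
    (hR : ∀ n : ℕ, FlatMod.IsFlatOver b ((Coh.Rpush f n).obj F)) (p : ℕ)
    {T : S.Opens} (hT : IsAffineOpen T) {U : Y.Opens} (hU : IsAffineOpen U) (eU : U ≤ b ⁻¹ᵁ T)
    {T' : S'.Opens} (hT' : IsAffineOpen T') (eT : T' ≤ g ⁻¹ᵁ T) :
    IsAffineOpen (gY ⁻¹ᵁ U ⊓ b' ⁻¹ᵁ T') ∧ Bijective ((B.bc p F).app (gY ⁻¹ᵁ U ⊓ b' ⁻¹ᵁ T')) := by
  let V' := gY ⁻¹ᵁ U ⊓ b' ⁻¹ᵁ T'
  have hV' : IsAffineOpen V' := by
    have : IsAffine T.toScheme := hT
    have : IsAffine T'.toScheme := hT'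
    have : IsAffine U.toScheme := hU
    exact .of_isIso (Scheme.Hom.isPullback_resLE hY eT eU rfl).isoPullback.hom
  refine ⟨hV', ?_⟩
  have eV : V' ≤ gY ⁻¹ᵁ U := inf_le_left
  have hpo := (isIso_pushoutSection_iff hY eT eU (rfl : V' = gY ⁻¹ᵁ U ⊓ b' ⁻¹ᵁ T')).1
    (isIso_pushoutSection_of_isAffineOpen hY eT eU rfl hT hT' hU)
  let ψ := b.appLE T U eU
  let _ : Algebra Γ(S, T) Γ(Y, U) := ψ.hom.toAlgebra
  let _ : Algebra Γ(S, T) Γ(S', T') := (g.appLE T T' eT).hom.toAlgebra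
  let _ : Algebra Γ(Y, U) Γ(Y', V') := (gY.appLE U V' eV).hom.toAlgebra
  let _ : Algebra Γ(S', T') Γ(Y', V') := (b'.appLE T' V' inf_le_right).hom.toAlgebra
  let _ : Algebra Γ(S, T) Γ(Y', V') := ((gY.appLE U V' eV).hom.comp ψ.hom).toAlgebra
  have : IsScalarTower Γ(S, T) Γ(Y, U) Γ(Y', V') := .of_algebraMap_eq fun _ => rfl
  have : IsScalarTower Γ(S, T) Γ(S', T') Γ(Y', V') :=
    .of_algebraMap_eq fun r => ConcreteCategory.congr_hom hpo.w r
  have : Algebra.IsPushout Γ(S, T) Γ(Y, U) Γ(S', T') Γ(Y', V') :=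
    CommRingCat.isPushout_iff_isPushout.1 hpo
  let _ := overSections f hU
  let iA : (f ⁻¹ᵁ U).toScheme.Over (Spec (CommRingCat.of Γ(S, T))) :=
    ⟨toSpecSections f hU ≫ Spec.map ψ⟩
  have hsq := isPullback_toSpecSections f hU
  have : QuasiCompact ((f ⁻¹ᵁ U).toScheme ↘ Spec (CommRingCat.of Γ(Y, U))) :=
    MorphismProperty.of_isPullback (P := @QuasiCompact) hsq inferInstance
  have hs : IsSeparated ((f ⁻¹ᵁ U).toScheme ↘ Spec (CommRingCat.of Γ(Y, U))) :=
    MorphismProperty.of_isPullback (P := @IsSeparated) hsq inferInstance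
  have : IsSeparated ((f ⁻¹ᵁ U).toScheme ↘ Spec (CommRingCat.of Γ(S, T))) := by
    show IsSeparated (toSpecSections f hU ≫ Spec.map ψ)
    have : IsSeparated (toSpecSections f hU) := hs
    infer_instance
  let F₀ := F.restrict (f ⁻¹ᵁ U).ι
  have : Coh.IsQCoh F₀ := inferInstance
  have hZ : ∀ r : Γ(S, T), Coh.toGlobal ((f ⁻¹ᵁ U).toScheme ↘ Spec (CommRingCat.of Γ(S, T))) r =
      Coh.toGlobal ((f ⁻¹ᵁ U).toScheme ↘ Spec (CommRingCat.of Γ(Y, U))) (ψ r) :=
    toGlobal_comp_specMap (toSpecSections f hU) ψ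
  obtain ⟨ι, _, W, hcov, hW⟩ := exists_affine_cover Γ(Y, U) (f ⁻¹ᵁ U).toScheme
  classical
  have : Fintype ι := Fintype.ofFinite ι
  -- flatness of the cochains
  have hflV : ∀ (k : ℕ) (c : Fin (k + 1) → ι), Module.Flat Γ(S, T) Γ(F₀, cinter W c) := fun k c => by
    let V := (f ⁻¹ᵁ U).ι ''ᵁ cinter W c
    have hV : IsAffineOpen V := (hW k c).image_of_isOpenImmersion _
    have hVU : V ≤ f ⁻¹ᵁ U := (f ⁻¹ᵁ U).ι_image_le _
    have eV' : V ≤ a ⁻¹ᵁ T := by
      rw [← hf, Scheme.Hom.comp_preimage]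
      exact hVU.trans (f.preimage_mono eU)
    have h := (Props12.flat_sections_iff a F hT hV eV').2 fun x _ => hF x
    refine flat_of_smul_eq (M := Γ(F, V)) (EGA43.QcohFlat.overModule a F T V eV') _ (fun r x => ?_) h
    refine congrArg (fun s : Γ(X, V) => s • x) ?_
    show a.appLE T V eV' r = ((f ⁻¹ᵁ U).ι.appIso (cinter W c)).inv
      ((f ⁻¹ᵁ U).toScheme.presheaf.map (homOfLE (le_top (a := cinter W c))).op
        (Coh.toGlobal ((f ⁻¹ᵁ U).toScheme ↘ Spec (CommRingCat.of Γ(S, T))) r))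
    rw [hZ, show Coh.toGlobal ((f ⁻¹ᵁ U).toScheme ↘ Spec (CommRingCat.of Γ(Y, U))) (ψ r) =
      CohCmpLib.pullFun f (ψ r) from toGlobal_toSpecSections f hU (ψ r)]
    subst hf
    refine (ConcreteCategory.congr_hom (Scheme.Hom.appLE_comp_appLE f b T U V eU hVU) r).symm.trans ?_
    show f.appLE U V hVU (ψ r) = _
    simp only [Scheme.Opens.ι_appIso, Iso.refl_inv, CohCmpLib.pullFun,
      Scheme.Opens.topIso_inv, Scheme.Opens.toScheme_presheaf_map]
    show (f.app U ≫ X.presheaf.map _) (ψ r) = X.presheaf.map _ (X.presheaf.map _ (f.app U (ψ r)))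
    refine Eq.trans ?_ (ConcreteCategory.congr_hom (X.presheaf.map_comp _ _) _)
    rfl
  have hfl : ∀ n : ℕ, Module.Flat Γ(S, T) ((cxA Γ(S, T) W F₀).X n) := fun n => by
    have := hflV n
    exact Module.Flat.of_linearEquiv
      (M := DirectSum (Fin (n + 1) → ι) fun c => Γ(F₀, cinter W c))
      (DirectSum.linearEquivFunOnFintype Γ(S, T) (Fin (n + 1) → ι) fun c => Γ(F₀, cinter W c)).symm
  -- flatness of the cohomology
  have hH : ∀ n : ℕ, Module.Flat Γ(S, T) (Coh.HH (f ⁻¹ᵁ U).toScheme F₀ n) := fun n => by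
    have := isQCoh_rpush f F n
    have h := (Props12.flat_sections_iff b ((Coh.Rpush f n).obj F) hT hU eU).2 fun x _ => hR n x
    let _ := EGA43.QcohFlat.overModule b ((Coh.Rpush f n).obj F) T U eU
    refine @Module.Flat.of_linearEquiv Γ(S, T) Γ((Coh.Rpush f n).obj F, U) _ _ _ _ _ _ h
      (LinearEquiv.ofBijective
        { toFun := E.ε U F n
          map_add' := fun x y => map_add (E.ε U F n) x y
          map_smul' := fun r x => ?_ }
        (bijective_ε_of_isAffineOpen f E F hU n))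
    refine Eq.trans ?_ (ε_smul f E F n (ψ r) x)
    exact congrArg (fun t => E.ε U F n (Sheaf.H.map (Coh.smulAb F₀ t) n x))
      ((hZ r).trans (toGlobal_toSpecSections f hU (ψ r)))
  refine (bc_app_iff hX B F hU hV' eV p W hcov hW).2.2 ?_
  exact bijective_exch_of_flat_homology (A := Γ(S, T)) (R := Γ(Y, U)) (B := Γ(Y', V')) Γ(S', T')
    hZ W hcov hW F₀ hfl hH p

end Groth.Agent.CohExch
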