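import Groth.Agent.AmpleLib.Twist2
import Groth.Agent.AmpleLib.RestrictTensor
import Groth.Agent.EulerLib.Twist
import Mathlib.RingTheory.Flat.EquationalCriterion

/-!
# Flatness of sections over affine loci from flatness of sections of high twists
-/

set_option autoImplicit false
set_option backward.isDefEq.respectTransparency false

universe u

open CategoryTheory CategoryTheory.Limits AlgebraicGeometry Opposite TopologicalSpace
open Groth.Agent.Coherent Groth.Agent.PicLib Groth.Agent.AmpleLib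

namespace Groth.Agent.CohExch

variable {X : Scheme.{u}} {A : Type u} [CommRing A] (φ : A →+* Γ(X, ⊤))

/-- The sections over an open are flat over the ring acting through global functions. -/
def FlatSec (M : X.Modules) (U : X.Opens) : Prop :=
  letI := Module.compHom Γ(M, U) ((res (le_top : U ≤ ⊤)).comp φ)
  Module.Flat A Γ(M, U)

theorem FlatSec.of_iso {M N : X.Modules} {U : X.Opens} (e : M ≅ N) (h : FlatSec φ M U) :
    FlatSec φ N U := by
  let := Module.compHom Γ(M, U) ((res (le_top : U ≤ ⊤)).comp φ)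
  let := Module.compHom Γ(N, U) ((res (le_top : U ≤ ⊤)).comp φ)
  let ε : Γ(M, U) ≃ₗ[A] Γ(N, U) :=
    LinearEquiv.ofBijective
      { toFun := e.hom.app U
        map_add' := map_add _
        map_smul' := fun a s => Scheme.Modules.Hom.app_smul e.hom _ s }
      (ConcreteCategory.bijective_of_isIso (e.hom.app U))
  have : Module.Flat A Γ(M, U) := h
  exact Module.Flat.of_linearEquiv ε.symm

/-- Flat sections of high twists give flat sections over the locus of a section. -/
theorem flatSec_glocus [CompactSpace X] [QuasiSeparatedSpace X] (F : X.Modules) [Coh.IsQCoh F]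
    {L : X.Modules} (hL : PicF.IsInvertible L) (b : Γ(L, ⊤)) (k₀ : ℕ)
    (h : ∀ k, k₀ ≤ k → FlatSec φ (CohB1.tensorMod F (CohB1.tensorPow L k)) ⊤) :
    FlatSec φ F (glocus L b) := by
  classical
  let G := glocus L b
  let β : Γ(L, G) := resM L le_top b
  have hβ : IsGen L G β := isGen_glocus b
  let := Module.compHom Γ(F, G) ((res (le_top : G ≤ ⊤)).comp φ)
  -- multiplying by a power of `b`
  have hraise : ∀ n d : ℕ, ∃ R : Γ(CohB1.tensorMod F (CohB1.tensorPow L n), ⊤) →
      Γ(CohB1.tensorMod F (CohB1.tensorPow L (n + d)), ⊤),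
      (∀ (u v), R (u + v) = R u + R v) ∧ (∀ (r : Γ(X, ⊤)) u, R (r • u) = r • R u) ∧
      (∀ u (m : Γ(F, G)), resM _ (le_top : G ≤ ⊤) u = tmul m (powSec β n) →
        resM _ (le_top : G ≤ ⊤) (R u) = tmul m (powSec β (n + d))) ∧
      ∀ u, tmul u (powSec b d) = 0 → R u = 0 := fun n d => by
    obtain ⟨α, hα⟩ := exists_assocHom F (CohB1.tensorPow L d) (isInvertible_tensorPow hL n)
    obtain ⟨e, he⟩ := exists_powIso hL n d
    refine ⟨fun u => (tensorIso (Iso.refl F) e).hom.app ⊤ (α.app ⊤ (tmul u (powSec b d))),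
      fun u v => by simp only [tmul_add_left, map_add],
      fun r u => by simp only [tmul_smul_left, Scheme.Modules.Hom.app_smul], fun u m hu => ?_,
      fun u hu => by simp only [hu, map_zero]⟩
    rw [← app_resM, ← app_resM, resM_tmul, hu, resM_powSec, hα]
    exact (tensorMap_tmul _ _ _ _).trans (congrArg _ (he _ _))
  -- extending a finite family to a common level
  have hext : ∀ {l : ℕ} (m : Fin l → Γ(F, G)), ∃ k, k₀ ≤ k ∧
      ∀ i, ∃ u : Γ(CohB1.tensorMod F (CohB1.tensorPow L k), ⊤),
        resM _ (le_top : G ≤ ⊤) u = tmul (m i) (powSec β k) := fun {l} m => by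
    choose n t ht using fun i => exists_extend F b hL (m i)
    refine ⟨k₀ + Finset.univ.sup n, Nat.le_add_right _ _, fun i => ?_⟩
    obtain ⟨d, hd⟩ := Nat.exists_eq_add_of_le
      ((Finset.le_sup (f := n) (Finset.mem_univ i)).trans (Nat.le_add_left _ k₀))
    rw [hd]
    obtain ⟨R, -, -, hR, -⟩ := hraise (n i) d
    exact ⟨R (t i), hR _ _ (ht i)⟩
  refine Module.Flat.iff_forall_isTrivialRelation.2 fun {l f x} hfx => ?_
  obtain ⟨k, hk, hu⟩ := hext x
  choose u hu using hu
  have hres : resM _ (le_top : G ≤ ⊤) (∑ i, φ (f i) • u i) = 0 := by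
    rw [map_sum]
    simp only [resM_smul, hu, ← tmul_smul_left]
    have hs : ∑ i, X.presheaf.map (homOfLE (le_top : G ≤ ⊤)).op (φ (f i)) • x i = 0 := hfx
    have key : ∀ s : Finset (Fin l), ∑ i ∈ s, tmul (X.presheaf.map (homOfLE (le_top : G ≤ ⊤)).op
        (φ (f i)) • x i) (powSec β k) = tmul (∑ i ∈ s,
          X.presheaf.map (homOfLE (le_top : G ≤ ⊤)).op (φ (f i)) • x i) (powSec β k) := fun s => by
      induction s using Finset.induction_on with
      | empty => rw [Finset.sum_empty, Finset.sum_empty, tmul_zero_left]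
      | insert a s ha ih => rw [Finset.sum_insert ha, Finset.sum_insert ha, ih, tmul_add_left]
    rw [key, hs, tmul_zero_left]
  have := isQCoh_tensor_invertible F (isInvertible_tensorPow hL k)
  obtain ⟨d, hd⟩ := exists_tmul_powSec_eq_zero (CohB1.tensorMod F (CohB1.tensorPow L k)) b hL _ hres
  obtain ⟨R, hRadd, hRsmul, hR, hR0⟩ := hraise k d
  let R' : Γ(CohB1.tensorMod F (CohB1.tensorPow L k), ⊤) →+
      Γ(CohB1.tensorMod F (CohB1.tensorPow L (k + d)), ⊤) := AddMonoidHom.mk' R hRadd
  let := Module.compHom Γ(CohB1.tensorMod F (CohB1.tensorPow L (k + d)), ⊤)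
    ((res (le_top : (⊤ : X.Opens) ≤ ⊤)).comp φ)
  have hflat : Module.Flat A Γ(CohB1.tensorMod F (CohB1.tensorPow L (k + d)), ⊤) :=
    h (k + d) (hk.trans (Nat.le_add_right _ _))
  have hres_top : ∀ a : A, res (le_top : (⊤ : X.Opens) ≤ ⊤) (φ a) = φ a := fun a => by
    show X.presheaf.map (homOfLE _).op (φ a) = φ a
    simp
  have hrel : ∑ i, f i • R (u i) = 0 := by
    have h0 : R' (∑ i, φ (f i) • u i) = 0 := hR0 _ hd
    rw [map_sum] at h0
    refine (Finset.sum_congr rfl fun i _ => ?_).trans h0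
    show res (le_top : (⊤ : X.Opens) ≤ ⊤) (φ (f i)) • R (u i) = R (φ (f i) • u i)
    rw [hRsmul, hres_top]
  obtain ⟨p, c, y, hy, hc⟩ := Module.Flat.iff_forall_isTrivialRelation.1 hflat hrel
  have hβk := (bijective_tmul_powSec (M := F) hβ (k + d) G le_rfl)
  simp only [resM_self] at hβk
  choose w hw using fun j => hβk.2 (resM _ (le_top : G ≤ ⊤) (y j))
  refine ⟨p, c, w, fun i => hβk.1 ?_, hc⟩
  show tmul (x i) (powSec β (k + d)) = tmul (∑ j, c i j • w j) (powSec β (k + d))
  rw [← hR _ _ (hu i), show R (u i) = _ from hy i, map_sum]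
  have key : ∀ s : Finset (Fin p), ∑ j ∈ s, resM _ (le_top : G ≤ ⊤) (c i j • y j) =
      tmul (∑ j ∈ s, c i j • w j) (powSec β (k + d)) := fun s => by
    induction s using Finset.induction_on with
    | empty => rw [Finset.sum_empty, Finset.sum_empty, tmul_zero_left]
    | insert a s ha ih =>
      rw [Finset.sum_insert ha, Finset.sum_insert ha, ih, tmul_add_left]
      refine congrArg (· + _) ?_
      show resM _ le_top (res (le_top : (⊤ : X.Opens) ≤ ⊤) (φ (c i a)) • y a) =
        tmul (res (le_top : G ≤ ⊤) (φ (c i a)) • w a) (powSec β (k + d))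
      rw [resM_smul, hres_top, tmul_smul_left]
      exact congrArg _ (hw a).symm
  exact key _

/-- On a scheme with an ample module, flat sections of high twists give flat sections on a basis. -/
theorem exists_flatSec_affine {L : X.Modules} (hL : CohB1.IsAmple L) (F : X.Modules) [Coh.IsQCoh F]
    (n₀ : ℕ) (h : ∀ n, n₀ ≤ n → FlatSec φ (CohB1.tensorMod F (CohB1.tensorPow L n)) ⊤) (x : X) :
    ∃ W : X.Opens, IsAffineOpen W ∧ x ∈ W ∧ FlatSec φ F W := by
  obtain ⟨hLi, hc, hx⟩ := isAmple_iff_affGlocus.1 hL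
  have := quasiSeparatedSpace_of_affGlocus hLi hx
  obtain ⟨m, hm, b, hxb, -, hb⟩ := hx x
  refine ⟨_, hb, hxb, flatSec_glocus φ F (isInvertible_tensorPow hLi m) b n₀ fun k hk => ?_⟩
  obtain ⟨e, -⟩ := exists_powPowIso hLi m k
  exact FlatSec.of_iso φ (tensorIso (Iso.refl F) e.symm) (h _ (hk.trans (Nat.le_mul_of_pos_left k hm)))

end Groth.Agent.CohExch
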