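import Groth.Agent.CohExch.Chart0
import Groth.Agent.CohExch.ChartApps
import Groth.Agent.CohExch.TwistFlat
import Groth.Agent.Coherent.Serre.Vanishing
import Groth.Agent.Coherent.RestrictTensorIso
import Groth.Agent.MorProj.VeryAmple
import Groth.Agent.TwistLib.TwistInv
import Groth.Agent.RelVALib.PnImm
import Groth.Agent.AmpleLib.CounitEpi
import Groth.Agent.CohExch.FlatGeom
import Groth.Agent.Props12.FinLocFree
import Groth.Agent.EGA43.QcohFlat
import Groth.Agent.EGA43.Cons.FibFlatLocus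
import Groth.Agent.EGA43.DvrCrit.Main

/-!
# Flatness against high twists over an affine open of the base
-/

set_option autoImplicit false
set_option backward.isDefEq.respectTransparency false

universe u

open CategoryTheory CategoryTheory.Limits AlgebraicGeometry Opposite TopologicalSpace
open Groth.Agent.Coherent Groth.Agent.Coherent.CohBC Groth.Agent.PicLib Groth.Agent.AmpleLib

namespace Groth.Agent.CohExch

variable {X Y : Scheme.{u}}

section Pn

variable (r : ℕ)

theorem hcov_polyGrading (R : Type u) [CommRing R]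
    (x : ProjectiveSpectrum (CohB1.polyGrading r R)) :
    ∃ f ∈ CohB1.polyGrading r R 1, f ∉ x.asHomogeneousIdeal.toIdeal := by
  obtain ⟨i, hi⟩ := Opens.mem_iSup.1 ((ProjLib.iSup_basicOpen_X r R).ge (Set.mem_univ x))
  exact ⟨_, ProjLib.X_mem_polyGrading r R i, hi⟩

theorem isInvertible_twistOver_one :
    PicF.IsInvertible (Twist.twistOver r Y 1) :=
  PicLoc.isInvertible_pullback _ (TwistLib.isInvertible_twist (hcov_polyGrading r _) 1)

/-- The powers of the pulled back `O(1)` are the pulled back twists. -/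
theorem nonempty_pullback_twistOver_iso (i : X ⟶ CohB1.ProjSpaceOver r Y) (n : ℕ) :
    Nonempty ((Scheme.Modules.pullback i).obj (Twist.twistOver r Y (n : ℤ)) ≅
      CohB1.tensorPow ((Scheme.Modules.pullback i).obj (Twist.twistOver r Y 1)) n) := by
  let p := pullback.fst (CohB1.ProjSpace.toSpec r (ULift.{u} ℤ)) (specULiftZIsTerminal.from Y)
  obtain ⟨e⟩ := TwistLib.nonempty_twist_pow_iso (𝒜 := CohB1.polyGrading r (ULift.{u} ℤ))
    (hcov_polyGrading r _) n
  have hO : PicF.IsInvertible (Twist.twistProjSpace r (ULift.{u} ℤ) 1) :=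
    TwistLib.isInvertible_twist (hcov_polyGrading r _) 1
  obtain ⟨e₁, -⟩ := exists_pullPowIso p hO n
  obtain ⟨e₂, -⟩ := exists_pullPowIso i (isInvertible_twistOver_one (Y := Y) r) n
  exact ⟨(Scheme.Modules.pullback i).mapIso ((Scheme.Modules.pullback p).mapIso e ≪≫ e₁) ≪≫ e₂⟩

/-- The pulled back `O(1)` is ample over affine opens of the base. -/
theorem isAmple_restrict_twist (i : X ⟶ CohB1.ProjSpaceOver r Y) [IsImmersion i]
    [QuasiCompact (i ≫ CohB1.ProjSpaceOver.toBase r Y)] {V : Y.Opens} (hV : IsAffineOpen V) :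
    CohB1.IsAmple (((Scheme.Modules.pullback i).obj (Twist.twistOver r Y 1)).restrict
      ((i ≫ CohB1.ProjSpaceOver.toBase r Y) ⁻¹ᵁ V).ι) := by
  let f := i ≫ CohB1.ProjSpaceOver.toBase r Y
  let Q : (CohB1.ProjSpaceOver r Y).Opens :=
    pullback.snd (CohB1.ProjSpace.toSpec r (ULift.{u} ℤ)) (specULiftZIsTerminal.from Y) ⁻¹ᵁ V
  have : IsAffineHom
      (Q.ι ≫ pullback.fst (CohB1.ProjSpace.toSpec r (ULift.{u} ℤ)) (specULiftZIsTerminal.from Y)) :=
    ⟨fun A hA => by
      rw [← Q.ι.isAffineOpen_iff_of_isOpenImmersion]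
      have he : Q.ι ''ᵁ ((Q.ι ≫ pullback.fst (CohB1.ProjSpace.toSpec r (ULift.{u} ℤ))
          (specULiftZIsTerminal.from Y)) ⁻¹ᵁ A) =
          pullback.fst (CohB1.ProjSpace.toSpec r (ULift.{u} ℤ)) (specULiftZIsTerminal.from Y) ⁻¹ᵁ A ⊓ Q := by
        rw [Scheme.Hom.comp_preimage, Scheme.Hom.image_preimage_eq_opensRange_inf,
          Scheme.Opens.opensRange_ι, inf_comm]
      rw [he]
      exact isAffineOpen_fst_inf_snd (CohB1.ProjSpace.toSpec r (ULift.{u} ℤ))
        (specULiftZIsTerminal.from Y) (isAffineOpen_top _) hA hV le_top le_top⟩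
  have hQ := isAmple_pullback_of_isAffineHom
    (Q.ι ≫ pullback.fst (CohB1.ProjSpace.toSpec r (ULift.{u} ℤ)) (specULiftZIsTerminal.from Y))
    (MorProj.isAmple_twistProjSpace.{u} r)
  rw [← isAmple_pullback_comp_iff] at hQ
  have : CompactSpace (f ⁻¹ᵁ V : Scheme.{u}) :=
    isCompact_iff_compactSpace.1 (f.isCompact_preimage hV.isCompact)
  have hA := isAmple_pullback_of_range_subset (L := Twist.twistOver r Y 1) ((f ⁻¹ᵁ V).ι ≫ i)
    (i.isEmbedding.comp (f ⁻¹ᵁ V).ι.isOpenEmbedding.isEmbedding) Q (by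
      rintro _ ⟨z, rfl⟩
      exact z.2) hQ
  rw [← isAmple_pullback_comp_iff] at hA
  exact isAmple_of_iso (restrictIsoPullback _ _).symm hA

end Pn

/-- Twisting by an invertible module preserves flatness. -/
theorem isFlatOver_twist (f : X ⟶ Y) {L : X.Modules} (hL : PicF.IsInvertible L) (F : X.Modules)
    (h : FlatMod.IsFlatOver f F) : FlatMod.IsFlatOver f (CohB1.tensorMod F L) := fun x => by
  obtain ⟨W, g, hmem, hg⟩ := exists_cover hL
  let _ := (f.stalkMap x).hom.toAlgebra
  let _ := FlatMod.moduleStalkOver f F x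
  let _ := FlatMod.moduleStalkOver f (CohB1.tensorMod F L) x
  have : IsScalarTower (Y.presheaf.stalk (f x)) (X.presheaf.stalk x) (F.presheaf.stalk x) :=
    IsScalarTower.of_compHom _ _ _
  have : IsScalarTower (Y.presheaf.stalk (f x)) (X.presheaf.stalk x)
      ((CohB1.tensorMod F L).presheaf.stalk x) := IsScalarTower.of_compHom _ _ _
  have hb := And.intro (EulerLib.twistStalk_injective (hmem x) (hg x) F)
    (EulerLib.twistStalk_surjective (hmem x) (hg x) F)
  let e : F.presheaf.stalk x ≃ₗ[X.presheaf.stalk x] (CohB1.tensorMod F L).presheaf.stalk x :=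
    LinearEquiv.ofBijective
      { toFun := EulerLib.twistStalk (g x) (hmem x) F
        map_add' := EulerLib.twistStalk_add (g x) (hmem x) F
        map_smul' := EulerLib.twistStalk_smul (g x) (hmem x) F } hb
  have : Module.Flat (Y.presheaf.stalk (f x)) (F.presheaf.stalk x) := h x
  exact Module.Flat.of_linearEquiv (e.restrictScalars (Y.presheaf.stalk (f x))).symm

variable (f : X ⟶ Y) {F : X.Modules}

/-- A chart on a given affine open. -/
theorem exists_chartOn [IsProper f] [IsLocallyNoetherian Y] (hF : Coh.IsCoh F)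
    (hfl : FlatMod.IsFlatOver f F) {V : Y.Opens} (hV : IsAffineOpen V) :
    ∃ C : Chart f F, C.U = V := by
  let _ := overSections f hV
  have : IsProper ((f ⁻¹ᵁ V).toScheme ↘ Spec (CommRingCat.of Γ(Y, V))) :=
    MorphismProperty.of_isPullback (P := @IsProper) (isPullback_toSpecSections f hV) inferInstance
  have : IsNoetherianRing Γ(Y, V) := IsLocallyNoetherian.component_noetherian ⟨V, hV⟩
  obtain ⟨D⟩ := nonempty_perfData (A := Γ(Y, V)) (F.restrict (f ⁻¹ᵁ V).ι)
    (AmpleLib.isCoh_restrict _ F hF) (isFlatOver_toSpecSections hfl hV)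
  exact ⟨⟨V, hV, D⟩, rfl⟩

/-- Vanishing of higher cohomology makes the degree zero cokernel flat. -/
theorem Chart.flat_zero_of_vanish {f : X ⟶ Y} [IsSeparated f] (C : Chart f F)
    (h : ∀ p : ℕ, 0 < p → Subsingleton (Coh.HH (f ⁻¹ᵁ C.U).toScheme (F.restrict (f ⁻¹ᵁ C.U).ι) p)) :
    C.Flat ((0 : ℕ) : ℤ) := by
  let _ := overSections f C.hU
  obtain ⟨N, hN⟩ := C.exists_flat_large
  suffices ∀ d p : ℕ, N ≤ p + d → C.Flat p from this N 0 (by omega)
  intro d
  induction d with
  | zero => exact fun p hp => hN p hp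
  | succ d ih =>
    intro p hp
    have h1 : FlatAt C.P (-((p + 1 : ℕ) : ℤ)) := ih (p + 1) (by omega)
    have hs : Subsingleton (C.P.homology (-((p + 1 : ℕ) : ℤ))) :=
      haveI := h (p + 1) p.succ_pos
      (C.data.hhHomology (p + 1)).symm.toEquiv.subsingleton
    have h2 := flatAt_succ_of_flat_homology C.P C.finite_free _ h1 inferInstance
    show FlatAt C.P (-(p : ℤ))
    rwa [show -((p + 1 : ℕ) : ℤ) + 1 = -(p : ℤ) by omega] at h2

/-- For large twists by a relatively ample module the direct image is locally free over an affine open. -/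
theorem exists_trivial_nhd_twist [IsProper f] [IsNoetherian Y] {L : X.Modules}
    (hL : PicF.IsInvertible L) (hF : Coh.IsCoh F) (hfl : FlatMod.IsFlatOver f F)
    {V : Y.Opens} (hV : IsAffineOpen V) (hA : CohB1.IsAmple (L.restrict (f ⁻¹ᵁ V).ι)) :
    ∃ N : ℕ, ∀ n, N ≤ n → ∀ y ∈ V, ∃ (W : Y.Opens) (m : ℕ), y ∈ W ∧
      Nonempty (((Scheme.Modules.pushforward f).obj
        (CohB1.tensorMod F (CohB1.tensorPow L n))).restrict W.ι ≅ FlatMod.freeMod W.toScheme m) := by
  have : IsLocallyNoetherian X := LocallyOfFiniteType.isLocallyNoetherian f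
  let _ := overSections f hV
  have : IsProper ((f ⁻¹ᵁ V).toScheme ↘ Spec (CommRingCat.of Γ(Y, V))) :=
    MorphismProperty.of_isPullback (P := @IsProper) (isPullback_toSpecSections f hV) inferInstance
  have : IsNoetherianRing Γ(Y, V) := IsLocallyNoetherian.component_noetherian ⟨V, hV⟩
  obtain ⟨N, hN⟩ := Serre.exists_subsingleton_HH_twist Γ(Y, V) hA (F.restrict (f ⁻¹ᵁ V).ι)
    (AmpleLib.isCoh_restrict _ F hF)
  refine ⟨N, fun n hn y hy => ?_⟩
  have hG : Coh.IsCoh (CohB1.tensorMod F (CohB1.tensorPow L n)) :=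
    EulerLib.isCoh_twist (isInvertible_tensorPow hL n) hF
  have := hG.1
  obtain ⟨C, hC⟩ := exists_chartOn f hG (isFlatOver_twist f (isInvertible_tensorPow hL n) F hfl) hV
  subst hC
  refine C.exists_trivial_nhd0 (C.flat_zero_of_vanish fun p hp => ?_) hy
  let P := f ⁻¹ᵁ C.U
  obtain ⟨e, -⟩ := exists_pullPowIso P.ι hL n
  let e' : CohB1.tensorPow (L.restrict P.ι) n ≅ (CohB1.tensorPow L n).restrict P.ι :=
    powIsoOfIso (restrictIsoPullback P.ι L) n ≪≫ e.symm ≪≫ (restrictIsoPullback P.ι _).symm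
  exact Serre.HH_subsingleton_of_iso Γ(Y, C.U)
    (AmpleLib.tensorIso (Iso.refl (F.restrict P.ι)) e' ≪≫ restrictTensorIso P.ι F (CohB1.tensorPow L n))
    p (hN n hn p hp)

/-- Flatness of the sections over the preimage of an open, read on the restriction. -/
theorem flatSec_restrict (G : X.Modules) (V : Y.Opens)
    (h : Module.Flat Γ(Y, V) Γ((Scheme.Modules.pushforward f).obj G, V)) :
    FlatSec (f.appLE V ((f ⁻¹ᵁ V).ι ''ᵁ ⊤) (by simp)).hom (G.restrict (f ⁻¹ᵁ V).ι) ⊤ := by
  let P := f ⁻¹ᵁ V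
  have hP : P.ι ''ᵁ ⊤ = P := by simp [P]
  let φ : Γ(Y, V) →+* Γ(P.toScheme, ⊤) := (f.appLE V (P.ι ''ᵁ ⊤) hP.le).hom
  let := Module.compHom Γ(G.restrict P.ι, ⊤) ((res (le_top : (⊤ : P.toScheme.Opens) ≤ ⊤)).comp φ)
  let fwd : Γ(G, P) → Γ(G.restrict P.ι, ⊤) := fun s => resM G hP.le s
  let bwd : Γ(G.restrict P.ι, ⊤) → Γ(G, P) := fun t => resM G hP.ge t
  let ε : Γ((Scheme.Modules.pushforward f).obj G, V) ≃ₗ[Γ(Y, V)] Γ(G.restrict P.ι, ⊤) :=
    { toFun := fun s => fwd s
      map_add' := fun a b => map_add (resM G hP.le) a b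
      map_smul' := fun a s => by
        have e1 := resM_smul G hP.le (f.app V a) (show Γ(G, P) from s)
        refine e1.trans ?_
        have e2 : X.presheaf.map (homOfLE hP.le).op (f.app V a) =
            (P.ι.appIso ⊤).inv (res (le_top : (⊤ : P.toScheme.Opens) ≤ ⊤) (φ a)) := by
          show _ = (P.ι.appIso ⊤).inv (P.toScheme.presheaf.map (homOfLE _).op (φ a))
          simp [φ, Scheme.Hom.appLE]
          rfl
        exact congrArg (fun c : Γ(X, P.ι ''ᵁ ⊤) => c • resM G hP.le (show Γ(G, P) from s)) e2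
      invFun := fun t => bwd t
      left_inv := fun s => by
        show resM G hP.ge (resM G hP.le (show Γ(G, P) from s)) = _
        rw [resM_resM, resM_self]
      right_inv := fun t => by
        show resM G hP.le (resM G hP.ge (show Γ(G, P.ι ''ᵁ ⊤) from t)) = _
        rw [resM_resM, resM_self] }
  exact Module.Flat.of_linearEquiv ε.symm

/-- Locally free direct images of large twists give flatness at the points over an affine open. -/
theorem isFlatOverAt_of_twists [IsLocallyNoetherian X] [QuasiCompact f] [QuasiSeparated f] {L : X.Modules}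
    (hL : PicF.IsInvertible L) (hF : Coh.IsCoh F) {V : Y.Opens} (hV : IsAffineOpen V)
    (hA : CohB1.IsAmple (L.restrict (f ⁻¹ᵁ V).ι)) (N : ℕ)
    (h : ∀ n, N ≤ n → FlatMod.IsFinLocFree ((Scheme.Modules.pushforward f).obj
      (CohB1.tensorMod F (CohB1.tensorPow L n)))) {x : X} (hx : f x ∈ V) :
    FlatMod.IsFlatOverAt f F x := by
  have := hF.1
  let P := f ⁻¹ᵁ V
  have hP : P.ι ''ᵁ ⊤ = P := by simp
  let φ : Γ(Y, V) →+* Γ(P.toScheme, ⊤) := (f.appLE V (P.ι ''ᵁ ⊤) hP.le).hom
  have : Coh.IsQCoh (F.restrict P.ι) := (AmpleLib.isCoh_restrict _ F hF).1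
  obtain ⟨W, hW, hxW, hflat⟩ := exists_flatSec_affine φ hA (F.restrict P.ι) N (fun n hn => by
    let G := CohB1.tensorMod F (CohB1.tensorPow L n)
    have hG : Coh.IsQCoh G := (EulerLib.isCoh_twist (isInvertible_tensorPow hL n) hF).1
    have : Coh.IsQCoh ((Scheme.Modules.pushforward f).obj G) := isQCoh_push f G
    obtain ⟨e, -⟩ := exists_pullPowIso P.ι hL n
    let e' : CohB1.tensorPow (L.restrict P.ι) n ≅ (CohB1.tensorPow L n).restrict P.ι :=
      powIsoOfIso (restrictIsoPullback P.ι L) n ≪≫ e.symm ≪≫ (restrictIsoPullback P.ι _).symm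
    refine FlatSec.of_iso φ ((AmpleLib.tensorIso (Iso.refl (F.restrict P.ι)) e' ≪≫
      restrictTensorIso P.ι F (CohB1.tensorPow L n)).symm) ?_
    have : Module.Flat Γ(Y, V) Γ((Scheme.Modules.pushforward f).obj G, V) :=
      Props12.flat_sections_of_isFlat _ (Props12.isFlat_of_isFinLocFree _ (h n hn)) hV
    exact flatSec_restrict f G V this) ⟨x, hx⟩
  let U := P.ι ''ᵁ W
  have hU : IsAffineOpen U := hW.image_of_isOpenImmersion P.ι
  have eU : U ≤ f ⁻¹ᵁ V := (Set.image_subset_range _ _).trans (by simp [P])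
  have hxU : x ∈ U := ⟨⟨x, hx⟩, hxW, rfl⟩
  rw [EGA43.QcohFlat.isFlatOverAt_iff f F hV hU eU hxU]
  let _ := (f.appLE V U eU).hom.toAlgebra
  let _ := EGA43.QcohFlat.overModule f F V U eU
  have : IsScalarTower Γ(Y, V) Γ(X, U) Γ(F, U) := IsScalarTower.of_algebraMap_smul fun _ _ => rfl
  have : Module.Flat Γ(Y, V) Γ(F, U) := by
    refine flat_of_smul_eq _ _ (fun a m => ?_) hflat
    have e2 : (P.ι.appIso W).inv (res (le_top : W ≤ ⊤) (φ a)) = f.appLE V U eU a := by
      show (P.ι.appIso W).inv (P.toScheme.presheaf.map (homOfLE _).op (φ a)) = _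
      simp only [φ, Scheme.Hom.appLE, Scheme.Opens.ι_appIso]
      change (X.presheaf.map _).hom ((X.presheaf.map _).hom ((f.app V).hom a)) =
        (X.presheaf.map _).hom ((f.app V).hom a)
      exact (ConcreteCategory.congr_hom (X.presheaf.map_comp _ _) _).symm
    exact congrArg (fun c : Γ(X, P.ι ''ᵁ W) => c • (show Γ(F, P.ι ''ᵁ W) from m)) e2
  exact EGA43.Cons.flat_localizedModule _

end Groth.Agent.CohExch
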