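import Groth.Agent.CohExch.Local
import Groth.Agent.CohCmpLib.Degree0
import Groth.Agent.Coherent.QcohOps

/-!
# The degree zero base change map over a pair of affine opens is the exchange map
-/

set_option autoImplicit false
set_option backward.isDefEq.respectTransparency false

universe u

open CategoryTheory CategoryTheory.Limits AlgebraicGeometry Opposite TopologicalSpace TensorProduct
open CohPull CohCmp Function
open Groth.Agent.Coherent Groth.Agent.PicLib Groth.Agent.Coherent.CohBC Groth.Agent.CohCmpLib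

namespace Groth.Agent.CohExch

variable {X S X' S' : Scheme.{u}} {f : X ⟶ S} {g : S' ⟶ S} {f' : X' ⟶ S'} {g' : X' ⟶ X}

/-- The degree zero base change map on pulled back sections. -/
theorem bc0_pullSec (w : g' ≫ f = f' ≫ g) (F : X.Modules) (V : S.Opens) (t : Γ(F, f ⁻¹ᵁ V)) :
    (CohBC.bc0 f g f' g' w F).app (g ⁻¹ᵁ V)
        (pullSec g (show Γ((Scheme.Modules.pushforward f).obj F, V) from t)) =
      resM ((Scheme.Modules.pullback g').obj F) (sqLE f g f' g' w V) (pullSec g' t) := by
  have h := ((Scheme.Modules.pullbackPushforwardAdjunction g).homEquiv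
    ((Scheme.Modules.pushforward f).obj F)
    ((Scheme.Modules.pushforward f').obj ((Scheme.Modules.pullback g').obj F))).apply_symm_apply
      (CohBC.bc0Adj f g f' g' w F)
  rw [Adjunction.homEquiv_unit] at h
  refine Eq.trans (congr(($h).app V (show Γ((Scheme.Modules.pushforward f).obj F, V) from t))) ?_
  rfl

/-- The comparison of sections of a direct image with degree zero cohomology, linear over the base. -/
noncomputable def pushH0 (f : X ⟶ S) (F : X.Modules) {U : S.Opens} (hU : IsAffineOpen U) :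
    letI := overSections f hU
    Γ((Scheme.Modules.pushforward f).obj F, U) ≃ₗ[Γ(S, U)] Coh.HHon X F (f ⁻¹ᵁ U) 0 :=
  letI := overSections f hU
  { toFun := fun s => sectH0 F (f ⁻¹ᵁ U) s
    map_add' := fun a b => map_add (sectH0 F (f ⁻¹ᵁ U)) a b
    map_smul' := fun a s => (sectH0_smul F (f ⁻¹ᵁ U) (f.app U a) s).trans
      (congrArg (fun t => Sheaf.H.map (Coh.smulAb (F.restrict (f ⁻¹ᵁ U).ι) t) 0 (sectH0 F (f ⁻¹ᵁ U) s))
        (toGlobal_toSpecSections f hU a).symm)
    invFun := fun x => (sectH0 F (f ⁻¹ᵁ U)).symm x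
    left_inv := fun s => (sectH0 F (f ⁻¹ᵁ U)).symm_apply_apply s
    right_inv := fun x => (sectH0 F (f ⁻¹ᵁ U)).apply_symm_apply x }

set_option maxHeartbeats 2000000 in
/-- Over affine opens `U' → U` the degree zero base change map is the exchange map. -/
theorem bc0_app_iff (h : IsPullback g' f' f g) [QuasiCompact f] [QuasiSeparated f] (F : X.Modules)
    [Coh.IsQCoh F] {U : S.Opens} (hU : IsAffineOpen U) {U' : S'.Opens} (hU' : IsAffineOpen U')
    (le : U' ≤ g ⁻¹ᵁ U) {ι : Type u} [Finite ι] (W : ι → (f ⁻¹ᵁ U).toScheme.Opens)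
    (hcov : ⨆ i, W i = ⊤) :
    letI := overSections f hU
    ∀ (_ : ∀ (k : ℕ) (a : Fin (k + 1) → ι), IsAffineOpen (cinter W a)),
    (Surjective ((CohBC.bc0 f g f' g' h.w F).app U') ↔
        Surjective (exch (cxA Γ(S, U) W (F.restrict (f ⁻¹ᵁ U).ι)) 0 (bMod (g.appLE U U' le).hom))) ∧
      (Bijective ((CohBC.bc0 f g f' g' h.w F).app U') ↔
        Bijective (exch (cxA Γ(S, U) W (F.restrict (f ⁻¹ᵁ U).ι)) 0 (bMod (g.appLE U U' le).hom))) := by
  letI := overSections f hU
  letI := overSections f' hU'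
  intro hW
  have hP := EGA43.InjFibre.isQCoh_pullback g' F
  let R := (Scheme.Modules.pushforward f).obj F
  have hR : Coh.IsQCoh R := isQCoh_push f F
  let G := (Scheme.Modules.pullback g').obj F
  let F₀ := F.restrict (f ⁻¹ᵁ U).ι
  have : Coh.IsQCoh F₀ := inferInstance
  let φ := (g.appLE U U' le).hom
  let _ := φ.toAlgebra
  let r := g'.resLE (f ⁻¹ᵁ U) (f' ⁻¹ᵁ U') (preimage_le_sq h.w le)
  have hsq : IsPullback r ((f' ⁻¹ᵁ U').toScheme ↘ Spec (CommRingCat.of Γ(S', U')))
      ((f ⁻¹ᵁ U).toScheme ↘ Spec (CommRingCat.of Γ(S, U))) (Spec.map (CommRingCat.ofHom φ)) :=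
    isPullback_resLE_toSpec h hU hU' le
  let _ : Module Γ(S, U) Γ((Scheme.Modules.pullback g).obj R, U') := Module.compHom _ φ
  have : IsScalarTower Γ(S, U) Γ(S', U') Γ((Scheme.Modules.pullback g).obj R, U') :=
    IsScalarTower.of_algebraMap_smul fun _ _ => rfl
  obtain ⟨μ, hμ, hμe⟩ := EGA43.InjFibre.pullMap_isBaseChange g hU hU' le (M := R)
  let src : Coh.HHon X F (f ⁻¹ᵁ U) 0 ⊗[Γ(S, U)] Γ(S', U') → Γ((Scheme.Modules.pullback g).obj R, U') :=
    ⇑hμ.equiv ∘ ⇑((LinearEquiv.rTensor Γ(S', U') (pushH0 f F hU).symm).trans (TensorProduct.comm _ _ _))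
  have hsrc : Bijective src := hμ.equiv.bijective.comp (LinearEquiv.bijective _)
  let e := HHCongr Γ(S', U') (pullOnIso g' (f ⁻¹ᵁ U) (f' ⁻¹ᵁ U') (preimage_le_sq h.w le) F) 0
  let tgt : Coh.HH (f' ⁻¹ᵁ U').toScheme ((Scheme.Modules.pullback r).obj F₀) 0 →
      Γ((Scheme.Modules.pushforward f').obj G, U') :=
    fun z => (pushH0 f' G hU').symm (e z)
  have htgt : Bijective tgt := (pushH0 f' G hU').symm.bijective.comp e.bijective
  let π := pullB φ r hsq W F₀ hW hcov 0
  let bc := CohBC.bc0 f g f' g' h.w F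
  have key : ∀ z, bc.app U' (src z) = tgt (π z) := fun z => by
    induction z with
    | zero =>
      have h0 : src 0 = 0 := by simp only [src, Function.comp_apply, map_zero]
      have h1 : tgt (π 0) = 0 := by simp only [tgt, map_zero]
      rw [h0, map_zero, h1]
    | add a b ha hb =>
      have h0 : src (a + b) = src a + src b := by simp only [src, Function.comp_apply, map_add]
      have h1 : tgt (π (a + b)) = tgt (π a) + tgt (π b) := by simp only [tgt, map_add]
      rw [h0, map_add, ha, hb, h1]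
    | tmul x b =>
      obtain ⟨s, rfl⟩ := (pushH0 f F hU).surjective x
      have e₁ : src (pushH0 f F hU s ⊗ₜ b) =
          b • resM ((Scheme.Modules.pullback g).obj R) le (pullSec g s) := by
        show hμ.equiv (b ⊗ₜ (pushH0 f F hU).symm (pushH0 f F hU s)) = _
        rw [IsBaseChange.equiv_tmul, LinearEquiv.symm_apply_apply, hμe,
          pullMap_eq_resM_pullSec g hU hU' le R]
      have e₂ : π (pushH0 f F hU s ⊗ₜ b) = b • pullMod r F₀ 0 (pushH0 f F hU s) :=
        pullB_tmul φ r hsq W F₀ hW hcov 0 (pushH0 f F hU s) b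
      rw [e₁, e₂]
      refine Eq.symm ((LinearEquiv.symm_apply_eq _).2 ?_)
      rw [map_smul e]
      refine Eq.trans ?_ (congrArg (pushH0 f' G hU') (Scheme.Modules.Hom.app_smul bc b _).symm)
      rw [map_smul]
      refine congrArg (fun t => b • t) ?_
      rw [app_resM, bc0_pullSec h.w F U s]
      refine Eq.trans (pullOn_sectH0 g' (f ⁻¹ᵁ U) (f' ⁻¹ᵁ U') (preimage_le_sq h.w le) F s) ?_
      refine congrArg (sectH0 G (f' ⁻¹ᵁ U')) ?_
      exact (resM_resM G (sqLE f g f' g' h.w U) (f'.preimage_mono le) _).symm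
  have hk : ⇑(bc.app U') ∘ src = tgt ∘ ⇑π := funext key
  obtain ⟨hs, hb⟩ := pullB_iff φ r hsq W F₀ hW hcov 0
  constructor
  · rw [← hs, ← Surjective.of_comp_iff _ hsrc.2, hk]
    exact ⟨fun hc y => (hc (tgt y)).imp fun z hz => htgt.1 hz, fun hc => htgt.2.comp hc⟩
  · rw [← hb, ← Bijective.of_comp_iff _ hsrc, hk]
    exact Bijective.of_comp_iff' htgt _

end Groth.Agent.CohExch
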