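import Groth.Agent.CohExch.ChartMain
import Groth.Agent.CohExch.Local0

/-!
# Cohomology and base change in degree zero, over an arbitrary base
-/

set_option autoImplicit false
set_option backward.isDefEq.respectTransparency false

universe u

open CategoryTheory CategoryTheory.Limits AlgebraicGeometry Opposite TopologicalSpace TensorProduct
open CohPull CohCmp Function
open Groth.Agent.Coherent Groth.Agent.Coherent.CohBC

namespace Groth.Agent.CohExch

variable {X S : Scheme.{u}} {f : X ⟶ S} {F : X.Modules}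

/-- The degree zero base change map over an affine open above a chart. -/
theorem Chart.bc0_app_iff (C : Chart f F) {X' S' : Scheme.{u}} {g' : X' ⟶ X} {f' : X' ⟶ S'}
    {g : S' ⟶ S} (h : IsPullback g' f' f g) [QuasiCompact f] [QuasiSeparated f] [Coh.IsQCoh F]
    {U' : S'.Opens} (hU' : IsAffineOpen U') (le : U' ≤ g ⁻¹ᵁ C.U) :
    (Surjective ((CohBC.bc0 f g f' g' h.w F).app U') ↔
        Surjective (exch C.P (-((0 : ℕ) : ℤ)) (bMod (g.appLE C.U U' le).hom))) ∧
      (Bijective ((CohBC.bc0 f g f' g' h.w F).app U') ↔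
        Bijective (exch C.P (-((0 : ℕ) : ℤ)) (bMod (g.appLE C.U U' le).hom))) := by
  let _ := overSections f C.hU
  have := C.data.finite
  obtain ⟨h1, h2⟩ := CohExch.bc0_app_iff h F C.hU hU' le C.data.W C.data.hcov C.data.hW
  obtain ⟨t1, t2⟩ := exch_transfer_iff _ _ _ _ (C.data.tIso 0) (bMod (g.appLE C.U U' le).hom)
  exact ⟨h1.trans t1, h2.trans t2⟩

/-- With flat cokernels over the image, degree zero base change is an isomorphism. -/
theorem isIso_bc0_of_flat [IsSeparated f] [QuasiCompact f] [Coh.IsQCoh F] {X' S' : Scheme.{u}}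
    {g' : X' ⟶ X} {f' : X' ⟶ S'} {g : S' ⟶ S} (h : IsPullback g' f' f g)
    (hC : ∀ z : S', ∃ C : Chart f F, g z ∈ C.U ∧ C.Flat ((0 : ℕ) : ℤ)) :
    IsIso (CohBC.bc0 f g f' g' h.w F) := by
  have : IsSeparated f' := MorphismProperty.of_isPullback (P := @IsSeparated) h inferInstance
  have : QuasiCompact f' := MorphismProperty.of_isPullback (P := @QuasiCompact) h inferInstance
  have : Coh.IsQCoh ((Scheme.Modules.pushforward f).obj F) := isQCoh_push f F
  have : Coh.IsQCoh ((Scheme.Modules.pullback g).obj ((Scheme.Modules.pushforward f).obj F)) :=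
    EGA43.InjFibre.isQCoh_pullback g _
  have : Coh.IsQCoh ((Scheme.Modules.pullback g').obj F) := EGA43.InjFibre.isQCoh_pullback g' _
  have : Coh.IsQCoh ((Scheme.Modules.pushforward f').obj ((Scheme.Modules.pullback g').obj F)) :=
    isQCoh_push f' _
  refine isIso_of_bijective_affine_cover (CohBC.bc0 f g f' g' h.w F) fun z => ?_
  obtain ⟨C, hz, hflat⟩ := hC z
  obtain ⟨U', hU', hzU', le⟩ := exists_isAffineOpen_mem_and_subset (x := z) (U := g ⁻¹ᵁ C.U) hz
  exact ⟨U', hU', hzU', (C.bc0_app_iff h hU' le).2.2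
    (bijective_exch_of_flatAt C.P C.finite_free _ hflat _)⟩

/-- An epimorphic degree zero fibre base change gives a flat cokernel nearby. -/
theorem Chart.exists_flat_of_epi0 [IsSeparated f] [QuasiCompact f] [Coh.IsQCoh F]
    (hfl : FlatMod.IsFlatOver f F) {s : S}
    (hepi : Epi (CohBC.bc0 f (S.fromSpecResidueField s) (f.fiberToSpecResidueField s) (f.fiberι s)
      (f.fiber_fac s) F)) (C : Chart f F) (hs : s ∈ C.U) :
    ∃ C' : Chart f F, s ∈ C'.U ∧ C'.U ≤ C.U ∧ C'.Flat ((0 : ℕ) : ℤ) ∧ ∀ m, C.Flat m → C'.Flat m := by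
  have hsq : IsPullback (f.fiberι s) (f.fiberToSpecResidueField s) f (S.fromSpecResidueField s) :=
    IsPullback.of_hasPullback f (S.fromSpecResidueField s)
  have : Subsingleton ↥(Spec (S.residueField s)) :=
    inferInstanceAs (Subsingleton (PrimeSpectrum (S.residueField s)))
  have le : (⊤ : (Spec (S.residueField s)).Opens) ≤ S.fromSpecResidueField s ⁻¹ᵁ C.U := fun z _ => by
    have : S.fromSpecResidueField s z ∈ Set.range (S.fromSpecResidueField s) := ⟨z, rfl⟩
    rw [Scheme.range_fromSpecResidueField] at this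
    show S.fromSpecResidueField s z ∈ C.U
    rw [this]
    exact hs
  refine C.exists_flat_of_surjective hfl hs _ (surjective_exch_residue_of_field C.P _
    (isField_Γ_spec (S.residueField s)) _ (C.pt hs) (ker_appLE_fromSpecResidueField C.hU hs le) ?_)
  exact (C.bc0_app_iff hsq (isAffineOpen_top _) le).1.1 ((epi_iff_surjective_top _).1 hepi)

/-- A flat cokernel out of degree zero makes the direct image finite locally free. -/
theorem Chart.exists_trivial_nhd0 [QuasiCompact f] [QuasiSeparated f] [Coh.IsQCoh F] (C : Chart f F)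
    (h : C.Flat ((0 : ℕ) : ℤ)) {y : S} (hy : y ∈ C.U) :
    ∃ (W : S.Opens) (n : ℕ), y ∈ W ∧
      Nonempty (((Scheme.Modules.pushforward f).obj F).restrict W.ι ≅
        FlatMod.freeMod W.toScheme n) := by
  let _ := overSections f C.hU
  have : Coh.IsQCoh ((Scheme.Modules.pushforward f).obj F) := isQCoh_push f F
  let e := (pushH0 f F C.hU).trans (C.data.hhHomology 0)
  obtain ⟨hfin, hproj⟩ := projective_homology_of_flatAt C.P C.finite_free (-((0 : ℕ) : ℤ)) h (by
    rw [show -((0 : ℕ) : ℤ) + 1 = -(-1 : ℤ) by omega]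
    exact C.flat_neg_one)
  have := Module.Finite.equiv e.symm
  have := Module.Projective.of_equiv e.symm
  exact exists_free_nhd_of_sections _ C.hU hy

theorem Chart.isFinLocFree_push_restrict [QuasiCompact f] [QuasiSeparated f] [Coh.IsQCoh F]
    (C : Chart f F) (h : C.Flat ((0 : ℕ) : ℤ)) :
    FlatMod.IsFinLocFree (((Scheme.Modules.pushforward f).obj F).restrict C.U.ι) :=
  CohBC.isFinLocFree_restrict _ C.U fun _ hy => C.exists_trivial_nhd0 h hy

end Groth.Agent.CohExch
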