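import Groth.Agent.CohExch.Local0
import Groth.Agent.CohExch.IsoCrit
import Groth.Agent.Coherent.FlatBaseChangeMain

/-!
# Flat base change in degree zero
-/

set_option autoImplicit false
set_option backward.isDefEq.respectTransparency false

universe u

open CategoryTheory CategoryTheory.Limits CategoryTheory.Abelian AlgebraicGeometry Opposite
  TopologicalSpace TensorProduct
open CohPull CohCmp Function
open Groth.Agent.Coherent Groth.Agent.PicLib Groth.Agent.Coherent.CohBC Groth.Agent.CohCmpLib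

namespace Groth.Agent.CohExch

section Sections

variable {X X' : Scheme.{u}} (g : X' ⟶ X) {A B : Type u} [CommRing A] [CommRing B] [Algebra A B]
  [X.Over (Spec (CommRingCat.of A))] [X'.Over (Spec (CommRingCat.of B))]
  [Module.Flat A B] [CompactSpace X] [QuasiSeparatedSpace X] (M : X.Modules) [Coh.IsQCoh M]

/-- Global sections commute with flat base change, by the pullback of sections. -/
theorem bijective_sections_flatBC
    (h : IsPullback g (X' ↘ Spec (CommRingCat.of B)) (X ↘ Spec (CommRingCat.of A))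
      (Spec.map (CommRingCat.ofHom (algebraMap A B))))
    (L : B ⊗[A] Γ(M, (⊤ : X.Opens)) → Γ((Scheme.Modules.pullback g).obj M, g ⁻¹ᵁ ⊤))
    (hadd : ∀ a b, L (a + b) = L a + L b)
    (hL : ∀ (b : B) (s : Γ(M, (⊤ : X.Opens))),
      L (b ⊗ₜ s) = X'.presheaf.map (homOfLE (le_top (a := g ⁻¹ᵁ (⊤ : X.Opens)))).op
        (Coh.toGlobal (X' ↘ Spec (CommRingCat.of B)) b) • pullSec g s) :
    Bijective L := by
  have : IsAffineHom g := MorphismProperty.IsStableUnderBaseChange.of_isPullback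
    (P := @IsAffineHom) h.flip inferInstance
  let φ₀ := Coh.toGlobal (X ↘ Spec (CommRingCat.of A))
  let β₀ := Coh.toGlobal (X' ↘ Spec (CommRingCat.of B))
  have hc : ∀ a, g.appTop (φ₀ a) = β₀ (algebraMap A B a) := appTop_toGlobal g h
  let P : X'.Modules := bcSheaf g M
  let eM : HA φ₀ M (⊤ : X.Opens) 0 ≃+ Γ(M, (⊤ : X.Opens)) := secH (X := X.toTopCat) (Coh.toAb M) ⊤
  let eM' : HA φ₀ M (⊤ : X.Opens) 0 ≃ₗ[A] Γ(M, (⊤ : X.Opens)) :=
    { eM with
      map_smul' := fun a x => by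
        refine ((secH_postH (X := X.toTopCat) (smulEndAb M (φ₀ a)) ⊤ x).trans
          (smulEndAb_app M (φ₀ a) ⊤ _)).trans ?_
        rfl }
  let eN : BCMod g M β₀ (⊤ : X.Opens) 0 ≃+ Γ(P, g ⁻¹ᵁ ⊤) :=
    secH (X := X.toTopCat) (Coh.toAb (bcPush g M)) ⊤
  have h0 : L 0 = 0 := by
    have := hadd 0 0
    rw [add_zero] at this
    exact (left_eq_add.1 this)
  have key : ∀ z, eN (bcMap g φ₀ β₀ M hc ⊤ 0 z) = L (LinearEquiv.baseChange A B _ _ eM' z) := fun z => by
    induction z using TensorProduct.induction_on with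
    | zero =>
      rw [map_zero, map_zero, map_zero]
      exact h0.symm
    | add u v hu hv => rw [map_add, map_add, map_add, hu, hv, hadd]
    | tmul b x =>
      rw [LinearEquiv.baseChange_tmul, hL, bcMap, LinearMap.liftBaseChange_tmul]
      refine (secH_postH (X := X.toTopCat) (bcAct g β₀ M b) ⊤ _).trans ?_
      refine (bcAct_app g β₀ M b ⊤ _).trans ?_
      refine congrArg (fun t : Γ(P, g ⁻¹ᵁ ⊤) =>
        X'.presheaf.map (homOfLE (le_top (a := g ⁻¹ᵁ (⊤ : X.Opens)))).op (β₀ b) • t) ?_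
      exact secH_postH (X := X.toTopCat) _ ⊤ x
  have hb := bijective_bcMap g φ₀ β₀ M hc (fun U hU => isBCPushout_of_isPullback g h hU)
    (U := ⊤) isCompact_univ 0
  have e : L ∘ ⇑(LinearEquiv.baseChange A B _ _ eM') = ⇑eN ∘ ⇑(bcMap g φ₀ β₀ M hc ⊤ 0) :=
    funext fun z => (key z).symm
  refine (Bijective.of_comp_iff L (LinearEquiv.baseChange A B _ _ eM').bijective).1 ?_
  rw [e]
  exact eN.bijective.comp hb

end Sections

variable {X S X' S' : Scheme.{u}} {f : X ⟶ S} {g : S' ⟶ S} {f' : X' ⟶ S'} {g' : X' ⟶ X}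

set_option maxHeartbeats 2000000 in
/-- Over affine opens the degree zero flat base change map is bijective. -/
theorem bijective_bc0_app_of_flat (h : IsPullback g' f' f g) [QuasiCompact f] [QuasiSeparated f]
    [Flat g] (F : X.Modules) [Coh.IsQCoh F] {U : S.Opens} (hU : IsAffineOpen U) {U' : S'.Opens}
    (hU' : IsAffineOpen U') (le : U' ≤ g ⁻¹ᵁ U) :
    Bijective ((CohBC.bc0 f g f' g' h.w F).app U') := by
  let _ := overSections f hU
  let _ := overSections f' hU'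
  have hP := EGA43.InjFibre.isQCoh_pullback g' F
  let R := (Scheme.Modules.pushforward f).obj F
  have hR : Coh.IsQCoh R := isQCoh_push f F
  let G := (Scheme.Modules.pullback g').obj F
  let F₀ := F.restrict (f ⁻¹ᵁ U).ι
  have : Coh.IsQCoh F₀ := inferInstance
  let φ := (g.appLE U U' le).hom
  let _ := φ.toAlgebra
  have : Module.Flat Γ(S, U) Γ(S', U') := Flat.flat_appLE g hU hU' le
  let r := g'.resLE (f ⁻¹ᵁ U) (f' ⁻¹ᵁ U') (preimage_le_sq h.w le)
  have hsq : IsPullback r ((f' ⁻¹ᵁ U').toScheme ↘ Spec (CommRingCat.of Γ(S', U')))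
      ((f ⁻¹ᵁ U).toScheme ↘ Spec (CommRingCat.of Γ(S, U))) (Spec.map (CommRingCat.ofHom φ)) :=
    isPullback_resLE_toSpec h hU hU' le
  have hq₁ := isPullback_toSpecSections f hU
  have : QuasiCompact ((f ⁻¹ᵁ U).toScheme ↘ Spec (CommRingCat.of Γ(S, U))) :=
    MorphismProperty.of_isPullback (P := @QuasiCompact) hq₁ inferInstance
  have : QuasiSeparated ((f ⁻¹ᵁ U).toScheme ↘ Spec (CommRingCat.of Γ(S, U))) :=
    MorphismProperty.of_isPullback (P := @QuasiSeparated) hq₁ inferInstance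
  have : CompactSpace (f ⁻¹ᵁ U).toScheme :=
    QuasiCompact.compactSpace_of_compactSpace ((f ⁻¹ᵁ U).toScheme ↘ Spec (CommRingCat.of Γ(S, U)))
  have : QuasiSeparatedSpace (f ⁻¹ᵁ U).toScheme :=
    quasiSeparatedSpace_of_quasiSeparated ((f ⁻¹ᵁ U).toScheme ↘ Spec (CommRingCat.of Γ(S, U)))
  let P := (Scheme.Modules.pullback r).obj F₀
  let _ : Module Γ(S, U) Γ((Scheme.Modules.pullback g).obj R, U') := Module.compHom _ φ
  have : IsScalarTower Γ(S, U) Γ(S', U') Γ((Scheme.Modules.pullback g).obj R, U') :=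
    IsScalarTower.of_algebraMap_smul fun _ _ => rfl
  obtain ⟨μ, hμ, hμe⟩ := EGA43.InjFibre.pullMap_isBaseChange g hU hU' le (M := R)
  let eRl : Γ(R, U) →ₗ[Γ(S, U)] Γ(F₀, (⊤ : (f ⁻¹ᵁ U).toScheme.Opens)) :=
    { toFun := fun s => restrSec F (f ⁻¹ᵁ U) s
      map_add' := fun a b => map_add (resM F (f ⁻¹ᵁ U).ι_image_top.le) a b
      map_smul' := fun a s => by
        refine (resM_smul F (f ⁻¹ᵁ U).ι_image_top.le (f.app U a) s).trans ?_
        refine congrArg (fun t : Γ(X, (f ⁻¹ᵁ U).ι ''ᵁ ⊤) => t • resM F (f ⁻¹ᵁ U).ι_image_top.le s) ?_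
        show _ = ((f ⁻¹ᵁ U).ι.appIso ⊤).inv ((f ⁻¹ᵁ U).toScheme.presheaf.map
          (homOfLE (le_top (a := (⊤ : (f ⁻¹ᵁ U).toScheme.Opens)))).op
            (Coh.toGlobal (toSpecSections f hU) a))
        rw [toGlobal_toSpecSections f hU a]
        simp [CohCmpLib.pullFun, Scheme.Opens.topIso]
        rfl }
  let eR : Γ(R, U) ≃ₗ[Γ(S, U)] Γ(F₀, (⊤ : (f ⁻¹ᵁ U).toScheme.Opens)) :=
    LinearEquiv.ofBijective eRl
      (resM_bijective_of_eq F (f ⁻¹ᵁ U).ι_image_top.le (f ⁻¹ᵁ U).ι_image_top.symm)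
  let eiso := pullOnIso g' (f ⁻¹ᵁ U) (f' ⁻¹ᵁ U') (preimage_le_sq h.w le) F
  let back : Γ((Scheme.Modules.pushforward f').obj G, U') → Γ(P, (⊤ : (f' ⁻¹ᵁ U').toScheme.Opens)) :=
    fun t => eiso.inv.app ⊤ (restrSec G (f' ⁻¹ᵁ U') t)
  have hback : Bijective back := by
    have : IsIso (eiso.inv.app (⊤ : (f' ⁻¹ᵁ U').toScheme.Opens)) :=
      Scheme.Modules.Hom.isIso_iff_isIso_app.mp inferInstance _
    exact (ConcreteCategory.bijective_of_isIso _).comp
      (resM_bijective_of_eq G (f' ⁻¹ᵁ U').ι_image_top.le (f' ⁻¹ᵁ U').ι_image_top.symm)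
  let L : Γ(S', U') ⊗[Γ(S, U)] Γ(F₀, (⊤ : (f ⁻¹ᵁ U).toScheme.Opens)) →
      Γ(P, r ⁻¹ᵁ (⊤ : (f ⁻¹ᵁ U).toScheme.Opens)) :=
    fun z => back ((CohBC.bc0 f g f' g' h.w F).app U'
      (hμ.equiv (LinearEquiv.baseChange Γ(S, U) Γ(S', U') _ _ eR.symm z)))
  have hadd : ∀ a b, L (a + b) = L a + L b := fun a b => by
    simp only [L, map_add, back, restrSec]
  have hLb : ∀ b s, L (b ⊗ₜ s) =
      (f' ⁻¹ᵁ U').toScheme.presheaf.map (homOfLE (le_top (a := r ⁻¹ᵁ (⊤ : (f ⁻¹ᵁ U).toScheme.Opens)))).op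
        (Coh.toGlobal ((f' ⁻¹ᵁ U').toScheme ↘ Spec (CommRingCat.of Γ(S', U'))) b) • pullSec r s := fun b s => by
    obtain ⟨s, rfl⟩ := eR.surjective s
    show back ((CohBC.bc0 f g f' g' h.w F).app U' (hμ.equiv (b ⊗ₜ eR.symm (eR s)))) = _
    rw [LinearEquiv.symm_apply_apply, IsBaseChange.equiv_tmul, hμe, pullMap_eq_resM_pullSec g hU hU' le R,
      Scheme.Modules.Hom.app_smul, app_resM, bc0_pullSec h.w F U s]
    have hres : resM ((Scheme.Modules.pushforward f').obj G) le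
        (resM G (sqLE f g f' g' h.w U) (pullSec g' s)) =
        resM G (preimage_le_sq h.w le) (pullSec g' s) :=
      resM_resM G (sqLE f g f' g' h.w U) (f'.preimage_mono le) _
    rw [hres]
    have hsm : restrSec G (f' ⁻¹ᵁ U')
        ((show Γ((Scheme.Modules.pushforward f').obj G, U') from
          b • (show Γ((Scheme.Modules.pushforward f').obj G, U') from
            resM G (preimage_le_sq h.w le) (pullSec g' s)))) =
      ((f' ⁻¹ᵁ U').toScheme.presheaf.map (homOfLE (le_top (a := (⊤ : (f' ⁻¹ᵁ U').toScheme.Opens)))).op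
        (Coh.toGlobal ((f' ⁻¹ᵁ U').toScheme ↘ Spec (CommRingCat.of Γ(S', U'))) b)) •
        restrSec G (f' ⁻¹ᵁ U') (resM G (preimage_le_sq h.w le) (pullSec g' s)) := by
      refine (resM_smul G (f' ⁻¹ᵁ U').ι_image_top.le (f'.app U' b) _).trans ?_
      refine congrArg (fun t : Γ(X', (f' ⁻¹ᵁ U').ι ''ᵁ ⊤) => t • _) ?_
      show _ = ((f' ⁻¹ᵁ U').ι.appIso ⊤).inv ((f' ⁻¹ᵁ U').toScheme.presheaf.map
        (homOfLE (le_top (a := (⊤ : (f' ⁻¹ᵁ U').toScheme.Opens)))).op
          (Coh.toGlobal (toSpecSections f' hU') b))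
      rw [toGlobal_toSpecSections f' hU' b]
      simp [CohCmpLib.pullFun, Scheme.Opens.topIso]
      rfl
    refine (congrArg (eiso.inv.app ⊤) hsm).trans ?_
    refine (Scheme.Modules.Hom.app_smul eiso.inv _ _).trans ?_
    refine congrArg (fun t : Γ(P, ⊤) => _ • t) ?_
    have e := pullOnIso_app_restrSec g' (f ⁻¹ᵁ U) (f' ⁻¹ᵁ U') (preimage_le_sq h.w le) F le_rfl s
    refine (congrArg (eiso.inv.app ⊤) e.symm).trans ?_
    refine (congr(($(eiso.hom_inv_id)).app ⊤ _)).trans ?_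
    exact resM_refl _ _
  have hL := bijective_sections_flatBC r F₀ hsq L hadd hLb
  have h1 := (Bijective.of_comp_iff' hback ((CohBC.bc0 f g f' g' h.w F).app U' ∘
    (⇑hμ.equiv ∘ ⇑(LinearEquiv.baseChange Γ(S, U) Γ(S', U') _ _ eR.symm)))).1 hL
  exact (Bijective.of_comp_iff _
    (hμ.equiv.bijective.comp (LinearEquiv.baseChange Γ(S, U) Γ(S', U') _ _ eR.symm).bijective)).1 h1

/-- Flat base change in degree zero. -/
theorem isIso_bc0_of_flat_morphism (h : IsPullback g' f' f g) [QuasiCompact f] [QuasiSeparated f]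
    [Flat g] (F : X.Modules) [Coh.IsQCoh F] : IsIso (CohBC.bc0 f g f' g' h.w F) := by
  have : QuasiCompact f' := MorphismProperty.of_isPullback (P := @QuasiCompact) h inferInstance
  have : QuasiSeparated f' := MorphismProperty.of_isPullback (P := @QuasiSeparated) h inferInstance
  have : Coh.IsQCoh ((Scheme.Modules.pushforward f).obj F) := isQCoh_push f F
  have : Coh.IsQCoh ((Scheme.Modules.pullback g).obj ((Scheme.Modules.pushforward f).obj F)) :=
    EGA43.InjFibre.isQCoh_pullback g _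
  have : Coh.IsQCoh ((Scheme.Modules.pullback g').obj F) := EGA43.InjFibre.isQCoh_pullback g' _
  have : Coh.IsQCoh ((Scheme.Modules.pushforward f').obj ((Scheme.Modules.pullback g').obj F)) :=
    isQCoh_push f' _
  refine isIso_of_bijective_affine_cover (CohBC.bc0 f g f' g' h.w F) fun z => ?_
  obtain ⟨U, hU, hzU, -⟩ := exists_isAffineOpen_mem_and_subset (x := g z) (U := (⊤ : S.Opens)) trivial
  obtain ⟨U', hU', hzU', le⟩ := exists_isAffineOpen_mem_and_subset (x := z) (U := g ⁻¹ᵁ U) hzU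
  exact ⟨U', hU', hzU', bijective_bc0_app_of_flat h F hU hU' le⟩

end Groth.Agent.CohExch
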