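import Groth.Agent.CohExch.Chart0
import Groth.Agent.FlatCx12.BC

/-!
# Base change of charts, and ranks of direct images
-/

set_option autoImplicit false
set_option backward.isDefEq.respectTransparency false

universe u

open CategoryTheory CategoryTheory.Limits AlgebraicGeometry TopologicalSpace Opposite TensorProduct
open Function Groth.Agent.Coherent Groth.Agent.Coherent.CohBC Groth.Agent.FlatCxLib

namespace Groth.Agent.CohExch

variable {X S : Scheme.{u}} {f : X ⟶ S} {F : X.Modules}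

/-- Flatness survives base change. -/
theorem flatOver_baseChange (hfl : FlatMod.IsFlatOver f F) {X' S' : Scheme.{u}} {g' : X' ⟶ X}
    {f' : X' ⟶ S'} {g : S' ⟶ S} (h : IsPullback g' f' f g) [Coh.IsQCoh F] :
    FlatMod.IsFlatOver f' ((Scheme.Modules.pullback g').obj F) :=
  fun x => Desc19b.isFlatOverAt_baseChange f f' g' g h F x (hfl _)

/-- The chart of the base changed family over an affine open above a chart. -/
noncomputable def Chart.bc [IsSeparated f] [Coh.IsQCoh F] (hfl : FlatMod.IsFlatOver f F)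
    (C : Chart f F) {X' S' : Scheme.{u}} {g' : X' ⟶ X} {f' : X' ⟶ S'} {g : S' ⟶ S}
    (h : IsPullback g' f' f g) {U' : S'.Opens} (hU' : IsAffineOpen U') (le : U' ≤ g ⁻¹ᵁ C.U) :
    Chart f' ((Scheme.Modules.pullback g').obj F) :=
  ⟨U', hU',
    letI := overSections f C.hU
    letI := overSections f' hU'
    haveI : IsSeparated ((f ⁻¹ᵁ C.U).toScheme ↘ Spec (CommRingCat.of Γ(S, C.U))) :=
      MorphismProperty.of_isPullback (P := @IsSeparated) (isPullback_toSpecSections f C.hU)
        inferInstance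
    perfDataOfIso
      (PerfData.baseChange (g.appLE C.U U' le).hom
        (g'.resLE (f ⁻¹ᵁ C.U) (f' ⁻¹ᵁ U') (preimage_le_sq h.w le))
        (isPullback_resLE_toSpec h C.hU hU' le) C.data (isFlatOver_toSpecSections hfl C.hU))
      ((Scheme.Modules.pullback _).mapIso
          ((Scheme.Modules.restrictFunctorIsoPullback (f ⁻¹ᵁ C.U).ι).app F) ≪≫
        (Scheme.Modules.pullbackComp (g'.resLE (f ⁻¹ᵁ C.U) (f' ⁻¹ᵁ U') (preimage_le_sq h.w le))
          (f ⁻¹ᵁ C.U).ι).app F ≪≫
        (Scheme.Modules.pullbackCongr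
          (Scheme.Hom.resLE_comp_ι g' (preimage_le_sq h.w le))).app F ≪≫
        ((Scheme.Modules.pullbackComp (f' ⁻¹ᵁ U').ι g').app F).symm ≪≫
        ((Scheme.Modules.restrictFunctorIsoPullback (f' ⁻¹ᵁ U').ι).app
          ((Scheme.Modules.pullback g').obj F)).symm)⟩

theorem Chart.flat_bc_iff [IsSeparated f] [Coh.IsQCoh F] (hfl : FlatMod.IsFlatOver f F)
    (C : Chart f F) {X' S' : Scheme.{u}} {g' : X' ⟶ X} {f' : X' ⟶ S'} {g : S' ⟶ S}
    (h : IsPullback g' f' f g) {U' : S'.Opens} (hU' : IsAffineOpen U') (le : U' ≤ g ⁻¹ᵁ C.U) (n : ℤ) :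
    (C.bc hfl h hU' le).Flat n ↔
      letI := (g.appLE C.U U' le).hom.toAlgebra
      Module.Flat Γ(S', U') (Γ(S', U') ⊗[Γ(S, C.U)] Coker C.P (-n) (-n - 1)) :=
  flat_coker_bc_iff (g.appLE C.U U' le).hom C.P (-n) (-n - 1)

/-- With a flat cokernel out of degree zero the fibre dimension is the rank of the direct image. -/
theorem Chart.fiberRank_eq_of_free [IsSeparated f] [QuasiCompact f] [Coh.IsQCoh F]
    (hfl : FlatMod.IsFlatOver f F) (C : Chart f F) (h : C.Flat ((0 : ℕ) : ℤ)) {s : S} (hs : s ∈ C.U)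
    {W : S.Opens} {n : ℕ} (hsW : s ∈ W)
    (e : ((Scheme.Modules.pushforward f).obj F).restrict W.ι ≅ FlatMod.freeMod W.toScheme n) :
    CohIII.fiberRank f F 0 s = n := by
  obtain ⟨a, haW, hsa⟩ := C.hU.exists_basicOpen_le (V := W) ⟨s, hsW⟩ hs
  obtain ⟨C', hU', hflat, -⟩ := C.exists_away hfl a
  have h' := hflat _ h
  have hs' : s ∈ C'.U := hU' ▸ hsa
  have hle : C'.U ≤ W := hU' ▸ haW
  obtain ⟨b⟩ := Props12.exists_basis_sections e hle
  let _ := overSections f C'.hU
  let eH := (pushH0 f F C'.hU).trans (C'.data.hhHomology 0)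
  have : Nontrivial Γ(S, C'.U) := (C'.pt hs').nontrivial
  let bH := b.map eH
  have : Module.Free Γ(S, C'.U) (C'.P.homology (-((0 : ℕ) : ℤ))) := Module.Free.of_basis bH
  have : Module.Finite Γ(S, C'.U) (C'.P.homology (-((0 : ℕ) : ℤ))) := Module.Finite.of_basis bH
  have hP : ∀ i, Module.Flat Γ(S, C'.U) (C'.P.X i) := fun i => by
    have := (C'.finite_free i).2
    infer_instance
  have : Module.Flat Γ(S, C'.U)
      (C'.P.X (-((0 : ℕ) : ℤ) - 1) ⧸
        LinearMap.range (C'.P.d (-((0 : ℕ) : ℤ)) (-((0 : ℕ) : ℤ) - 1)).hom) := h'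
  rw [C'.fiberRank_eq hfl hs' 0,
    FlatCx12.dRank_eq_fibreRank hP (-((0 : ℕ) : ℤ) + 1) _ (-((0 : ℕ) : ℤ) - 1) rfl (by omega),
    fibreRank, (LinearEquiv.baseChange Γ(S, C'.U) (C'.pt hs').asIdeal.ResidueField _ _
      (homologyQuotEquiv C'.P (-((0 : ℕ) : ℤ) + 1) _ (-((0 : ℕ) : ℤ) - 1) rfl (by omega))).finrank_eq,
    Module.finrank_baseChange, Module.finrank_eq_card_basis bH, Fintype.card_fin]

theorem fibreRank_prod {A : Type u} [CommRing A] (M N : Type u) [AddCommGroup M] [AddCommGroup N]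
    [Module A M] [Module A N] [Module.Finite A M] [Module.Finite A N] (x : PrimeSpectrum A) :
    fibreRank (M × N) x = fibreRank M x + fibreRank N x := by
  rw [fibreRank, (TensorProduct.prodRight A x.asIdeal.ResidueField x.asIdeal.ResidueField M N).finrank_eq,
    Module.finrank_prod]
  rfl

/-- The module whose stratum of rank `rk P^1 + r` is the locus of direct images of rank `r`. -/
abbrev Chart.M₀ (C : Chart f F) : Type u :=
  (C.P.X 0 ⧸ LinearMap.range (C.P.d 1 0).hom) × (C.P.X (-1) ⧸ LinearMap.range (C.P.d 0 (-1)).hom)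

theorem Chart.flat_coker_neg_one (C : Chart f F) :
    Module.Flat Γ(S, C.U) (C.P.X 0 ⧸ LinearMap.range (C.P.d 1 0).hom) :=
  C.flat_neg_one

theorem Chart.finitePresentation_coker (C : Chart f F) (i j : ℤ) :
    Module.FinitePresentation Γ(S, C.U) (C.P.X j ⧸ LinearMap.range (C.P.d i j).hom) := by
  have := (C.finite_free i).1
  have := (C.finite_free j).1
  have := (C.finite_free j).2
  have : Module.FinitePresentation Γ(S, C.U) (C.P.X j) :=
    Module.finitePresentation_of_projective _ _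
  exact Module.finitePresentation_of_surjective _ (Submodule.mkQ_surjective _)
    (by rw [Submodule.ker_mkQ, LinearMap.range_eq_map]; exact (Module.Finite.fg_top).map _)

theorem Chart.finitePresentation_M₀ (C : Chart f F) :
    Module.FinitePresentation Γ(S, C.U) C.M₀ := by
  have := C.finitePresentation_coker 1 0
  have := C.finitePresentation_coker 0 (-1)
  infer_instance

/-- The rank shift of a chart. -/
noncomputable def Chart.shift (C : Chart f F) : ℕ := Module.finrank Γ(S, C.U) (C.P.X (-1))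

theorem Chart.fibreRank_M₀ [IsSeparated f] [QuasiCompact f] [Coh.IsQCoh F]
    (hfl : FlatMod.IsFlatOver f F) (C : Chart f F) {s : S} (hs : s ∈ C.U) :
    fibreRank C.M₀ (C.pt hs) = CohIII.fiberRank f F 0 s + C.shift := by
  have := (C.finite_free 0).1
  have := (C.finite_free (-1)).1
  have := (C.finite_free (-1)).2
  have : Nontrivial Γ(S, C.U) := (C.pt hs).nontrivial
  have hP : ∀ i, Module.Finite Γ(S, C.U) (C.P.X i) ∧ Module.Flat Γ(S, C.U) (C.P.X i) := fun i =>
    ⟨(C.finite_free i).1, have := (C.finite_free i).2; inferInstance⟩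
  rw [fibreRank_prod, ← dRank_add C.P hP 1 0 (-1) rfl rfl, Module.rankAtStalk_eq_finrank_of_free,
    C.fiberRank_eq hfl hs 0]
  rfl

end Groth.Agent.CohExch
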