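import Groth.Agent.Coherent.CohBC.BaseChange
import Groth.Agent.H8Lim.NoetherianModel
import Groth.Agent.H8Lim.ModFPDescent
import Groth.Agent.ConsPropLib.LocusMod
import Groth.Agent.FlatMor12.FlatFun.Stage
import Groth.Agent.EGA43.DvrCrit.Main

/-!
# Finite free complexes for flat finitely presented modules over an arbitrary affine base
-/

set_option autoImplicit false
set_option backward.isDefEq.respectTransparency.types false
set_option maxHeartbeats 1000000

universe u

open CategoryTheory CategoryTheory.Limits AlgebraicGeometry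
open Groth.Agent.Coherent Groth.Agent.Coherent.CohBC

namespace Groth.Agent.CohExch

theorem isFlatOver_of_iso {X S : Scheme.{u}} (f : X ⟶ S) {F G : X.Modules} (e : F ≅ G)
    (h : FlatMod.IsFlatOver f F) : FlatMod.IsFlatOver f G :=
  fun x => EGA43.DvrCrit.isFlatOverAt_of_iso f e x (h x)

/-- A flat finitely presented module on a proper finitely presented scheme over an affine base has a
Noetherian model. -/
theorem exists_model_flat {X : Scheme.{u}} {R : Type u} [CommRing R]
    (u : X ⟶ Spec (CommRingCat.of R)) [IsProper u] [LocallyOfFinitePresentation u]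
    (F : X.Modules) (hF : CohB1.IsFP F) (hfl : FlatMod.IsFlatOver u F) :
    ∃ (s : Finset R) (X₀ : Scheme.{u}) (u₀ : X₀ ⟶ Spec (CommRingCat.of (H8Lim.fgSub R s)))
      (g : X ⟶ X₀) (F₀ : X₀.Modules),
      IsProper u₀ ∧
      IsPullback g u u₀ (Spec.map (CommRingCat.ofHom (H8Lim.fgSub R s).val.toRingHom)) ∧
      CohB1.IsFP F₀ ∧ FlatMod.IsFlatOver u₀ F₀ ∧
      Nonempty (F ≅ (Scheme.Modules.pullback g).obj F₀) := by
  let D := H8Lim.fgSpecDiagram R
  let c := H8Lim.fgSpecCone R
  have hc : IsLimit c := H8Lim.isLimitFgSpecCone R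
  obtain ⟨j, Z, h, q, _, _, _, sq⟩ := H8Lim.exists_stage_spec u
  obtain ⟨k, φ, hk⟩ := H8Lim.exists_stage_proper u j h q sq ‹_›
  have : LocallyOfFinitePresentation (pullback.snd h (D.map φ)) :=
    MorphismProperty.pullback_snd (P := @LocallyOfFinitePresentation) _ _ ‹_›
  have sq₁ := H8Lim.isPullback_later (D := D) (c := c) sq φ (H8Lim.eq_later sq φ)
  let h₁ := pullback.snd h (D.map φ)
  have hp₁ : IsProper h₁ := hk
  let q₁ := pullback.lift q (u ≫ c.π.app k) (H8Lim.eq_later sq φ)
  have hN : IsNoetherian (D.obj k) :=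
    inferInstanceAs (IsNoetherian (Spec (CommRingCat.of (H8Lim.fgSub R k.unop))))
  have : CompactSpace (pullback h (D.map φ) : Scheme.{u}) := QuasiCompact.compactSpace_of_compactSpace h₁
  have : QuasiSeparatedSpace (pullback h (D.map φ) : Scheme.{u}) :=
    quasiSeparatedSpace_of_quasiSeparated h₁
  have : Coh.IsQCoh (X := (H8Lim.stageCone h₁ c q₁ u sq₁).pt) F := ConsPropLib.isQCoh_of_isFP hF
  let o : Over k := Over.mk (𝟙 k)
  have hlim : IsLimit (H8Lim.stageCone h₁ c q₁ u sq₁) :=
    H8Lim.isLimitStageCone (D := D) (c := c) h₁ q₁ u sq₁ hc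
  obtain ⟨l, -, F₂, -, hF₂, ⟨e⟩⟩ :=
    H8Lim.exists_stage_fpModule (D := H8Lim.stage D h₁) hlim (i := o) F hF
  let u₂ := H8Lim.stageSnd D h₁ l
  let q₂ := H8Lim.stageProj h₁ c q₁ u sq₁ l
  have hp₂ : IsProper u₂ := MorphismProperty.of_isPullback (H8Lim.isPullback_stage D h₁ l) hp₁
  have : LocallyOfFinitePresentation u₂ :=
    MorphismProperty.of_isPullback (H8Lim.isPullback_stage D h₁ l)
      (inferInstanceAs (LocallyOfFinitePresentation h₁))
  have sq₂ : IsPullback q₂ u u₂ (c.π.app l.left) :=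
    IsPullback.of_right (by rw [H8Lim.stageProj_fst]; exact (c.w l.hom).symm ▸ sq₁)
      (H8Lim.stageProj_snd h₁ c q₁ u sq₁ l) (H8Lim.isPullback_stage D h₁ l)
  have : Coh.IsQCoh F₂ := ConsPropLib.isQCoh_of_isFP hF₂
  have : CompactSpace ((H8Lim.stage D h₁).obj l) := by
    have : IsNoetherian (D.obj l.left) :=
      inferInstanceAs (IsNoetherian (Spec (CommRingCat.of (H8Lim.fgSub R l.left.unop))))
    exact QuasiCompact.compactSpace_of_compactSpace u₂
  have : IsAffine c.pt := inferInstanceAs (IsAffine (Spec (CommRingCat.of R)))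
  obtain ⟨m, hm⟩ := FlatMor12.FlatFun.exists_flat_stage_scheme (D := D) (c := c) hc sq₂ hF₂
    (isFlatOver_of_iso u e.symm hfl)
  let u₃ := pullback.snd u₂ (D.map m.hom)
  have sq₃ := H8Lim.isPullback_later (D := D) (c := c) sq₂ m.hom (H8Lim.eq_later sq₂ m.hom)
  refine ⟨m.left.unop, pullback u₂ (D.map m.hom), u₃, _, _,
    MorphismProperty.pullback_snd (P := @IsProper) _ _ hp₂, sq₃,
    Desc19b.ModStFib.isFP_pullback (pullback.fst u₂ (D.map m.hom)) F₂ hF₂, hm, ⟨e.symm ≪≫ ?_⟩⟩
  exact ((Scheme.Modules.pullbackCongr (pullback.lift_fst _ _ (H8Lim.eq_later sq₂ m.hom)).symm).app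
    F₂ ≪≫ ((Scheme.Modules.pullbackComp _ (pullback.fst u₂ (D.map m.hom))).app F₂).symm)

theorem quasiIso_comp_iso {V : Type*} [Category V] [HasZeroMorphisms V] [CategoryWithHomology V]
    {ι : Type*} {c : ComplexShape ι} {K L M : HomologicalComplex V c} (f : K ⟶ L) (g : L ⟶ M)
    (hf : QuasiIso f) [IsIso g] : QuasiIso (f ≫ g) :=
  inferInstance

variable {A : Type u} [CommRing A] {X : Scheme.{u}} [X.Over (Spec (CommRingCat.of A))]

/-- A replacement of isomorphic complexes. -/
noncomputable def replacementOfIso {C C' : CochainComplex (ModuleCat.{u} A) ℕ} (R : Replacement C)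
    (e : C ≅ C') : Replacement C' where
  L := R.L
  bound := R.bound
  finFree := R.finFree
  isZero_X := R.isZero_X
  φ := R.φ ≫ HomologicalComplex.extendMap e.hom _
  quasiIso M := by
    have : IsIso (HomologicalComplex.extendMap e.hom ComplexShape.embeddingUpNat) :=
      ⟨HomologicalComplex.extendMap e.inv _,
        by rw [← HomologicalComplex.extendMap_comp, e.hom_inv_id, HomologicalComplex.extendMap_id],
        by rw [← HomologicalComplex.extendMap_comp, e.inv_hom_id, HomologicalComplex.extendMap_id]⟩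
    have := R.quasiIso M
    rw [Functor.map_comp]
    have : IsIso (((MonoidalCategory.tensorRight M).mapHomologicalComplex (ComplexShape.up ℤ)).map
        (HomologicalComplex.extendMap e.hom ComplexShape.embeddingUpNat)) := inferInstance
    exact quasiIso_comp_iso _ _ (R.quasiIso M)

/-- Finite free complexes of isomorphic modules. -/
noncomputable def perfDataOfIso {F G : X.Modules} (D : PerfData A X F) (e : F ≅ G) :
    PerfData A X G where
  ι := D.ι
  finite := D.finite
  W := D.W
  hcov := D.hcov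
  hW := D.hW
  isQCoh := haveI := D.isQCoh; isQCoh_of_iso e
  R := replacementOfIso D.R (cxIsoA D.W e)

/-- Cohomology of a flat finitely presented module on a proper finitely presented scheme over any
affine base is computed by a finite free complex. -/
theorem nonempty_perfData_of_isFP [IsProper (X ↘ Spec (CommRingCat.of A))]
    [LocallyOfFinitePresentation (X ↘ Spec (CommRingCat.of A))] (F : X.Modules) (hF : CohB1.IsFP F)
    (hfl : FlatMod.IsFlatOver (X ↘ Spec (CommRingCat.of A)) F) :
    Nonempty (PerfData A X F) := by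
  obtain ⟨s, X₀, u₀, g, F₀, _, sq, hF₀, hfl₀, ⟨e⟩⟩ :=
    exists_model_flat (X ↘ Spec (CommRingCat.of A)) F hF hfl
  let iA : X₀.Over (Spec (CommRingCat.of (H8Lim.fgSub A s))) := ⟨u₀⟩
  have : IsProper (X₀ ↘ Spec (CommRingCat.of (H8Lim.fgSub A s))) := ‹IsProper u₀›
  have : IsLocallyNoetherian X₀ := LocallyOfFiniteType.isLocallyNoetherian u₀
  obtain ⟨D⟩ := nonempty_perfData (A := H8Lim.fgSub A s) F₀
    ((Coherent.isCoh_iff_isFP F₀).2 hF₀) hfl₀
  exact ⟨perfDataOfIso (PerfData.baseChange (H8Lim.fgSub A s).val.toRingHom g sq D hfl₀) e.symm⟩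

end Groth.Agent.CohExch
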