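import Groth.Agent.CohExch.Exchange
import Groth.Agent.Coherent.CohBC.Fibre
import Groth.Agent.CohCmpLib.Edge

/-!
# Pullback of cohomology classes along an affine base change, on the Čech complex
-/

set_option autoImplicit false
set_option backward.isDefEq.respectTransparency false

universe u

open CategoryTheory CategoryTheory.Limits AlgebraicGeometry Opposite TopologicalSpace TensorProduct
open HomologicalComplex CohPull Function
open Groth.Agent.Coherent Groth.Agent.PicLib Groth.Agent.Coherent.CohBC

namespace Groth.Agent.CohExch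

section PullMod

variable {X Y : Scheme.{u}} (g : X ⟶ Y)

theorem pullMod_natural {M N : Y.Modules} (φ : M ⟶ N) (p : ℕ) (x : Coh.HH Y M p) :
    pullMod g N p (mapH φ p x) =
      mapH ((Scheme.Modules.pullback g).map φ) p (pullMod g M p x) :=
  CohCmpLib.hmap_pullAb_natural g.base ((SheafOfModules.toSheaf Y.ringCatSheaf).map φ)
    ((CohCmpLib.thetaNat g).app M) ((CohCmpLib.thetaNat g).app N)
    ((SheafOfModules.toSheaf X.ringCatSheaf).map ((Scheme.Modules.pullback g).map φ))
    ((CohCmpLib.thetaNat g).naturality φ) p x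

/-- The pullback is the unit followed by the edge map. -/
theorem pullMod_eq_pushEdge (F : Y.Modules) (p : ℕ) (x : Coh.HH Y F p) :
    pullMod g F p x = pushEdge g ((Scheme.Modules.pullback g).obj F) p
      (mapH ((Scheme.Modules.pullbackPushforwardAdjunction g).unit.app F) p x) := by
  rw [CohCmpLib.pushEdge_apply]
  refine Eq.trans ?_ (congrArg (mapH ((Scheme.Modules.pullbackPushforwardAdjunction g).counit.app
    ((Scheme.Modules.pullback g).obj F)) p)
    (pullMod_natural g ((Scheme.Modules.pullbackPushforwardAdjunction g).unit.app F) p x)).symm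
  refine Eq.trans ?_ (Sheaf.H.map_comp_apply _ _ _)
  rw [← Functor.map_comp,
    (Scheme.Modules.pullbackPushforwardAdjunction g).left_triangle_components F]
  exact (((congrArg (fun t => Sheaf.H.map t p (pullMod g F p x)) (CategoryTheory.Functor.map_id _ _))).trans
    (Sheaf.H.map_id_apply _)).symm

theorem mapH_smulModΓ (M : X.Modules) (r : Coh.Γtop X) (p : ℕ) (x : Coh.HH X M p) :
    mapH (Formal.smulModΓ M r) p x = Sheaf.H.map (Coh.smulAb M r) p x := rfl

end PullMod

variable {A B : Type u} [CommRing A] [CommRing B] (φ : A →+* B)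
  {X X' : Scheme.{u}} [X.Over (Spec (CommRingCat.of A))] [X'.Over (Spec (CommRingCat.of B))]
  (g : X' ⟶ X)
  (h : IsPullback g (X' ↘ Spec (CommRingCat.of B)) (X ↘ Spec (CommRingCat.of A))
    (Spec.map (CommRingCat.ofHom φ)))

/-- `B` as a module over `A`. -/
noncomputable def bMod : ModuleCat.{u} A := @ModuleCat.of A _ B _ φ.toAlgebra.toModule

/-- An element of `B`, in `bMod`. -/
def bEl (b : B) : bMod φ := b

include h

theorem push_smulA (G : X'.Modules) (U : X.Opens) (a : A) (m : Γ(G, g ⁻¹ᵁ U)) :
    (a • (show Γ((Scheme.Modules.pushforward g).obj G, U) from m) :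
      Γ((Scheme.Modules.pushforward g).obj G, U)) = (φ a • m : Γ(G, g ⁻¹ᵁ U)) :=
  congrArg (fun r : Γ(X', g ⁻¹ᵁ U) => r • m) (toΓ_pull φ g h U a)

variable {ι : Type u} (W : ι → X.Opens) (F : X.Modules)

/-- The direct image of the inverse image. -/
noncomputable abbrev pushPull : X.Modules :=
  (Scheme.Modules.pushforward g).obj ((Scheme.Modules.pullback g).obj F)

/-- `Γ(F, U) ⊗ B → Γ(g_* g^* F, U)`. -/
noncomputable def secA (U : X.Opens) :
    letI := φ.toAlgebra
    Γ(F, U) ⊗[A] B →ₗ[A] Γ(pushPull g F, U) :=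
  letI := φ.toAlgebra
  TensorProduct.lift
    (LinearMap.mk₂ A (fun m b => (show Γ(pushPull g F, U) from
        (b • pullSec g m : Γ((Scheme.Modules.pullback g).obj F, g ⁻¹ᵁ U))))
      (fun m m' b => (congrArg (b • ·) (map_add _ m m')).trans (smul_add (M := B) (A := Γ((Scheme.Modules.pullback g).obj F, g ⁻¹ᵁ U)) b _ _))
      (fun a m b => by
        rw [push_smulA φ g h]
        show b • pullSec g (a • m) = φ a • b • pullSec g m
        rw [pullSec_smulA φ g h, smul_comm])
      (fun m b b' => add_smul b b' (pullSec g m :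
        Γ((Scheme.Modules.pullback g).obj F, g ⁻¹ᵁ U)))
      (fun a m b => by
        rw [push_smulA φ g h]
        show (φ a * b) • pullSec g m = φ a • b • pullSec g m
        rw [mul_smul]))

theorem secA_tmul (U : X.Opens) (m : Γ(F, U)) (b : B) :
    letI := φ.toAlgebra
    secA φ g h F U (m ⊗ₜ b) =
      (show Γ(pushPull g F, U) from (b • pullSec g m : Γ((Scheme.Modules.pullback g).obj F, g ⁻¹ᵁ U))) :=
  rfl

variable [Coh.IsQCoh F]

theorem bijective_secA {U : X.Opens} (hU : IsAffineOpen U) : Bijective (secA φ g h F U) := by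
  let _ := φ.toAlgebra
  have e : ⇑(secA φ g h F U) = ⇑(secBC φ g h F U) ∘ ⇑(TensorProduct.comm A Γ(F, U) B) :=
    funext fun z => by
      induction z with
      | zero => simp only [map_zero, Function.comp_apply]
      | add u v hu hv => simp only [Function.comp_apply, map_add] at hu hv ⊢; rw [hu, hv]
      | tmul m b => rfl
  rw [e]
  exact (bijective_secBC φ g h F hU).comp (LinearEquiv.bijective _)

/-- The cochains of `g_* g^* F`. -/
noncomputable def cochainA (p : ℕ) :
    letI := φ.toAlgebra
    (∀ a : Fin (p + 1) → ι, Γ(F, cinter W a)) ⊗[A] B →ₗ[A]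
      (∀ a : Fin (p + 1) → ι, Γ(pushPull g F, cinter W a)) :=
  letI := φ.toAlgebra
  LinearMap.pi fun a => secA φ g h F (cinter W a) ∘ₗ LinearMap.rTensor B (LinearMap.proj a)

variable [Finite ι] (hW : ∀ (p : ℕ) (a : Fin (p + 1) → ι), IsAffineOpen (cinter W a))

include hW in
theorem bijective_cochainA (p : ℕ) : Bijective (cochainA φ g h W F p) := by
  classical
  let _ := φ.toAlgebra
  have := Fintype.ofFinite ι
  let e := ((TensorProduct.comm A (∀ a : Fin (p + 1) → ι, Γ(F, cinter W a)) B).trans
    (TensorProduct.piRight A A B (fun a : Fin (p + 1) → ι => Γ(F, cinter W a)))).trans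
      (LinearEquiv.piCongrRight fun a => (TensorProduct.comm A B Γ(F, cinter W a)).trans
        (LinearEquiv.ofBijective (secA φ g h F (cinter W a)) (bijective_secA φ g h F (hW p a))))
  have : cochainA φ g h W F p = e.toLinearMap :=
    LinearMap.ext fun z => funext fun a => by
      induction z using TensorProduct.induction_on with
      | zero => exact (congrFun (map_zero (cochainA φ g h W F p)) a).trans (congrFun (map_zero e) a).symm
      | add u v hu hv => simp only [map_add, Pi.add_apply, hu, hv]
      | tmul x b => simp [e, cochainA]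
  rw [this]
  exact e.bijective

/-- The Čech complex of `g_* g^* F`. -/
noncomputable def cxPushIso :
    CohIII.tensorObj (cxA A W F) (bMod φ) ≅ cxA A W (pushPull g F) :=
  HomologicalComplex.Hom.isoOfComponents
    (fun p => LinearEquiv.toModuleIso (X₁ := (CohIII.tensorObj (cxA A W F) (bMod φ)).X p)
      (X₂ := cxX A W (pushPull g F) p)
      (LinearEquiv.ofBijective (cochainA φ g h W F p) (bijective_cochainA φ g h W F hW p)))
    fun i j hij => by
      let _ := φ.toAlgebra
      obtain rfl : i + 1 = j := hij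
      rw [cxA_d]
      refine ModuleCat.hom_ext (LinearMap.ext fun z => ?_)
      show cxD A W (pushPull g F) i (cochainA φ g h W F i z) =
        cochainA φ g h W F (i + 1) (LinearMap.rTensor B ((cxA A W F).d i (i + 1)).hom z)
      rw [show ((cxA A W F).d i (i + 1)).hom = cxD A W F i from congrArg ModuleCat.Hom.hom (cxA_d A W F i)]
      induction z using TensorProduct.induction_on with
      | zero =>
        exact ((congrArg _ (map_zero (cochainA φ g h W F i))).trans (map_zero _)).trans
          ((congrArg _ (map_zero _)).trans (map_zero _)).symm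
      | add u v hu hv => simp only [map_add, hu, hv]
      | tmul x b =>
        funext a
        show ∑ j : Fin (i + 2), (-1 : ℤ) ^ (j : ℕ) • resM (pushPull g F) (cinter_face W a j)
            (secA φ g h F (cinter W (a ∘ j.succAbove)) (x (a ∘ j.succAbove) ⊗ₜ b)) =
          secA φ g h F (cinter W a) ((∑ j : Fin (i + 2), (-1 : ℤ) ^ (j : ℕ) •
            resM F (cinter_face W a j) (x (a ∘ j.succAbove))) ⊗ₜ b)
        rw [TensorProduct.sum_tmul, map_sum]
        refine Finset.sum_congr rfl fun j _ => ?_
        rw [← TensorProduct.smul_tmul', map_zsmul, secA_tmul, secA_tmul]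
        refine congrArg ((-1 : ℤ) ^ (j : ℕ) • ·) ?_
        show resM ((Scheme.Modules.pullback g).obj F) (g.preimage_mono (cinter_face W a j))
          ((show B from b) • pullSec g (x (a ∘ j.succAbove))) =
            (show B from b) • pullSec g (resM F (cinter_face W a j) _)
        rw [resM_smulA, resM_pullSec]

/-- The map of Čech complexes attached to `m ↦ b • pullSec m`. -/
theorem cxMapA_unit_smul (b : B) :
    cxMapA A W ((Scheme.Modules.pullbackPushforwardAdjunction g).unit.app F ≫
      (Scheme.Modules.pushforward g).map (Formal.smulModΓ ((Scheme.Modules.pullback g).obj F)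
        (Coh.toGlobal (X' ↘ Spec (CommRingCat.of B)) b))) =
    (HomologicalComplex.Hom.isoOfComponents
      (fun k => (TensorProduct.rid A ((cxA A W F).X k)).toModuleIso)
      (fun k l _ => ModuleCat.hom_ext (TensorProduct.ext' fun x a =>
        map_smul ((cxA A W F).d k l).hom a x))).inv ≫
      CohIII.tensorMap (cxA A W F) (elemHom (M := bMod φ) (bEl φ b)) ≫ (cxPushIso φ g h W F hW).hom := by
  let _ := φ.toAlgebra
  refine HomologicalComplex.hom_ext _ _ fun p => ModuleCat.hom_ext (LinearMap.ext fun x => ?_)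
  funext a
  show (b • pullSec g (x a) : Γ((Scheme.Modules.pullback g).obj F, g ⁻¹ᵁ cinter W a)) =
    cochainA φ g h W F p (x ⊗ₜ[A] ((1 : A) • b)) a
  rw [one_smul]
  rfl

variable (hcov : ⨆ i, W i = ⊤) (n : ℕ)

omit [Finite ι] in
theorem isAffineHom_of_base : IsAffineHom g :=
  MorphismProperty.IsStableUnderBaseChange.of_isPullback (P := @IsAffineHom) h.flip inferInstance

/-- `H^n(X', g^*F) ≅ T_n(B)` of the Čech complex. -/
noncomputable def hhT :
    Coh.HH X' ((Scheme.Modules.pullback g).obj F) n ≃+ CohIII.T (cxA A W F) n (bMod φ) :=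
  haveI := isAffineHom_of_base φ g h
  haveI := EGA43.InjFibre.isQCoh_pullback g F
  haveI : Coh.IsQCoh (pushPull g F) := isQCoh_push g _
  haveI := Groth.Agent.Coherent.hasInjectiveResolutions_modules X'
  ((AddEquiv.ofBijective (pushEdge g ((Scheme.Modules.pullback g).obj F) n)
      (CohCmpLib.bijective_pushEdge_of_isAffineHom g ((Scheme.Modules.pullback g).obj F) n)).symm.trans
    (hhCech A W hcov hW (pushPull g F) n).toAddEquiv).trans
      (homologyMapIso (cxPushIso φ g h W F hW) n).toLinearEquiv.toAddEquiv.symm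

/-- `H^n(X, F) ≅ T_n(A)` of the Čech complex. -/
noncomputable def hhT₁ : Coh.HH X F n ≃ₗ[A] CohIII.T (cxA A W F) n (ModuleCat.of A A) :=
  (hhCech A W hcov hW F n).trans (unitTIso (cxA A W F) n).toLinearEquiv.symm

/-- The pullback of classes is the exchange map. -/
theorem hhT_smul_pullMod (x : Coh.HH X F n) (b : B) :
    hhT φ g h W F hW hcov n (b • pullMod g F n x) =
      exch (cxA A W F) n (bMod φ) (hhT₁ W F hW hcov n x ⊗ₜ[A] bEl φ b) := by
  have := isAffineHom_of_base φ g h
  have := EGA43.InjFibre.isQCoh_pullback g F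
  have : Coh.IsQCoh (pushPull g F) := isQCoh_push g _
  have := Groth.Agent.Coherent.hasInjectiveResolutions_modules X'
  let G := (Scheme.Modules.pullback g).obj F
  let r := Coh.toGlobal (X' ↘ Spec (CommRingCat.of B)) b
  let u := (Scheme.Modules.pullbackPushforwardAdjunction g).unit.app F ≫
    (Scheme.Modules.pushforward g).map (Formal.smulModΓ G r)
  have h1 : b • pullMod g F n x = pushEdge g G n (mapH u n x) := by
    show Sheaf.H.map (Coh.smulAb G r) n (pullMod g F n x) = _
    rw [← mapH_smulModΓ, pullMod_eq_pushEdge, ← CohCmpLib.pushEdge_natural]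
    refine congrArg (pushEdge g G n) ?_
    refine (Sheaf.H.map_comp_apply _ _ _).symm.trans ?_
    rw [← Functor.map_comp]
  rw [h1]
  have hb := CohCmpLib.bijective_pushEdge_of_isAffineHom g G n
  show (homologyMapIso (cxPushIso φ g h W F hW) n).inv (hhCech A W hcov hW (pushPull g F) n
    ((AddEquiv.ofBijective (pushEdge g G n) hb).symm
      (AddEquiv.ofBijective (pushEdge g G n) hb (mapH u n x)))) = _
  rw [AddEquiv.symm_apply_apply]
  refine (congrArg (homologyMapIso (cxPushIso φ g h W F hW) n).inv
    (hhCech_naturality A W hcov hW (M := F) (N := pushPull g F) u n x)).trans ?_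
  rw [exch_tmul, cxMapA_unit_smul φ g h W F hW b, HomologicalComplex.homologyMap_comp,
    HomologicalComplex.homologyMap_comp]
  simp only [CategoryTheory.comp_apply]
  erw [← CategoryTheory.comp_apply, ← HomologicalComplex.homologyMap_comp, Iso.hom_inv_id,
    HomologicalComplex.homologyMap_id]
  rfl

/-- The linearised pullback of classes. -/
noncomputable def pullB :
    letI := φ.toAlgebra
    Coh.HH X F n ⊗[A] B →+ Coh.HH X' ((Scheme.Modules.pullback g).obj F) n :=
  letI := φ.toAlgebra
  (hhT φ g h W F hW hcov n).symm.toAddMonoidHom.comp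
    ((exch (cxA A W F) n (bMod φ)).comp
      (LinearEquiv.rTensor B (hhT₁ W F hW hcov n)).toLinearMap).toAddMonoidHom

theorem pullB_tmul (x : Coh.HH X F n) (b : B) :
    letI := φ.toAlgebra
    pullB φ g h W F hW hcov n (x ⊗ₜ b) = b • pullMod g F n x := by
  let _ := φ.toAlgebra
  show (hhT φ g h W F hW hcov n).symm
    (exch (cxA A W F) n (bMod φ) (hhT₁ W F hW hcov n x ⊗ₜ[A] bEl φ b)) = b • pullMod g F n x
  rw [← hhT_smul_pullMod φ g h W F hW hcov n x b]
  exact (hhT φ g h W F hW hcov n).symm_apply_apply _

theorem pullB_iff :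
    (Surjective (pullB φ g h W F hW hcov n) ↔ Surjective (exch (cxA A W F) n (bMod φ))) ∧
      (Bijective (pullB φ g h W F hW hcov n) ↔ Bijective (exch (cxA A W F) n (bMod φ))) := by
  let _ := φ.toAlgebra
  let e₁ := LinearEquiv.rTensor B (hhT₁ (A := A) W F hW hcov n)
  let e₂ := (hhT φ g h W F hW hcov n).symm
  show (Surjective (⇑e₂ ∘ ⇑(exch (cxA A W F) n (bMod φ)) ∘ ⇑e₁) ↔ _) ∧
    (Bijective (⇑e₂ ∘ ⇑(exch (cxA A W F) n (bMod φ)) ∘ ⇑e₁) ↔ _)
  exact ⟨(EquivLike.comp_surjective _ e₂).trans (Surjective.of_comp_iff _ e₁.surjective),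
    (EquivLike.comp_bijective _ e₂).trans (Bijective.of_comp_iff _ e₁.bijective)⟩

end Groth.Agent.CohExch
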