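import Groth.Agent.CohExch.ChartAlg
import Groth.Agent.CohExch.Model
import Groth.Agent.CohExch.Local
import Groth.Agent.CohExch.IsoCrit
import Groth.Agent.Coherent.CohBC.Relative
import Groth.Agent.ConsPropLib.LocusMod
import Groth.Agent.H8Lim.TopDegreeApps
import Groth.Agent.Desc19b.ModStFibGrpd

/-!
# Affine charts with finite free complexes, over an arbitrary base
-/

set_option autoImplicit false
set_option backward.isDefEq.respectTransparency false

universe u

open CategoryTheory CategoryTheory.Limits AlgebraicGeometry Opposite TopologicalSpace TensorProduct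
open CohPull CohCmp Function
open Groth.Agent.Coherent Groth.Agent.Coherent.CohBC

namespace Groth.Agent.CohExch

variable {X S : Scheme.{u}} (f : X ⟶ S) (F : X.Modules)

/-- An affine open of the base with a finite free complex computing the cohomology above it. -/
structure Chart where
  U : S.Opens
  hU : IsAffineOpen U
  data : @PerfData Γ(S, U) _ (f ⁻¹ᵁ U).toScheme (overSections f hU) (F.restrict (f ⁻¹ᵁ U).ι)

namespace Chart

variable {f F} (C : Chart f F)

/-- The complex of a chart. -/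
noncomputable abbrev P : ChainComplex (ModuleCat.{u} Γ(S, C.U)) ℤ :=
  letI := overSections f C.hU
  C.data.P

/-- The prime of a point of a chart. -/
noncomputable abbrev pt {s : S} (hs : s ∈ C.U) : PrimeSpectrum Γ(S, C.U) :=
  C.hU.primeIdealOf ⟨s, hs⟩

theorem finite_free (i : ℤ) :
    Module.Finite Γ(S, C.U) (C.P.X i) ∧ Module.Free Γ(S, C.U) (C.P.X i) :=
  letI := overSections f C.hU
  C.data.finite_free_P i

/-- Flatness of the cokernel of the differential out of cohomological degree `n`. -/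
def Flat (n : ℤ) : Prop := FlatAt C.P (-n)

theorem flat_neg_one : C.Flat (-1) := by
  let _ := overSections f C.hU
  have h : (CohIII.TFun C.data.P (1 : ℤ)).PreservesEpimorphisms :=
    FlatCxLib.preservesEpi_of_isZero 1 fun M => C.data.isZero_T_pos 1 one_pos M
  rw [FlatCxLib.preservesEpi_iff_flat (1 : ℤ) 0 C.data.flat_P (by omega)] at h
  exact (h : FlatAt C.P (-(-1)))

end Chart

section Basic

variable {f F}

theorem isFlatOver_toSpecSections (hfl : FlatMod.IsFlatOver f F) {U : S.Opens} (hU : IsAffineOpen U) :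
    FlatMod.IsFlatOver (toSpecSections f hU) (F.restrict (f ⁻¹ᵁ U).ι) :=
  isFlatOver_of_iso _ ((Scheme.Modules.restrictFunctorIsoPullback (f ⁻¹ᵁ U).ι).app F).symm
    fun x => Desc19b.isFlatOverAt_baseChange f (toSpecSections f hU) (f ⁻¹ᵁ U).ι hU.fromSpec
      (isPullback_toSpecSections f hU) F x (hfl _)

theorem exists_chart [IsProper f] [LocallyOfFinitePresentation f] [Coh.IsQCoh F]
    (hfp : CohB1.IsFP F) (hfl : FlatMod.IsFlatOver f F) {V : S.Opens} {s : S} (hs : s ∈ V) :
    ∃ C : Chart f F, s ∈ C.U ∧ C.U ≤ V := by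
  obtain ⟨U, hU, hsU, hUV⟩ := exists_isAffineOpen_mem_and_subset hs
  let _ := overSections f hU
  have hsq := isPullback_toSpecSections f hU
  have : IsProper ((f ⁻¹ᵁ U).toScheme ↘ Spec (CommRingCat.of Γ(S, U))) :=
    MorphismProperty.of_isPullback (P := @IsProper) hsq inferInstance
  have : LocallyOfFinitePresentation ((f ⁻¹ᵁ U).toScheme ↘ Spec (CommRingCat.of Γ(S, U))) :=
    MorphismProperty.of_isPullback (P := @LocallyOfFinitePresentation) hsq inferInstance
  let e := (Scheme.Modules.restrictFunctorIsoPullback (f ⁻¹ᵁ U).ι).app F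
  obtain ⟨D⟩ := nonempty_perfData_of_isFP (A := Γ(S, U))
    ((Scheme.Modules.pullback (f ⁻¹ᵁ U).ι).obj F)
    (Desc19b.ModStFib.isFP_pullback _ F hfp)
    (isFlatOver_of_iso _ e (isFlatOver_toSpecSections hfl hU))
  exact ⟨⟨U, hU, perfDataOfIso D e.symm⟩, hsU, hUV⟩

/-- Shrink a chart to a basic open. -/
theorem Chart.exists_away [IsSeparated f] (hfl : FlatMod.IsFlatOver f F) (C : Chart f F)
    (a : Γ(S, C.U)) :
    ∃ C' : Chart f F, C'.U = S.basicOpen a ∧
      (∀ n, C.Flat n → C'.Flat n) ∧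
      (∀ n, Module.Flat (Localization.Away a)
        (Localization.Away a ⊗[Γ(S, C.U)] Coker C.P (-n) (-n - 1)) → C'.Flat n) ∧
      ∀ n : ℤ, (∀ z : CohIII.T C.P (-n) (ModuleCat.of Γ(S, C.U) Γ(S, C.U)), a • z = 0) →
        C.Flat n → Subsingleton (C'.P.homology (-n)) := by
  let U' := S.basicOpen a
  have le : U' ≤ C.U := S.basicOpen_le a
  have hU' : IsAffineOpen U' := C.hU.basicOpen a
  let _ := overSections f C.hU
  let _ := overSections f hU'
  let φ : Γ(S, C.U) →+* Γ(S, U') := ((𝟙 S : S ⟶ S).appLE C.U U' le).hom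
  let r := (𝟙 X : X ⟶ X).resLE (f ⁻¹ᵁ C.U) (f ⁻¹ᵁ U')
    (preimage_le_sq (f := f) (f' := f) (g := 𝟙 S) (g' := 𝟙 X) (by simp) le)
  have hsq : IsPullback r ((f ⁻¹ᵁ U').toScheme ↘ Spec (CommRingCat.of Γ(S, U')))
      ((f ⁻¹ᵁ C.U).toScheme ↘ Spec (CommRingCat.of Γ(S, C.U))) (Spec.map (CommRingCat.ofHom φ)) :=
    isPullback_resLE_toSpec (IsPullback.of_horiz_isIso ⟨by simp⟩ : IsPullback (𝟙 X) f f (𝟙 S))
      C.hU hU' le
  have : IsSeparated ((f ⁻¹ᵁ C.U).toScheme ↘ Spec (CommRingCat.of Γ(S, C.U))) :=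
    MorphismProperty.of_isPullback (P := @IsSeparated) (isPullback_toSpecSections f C.hU) inferInstance
  let e : (Scheme.Modules.pullback r).obj (F.restrict (f ⁻¹ᵁ C.U).ι) ≅ F.restrict (f ⁻¹ᵁ U').ι :=
    (Scheme.Modules.pullback r).mapIso ((Scheme.Modules.restrictFunctorIsoPullback _).app F) ≪≫
      (Scheme.Modules.pullbackComp r (f ⁻¹ᵁ C.U).ι).app F ≪≫
      (Scheme.Modules.pullbackCongr
        (show r ≫ (f ⁻¹ᵁ C.U).ι = (f ⁻¹ᵁ U').ι by rw [Scheme.Hom.resLE_comp_ι, Category.comp_id])).app F ≪≫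
      ((Scheme.Modules.restrictFunctorIsoPullback _).app F).symm
  let _ : Algebra Γ(S, C.U) Γ(S, U') := (S.presheaf.map (homOfLE le).op).hom.toAlgebra
  have : IsLocalization.Away a Γ(S, U') := C.hU.isLocalization_basicOpen a
  have hφ : φ = algebraMap Γ(S, C.U) Γ(S, U') := by
    show ((𝟙 S : S ⟶ S).appLE C.U U' le).hom = (S.presheaf.map (homOfLE le).op).hom
    simp [Scheme.Hom.appLE]
  refine ⟨⟨U', hU', perfDataOfIso
    (PerfData.baseChange φ r hsq C.data (isFlatOver_toSpecSections hfl C.hU)) e⟩, rfl,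
    fun n h => flatAt_bc C.P φ (-n) h, fun n h => flatAt_bc_away C.P a φ hφ (-n) h,
    fun n hk hn => ?_⟩
  have hu : IsUnit (φ a) := by
    rw [hφ]
    exact IsLocalization.Away.algebraMap_isUnit a
  exact subsingleton_homology_bc C.P (-n) φ (subsingleton_T_of_surjective_exch C.P (-n) φ a hk hu
    (bijective_exch_of_flatAt C.P C.finite_free (-n) hn _).2)

theorem mem_basicOpen_of_not_mem (C : Chart f F) {s : S} (hs : s ∈ C.U) {a : Γ(S, C.U)}
    (ha : a ∉ (C.pt hs).asIdeal) : s ∈ S.basicOpen a := by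
  have h : C.pt hs ∈ C.hU.fromSpec ⁻¹ᵁ S.basicOpen a := by
    rw [C.hU.fromSpec_preimage_basicOpen]
    exact ha
  have h' : C.hU.fromSpec (C.pt hs) ∈ S.basicOpen a := h
  rwa [show C.hU.fromSpec (C.pt hs) = s from C.hU.fromSpec_primeIdealOf _] at h'

/-- Surjective exchange at a point: a smaller chart with flat cokernel. -/
theorem Chart.exists_flat_of_surjective [IsSeparated f] (hfl : FlatMod.IsFlatOver f F) (C : Chart f F)
    {s : S} (hs : s ∈ C.U) (n : ℤ)
    (h : Surjective (exch C.P (-n) (ModuleCat.of Γ(S, C.U) (C.pt hs).asIdeal.ResidueField))) :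
    ∃ C' : Chart f F, s ∈ C'.U ∧ C'.U ≤ C.U ∧ C'.Flat n ∧ ∀ m, C.Flat m → C'.Flat m := by
  obtain ⟨a, ha, hflat⟩ := exists_flatAt_of_surjective_exch C.P C.finite_free (-n) (C.pt hs) h
  obtain ⟨C', hC', h1, h2, -⟩ := C.exists_away hfl a
  exact ⟨C', hC' ▸ mem_basicOpen_of_not_mem C hs ha, hC' ▸ S.basicOpen_le a, h2 n hflat, h1⟩

end Basic

section Fibre

variable {f F}

theorem subsingleton_fiberH_iff_rank [IsProper f] [Coh.IsQCoh F] (hfp : CohB1.IsFP F) (s : S) (p : ℕ) :
    Subsingleton (CohIII.fiberH f F s p) ↔ CohIII.fiberRank f F p s = 0 := by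
  have : IsProper (f.fiberToSpecResidueField s) :=
    MorphismProperty.pullback_snd (P := @IsProper) _ _ inferInstance
  have hc : Coh.IsCoh (CohIII.fiberMod f F s) := ConsPropLib.isCoh_fibre f F hfp s
  have : Coh.IsQCoh (CohIII.fiberMod f F s) := hc.1
  have : Module.Finite (S.residueField s) (CohIII.fiberH f F s p) :=
    (finite_HH_iff (S.residueField s) (CohIII.fiberMod f F s) p).2
      (finCoh_of_isProper (f.fiberToSpecResidueField s) _ hc p)
  exact Module.finrank_zero_iff.symm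

/-- The fibre dimension is read off the complex of a chart. -/
theorem Chart.fiberRank_eq [IsSeparated f] [QuasiCompact f] [Coh.IsQCoh F]
    (hfl : FlatMod.IsFlatOver f F) (C : Chart f F) {s : S} (hs : s ∈ C.U) (p : ℕ) :
    CohIII.fiberRank f F p s = CohIII.dRank C.P (-(p : ℤ)) (C.pt hs) := by
  let _ := overSections f C.hU
  have hsq := isPullback_toSpecSections f C.hU
  have : IsSeparated ((f ⁻¹ᵁ C.U).toScheme ↘ Spec (CommRingCat.of Γ(S, C.U))) :=
    MorphismProperty.of_isPullback (P := @IsSeparated) hsq inferInstance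
  have h := fiberRank_pullback hsq F p (C.pt hs)
  rw [C.hU.fromSpec_primeIdealOf] at h
  refine h.symm.trans (Eq.trans ?_ (C.data.fiberRank_eq (isFlatOver_toSpecSections hfl C.hU) (C.pt hs) p))
  let e : ((Scheme.Modules.pullback (f ⁻¹ᵁ C.U).ι).obj F) ≅ F.restrict (f ⁻¹ᵁ C.U).ι :=
    ((Scheme.Modules.restrictFunctorIsoPullback (f ⁻¹ᵁ C.U).ι).app F).symm
  exact finrank_HH_congr _ ((Scheme.Modules.pullback
    ((toSpecSections f C.hU).fiberι (C.pt hs))).mapIso e) p

theorem Chart.subsingleton_T_residue [IsProper f] [Coh.IsQCoh F] (hfp : CohB1.IsFP F)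
    (hfl : FlatMod.IsFlatOver f F) (C : Chart f F) {s : S} (hs : s ∈ C.U) (p : ℕ)
    (h : Subsingleton (CohIII.fiberH f F s p)) :
    Subsingleton (CohIII.T C.P (-(p : ℤ))
      (ModuleCat.of Γ(S, C.U) (C.pt hs).asIdeal.ResidueField)) := by
  let _ := overSections f C.hU
  have : IsSeparated ((f ⁻¹ᵁ C.U).toScheme ↘ Spec (CommRingCat.of Γ(S, C.U))) :=
    MorphismProperty.of_isPullback (P := @IsSeparated) (isPullback_toSpecSections f C.hU) inferInstance
  refine ModuleCat.subsingleton_of_isZero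
    (C.data.isZero_T_residue (isFlatOver_toSpecSections hfl C.hU) (C.pt hs) p
      ((C.data.subsingleton_fiberH_iff (isFlatOver_toSpecSections hfl C.hU) (C.pt hs) p).2 ?_))
  exact (C.fiberRank_eq hfl hs p).symm.trans ((subsingleton_fiberH_iff_rank hfp s p).1 h)

/-- A vanishing fibre makes the neighbouring cokernels flat and the homology zero nearby. -/
theorem Chart.exists_zero_of_fibre [IsProper f] [Coh.IsQCoh F] (hfp : CohB1.IsFP F)
    (hfl : FlatMod.IsFlatOver f F) (C : Chart f F) {s : S} (hs : s ∈ C.U) (p : ℕ)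
    (h : Subsingleton (CohIII.fiberH f F s p)) :
    ∃ C' : Chart f F, s ∈ C'.U ∧ C'.U ≤ C.U ∧ C'.Flat p ∧ C'.Flat ((p : ℤ) - 1) ∧
      Subsingleton (C'.P.homology (-(p : ℤ))) ∧ ∀ m, C.Flat m → C'.Flat m := by
  obtain ⟨C₁, hs₁, hle₁, hf₁, hm₁⟩ := C.exists_flat_of_surjective hfl hs p
    (surjective_exch_of_subsingleton _ _ _ (C.subsingleton_T_residue hfp hfl hs p h))
  obtain ⟨a, ha, hkill⟩ := exists_kill_homology C₁.P C₁.finite_free _ hf₁ (C₁.pt hs₁)
    (C₁.subsingleton_T_residue hfp hfl hs₁ p h)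
  obtain ⟨C₂, hC₂, h1, -, h3⟩ := C₁.exists_away hfl a
  have hz := h3 p hkill hf₁
  refine ⟨C₂, hC₂ ▸ mem_basicOpen_of_not_mem C₁ hs₁ ha, hC₂ ▸ (S.basicOpen_le a).trans hle₁,
    h1 _ hf₁, ?_, hz, fun m hm => h1 _ (hm₁ m hm)⟩
  have h' := flatAt_succ_of_flat_homology C₂.P C₂.finite_free (-(p : ℤ)) (h1 _ hf₁) inferInstance
  show FlatAt C₂.P (-((p : ℤ) - 1))
  rwa [show -((p : ℤ) - 1) = -(p : ℤ) + 1 by omega]

/-- The ring of functions on the spectrum of a field. -/
theorem isField_Γ_spec (K : Type u) [Field K] : IsField Γ(Spec (CommRingCat.of K), ⊤) :=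
  MulEquiv.isField (Field.toIsField K)
    (Scheme.ΓSpecIso (CommRingCat.of K)).commRingCatIsoToRingEquiv.toMulEquiv

theorem ker_appLE_fromSpecResidueField {U : S.Opens} (hU : IsAffineOpen U) {s : S} (hs : s ∈ U)
    (le : (⊤ : (Spec (S.residueField s)).Opens) ≤ S.fromSpecResidueField s ⁻¹ᵁ U) :
    RingHom.ker ((S.fromSpecResidueField s).appLE U ⊤ le).hom =
      (hU.primeIdealOf ⟨s, hs⟩).asIdeal := by
  let z : (Spec (S.residueField s) : Scheme.{u}) := IsLocalRing.closedPoint (S.residueField s)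
  have hz : S.fromSpecResidueField s z = s := by
    have : S.fromSpecResidueField s z ∈ Set.range (S.fromSpecResidueField s) := ⟨z, rfl⟩
    rw [Scheme.range_fromSpecResidueField] at this
    exact this
  have h := IsAffineOpen.comap_primeIdealOf_appLE (f := S.fromSpecResidueField s) U hU ⊤
    (isAffineOpen_top _) le (x := z) trivial
  have e : (hU.primeIdealOf ⟨s, hs⟩) = hU.primeIdealOf ⟨S.fromSpecResidueField s z, le trivial⟩ :=
    congrArg hU.primeIdealOf (Subtype.ext hz.symm)
  rw [e, ← h, PrimeSpectrum.comap_asIdeal, RingHom.ker_eq_comap_bot]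
  let _ : Field Γ(Spec (S.residueField s), ⊤) := (isField_Γ_spec (S.residueField s)).toField
  refine congrArg (Ideal.comap _) ?_
  exact ((Ideal.eq_bot_or_top ((isAffineOpen_top (Spec (S.residueField s))).primeIdealOf
    ⟨z, trivial⟩).asIdeal).resolve_right (PrimeSpectrum.isPrime _).ne_top).symm

end Fibre

section BaseChange

variable {f F} [HasInjectiveResolutions X.Modules] {X' S' : Scheme.{u}} {g' : X' ⟶ X} {f' : X' ⟶ S'}
  {g : S' ⟶ S} [HasInjectiveResolutions X'.Modules]
  {Δ : RDer.DerivedLES (Scheme.Modules.pushforward f)}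
  {Δ' : RDer.DerivedLES (Scheme.Modules.pushforward f')} {E : SectCmp f Δ} {E' : SectCmp f' Δ'}

/-- The base change map over an affine open above a chart is the exchange map of its complex. -/
theorem Chart.bc_app_iff (C : Chart f F) (h : IsPullback g' f' f g) (B : GenBC f g f' g' h.w E E')
    [QuasiCompact f] [QuasiSeparated f] [Coh.IsQCoh F] {U' : S'.Opens} (hU' : IsAffineOpen U')
    (le : U' ≤ g ⁻¹ᵁ C.U) (p : ℕ) :
    (Surjective ((B.bc p F).app U') ↔
        Surjective (exch C.P (-(p : ℤ)) (bMod (g.appLE C.U U' le).hom))) ∧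
      (Bijective ((B.bc p F).app U') ↔
        Bijective (exch C.P (-(p : ℤ)) (bMod (g.appLE C.U U' le).hom))) := by
  let _ := overSections f C.hU
  have := C.data.finite
  obtain ⟨h1, h2⟩ := CohExch.bc_app_iff h B F C.hU hU' le p C.data.W C.data.hcov C.data.hW
  obtain ⟨t1, t2⟩ := exch_transfer_iff _ _ _ _ (C.data.tIso p) (bMod (g.appLE C.U U' le).hom)
  exact ⟨h1.trans t1, h2.trans t2⟩

/-- With flat cokernels over the image, base change is an isomorphism. -/
theorem isIso_bc_of_flat [IsSeparated f] [QuasiCompact f] [Coh.IsQCoh F] (h : IsPullback g' f' f g)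
    (B : GenBC f g f' g' h.w E E') (p : ℕ)
    (hC : ∀ z : S', ∃ C : Chart f F, g z ∈ C.U ∧ C.Flat p) : IsIso (B.bc p F) := by
  have : IsSeparated f' := MorphismProperty.of_isPullback (P := @IsSeparated) h inferInstance
  have : QuasiCompact f' := MorphismProperty.of_isPullback (P := @QuasiCompact) h inferInstance
  have := isQCoh_rpush f F p
  have : Coh.IsQCoh ((Scheme.Modules.pullback g).obj ((Coh.Rpush f p).obj F)) :=
    EGA43.InjFibre.isQCoh_pullback g _
  have : Coh.IsQCoh ((Scheme.Modules.pullback g').obj F) := EGA43.InjFibre.isQCoh_pullback g' _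
  have : Coh.IsQCoh ((Coh.Rpush f' p).obj ((Scheme.Modules.pullback g').obj F)) := isQCoh_rpush f' _ p
  refine isIso_of_bijective_affine_cover (B.bc p F) fun z => ?_
  obtain ⟨C, hz, hflat⟩ := hC z
  obtain ⟨U', hU', hzU', le⟩ := exists_isAffineOpen_mem_and_subset (x := z) (U := g ⁻¹ᵁ C.U) hz
  exact ⟨U', hU', hzU', (C.bc_app_iff h B hU' le p).2.2
    (bijective_exch_of_flatAt C.P C.finite_free _ hflat _)⟩

end BaseChange

section FibreEpi

variable {f F} [HasInjectiveResolutions X.Modules] {s : S}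
  [HasInjectiveResolutions (f.fiber s).Modules]
  {Δ : RDer.DerivedLES (Scheme.Modules.pushforward f)}
  {Δs : RDer.DerivedLES (Scheme.Modules.pushforward (f.fiberToSpecResidueField s))}
  {E : SectCmp f Δ} {Es : SectCmp (f.fiberToSpecResidueField s) Δs}

/-- An epimorphic fibre base change gives a flat cokernel nearby. -/
theorem Chart.exists_flat_of_epi [IsSeparated f] [QuasiCompact f] [Coh.IsQCoh F]
    (hfl : FlatMod.IsFlatOver f F)
    (Bs : GenBC f (S.fromSpecResidueField s) (f.fiberToSpecResidueField s) (f.fiberι s) (f.fiber_fac s) E Es)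
    (C : Chart f F) (hs : s ∈ C.U) (p : ℕ) (hepi : Epi (Bs.bc p F)) :
    ∃ C' : Chart f F, s ∈ C'.U ∧ C'.U ≤ C.U ∧ C'.Flat p ∧ ∀ m, C.Flat m → C'.Flat m := by
  have hsq : IsPullback (f.fiberι s) (f.fiberToSpecResidueField s) f (S.fromSpecResidueField s) :=
    IsPullback.of_hasPullback f (S.fromSpecResidueField s)
  have : Subsingleton ↥(Spec (S.residueField s)) :=
    inferInstanceAs (Subsingleton (PrimeSpectrum (S.residueField s)))
  have le : (⊤ : (Spec (S.residueField s)).Opens) ≤ S.fromSpecResidueField s ⁻¹ᵁ C.U := fun z _ => by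
    have : S.fromSpecResidueField s z ∈ Set.range (S.fromSpecResidueField s) := ⟨z, rfl⟩
    rw [Scheme.range_fromSpecResidueField] at this
    show S.fromSpecResidueField s z ∈ C.U
    rw [this]
    exact hs
  refine C.exists_flat_of_surjective hfl hs p (surjective_exch_residue_of_field C.P _
    (isField_Γ_spec (S.residueField s)) _ (C.pt hs) (ker_appLE_fromSpecResidueField C.hU hs le) ?_)
  exact (C.bc_app_iff hsq Bs (isAffineOpen_top _) le p).1.1 ((epi_iff_surjective_top _).1 hepi)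

/-- A flat cokernel makes the fibre base change an isomorphism. -/
theorem isIso_fibre_of_flat [IsSeparated f] [QuasiCompact f] [Coh.IsQCoh F]
    (Bs : GenBC f (S.fromSpecResidueField s) (f.fiberToSpecResidueField s) (f.fiberι s) (f.fiber_fac s) E Es)
    (p : ℕ) (C : Chart f F) (hs : s ∈ C.U) (hC : C.Flat p) : IsIso (Bs.bc p F) :=
  isIso_bc_of_flat (IsPullback.of_hasPullback f (S.fromSpecResidueField s)) Bs p fun z => ⟨C, by
    have : S.fromSpecResidueField s z ∈ Set.range (S.fromSpecResidueField s) := ⟨z, rfl⟩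
    rw [Scheme.range_fromSpecResidueField] at this
    rw [this]
    exact hs, hC⟩

end FibreEpi

end Groth.Agent.CohExch
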