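import Groth.Agent.CohExch.Free
import Groth.Agent.CohExch.Cech
import Groth.Agent.FlatCxLib.DRank2
import Groth.Agent.Coherent.CohBC.RankConst

/-!
# The exchange calculus of a finite free complex
-/

set_option autoImplicit false
set_option backward.isDefEq.respectTransparency false

universe u

open CategoryTheory CategoryTheory.Limits TensorProduct Function Filter Topology
open Groth.Agent.FlatCxLib Groth.Agent.Coherent.CohBC

namespace Groth.Agent.CohExch

variable {A : Type u} [CommRing A]

section Cx

variable {ι : Type} {c : ComplexShape ι} (P : HomologicalComplex (ModuleCat.{u} A) c) (p : ι)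

/-- Surjective exchange at a field whose kernel is `x` gives it at `k(x)`. -/
theorem surjective_exch_residue_of_field {K : Type u} [CommRing K] (hK : IsField K) (φ : A →+* K)
    (x : PrimeSpectrum A) (hx : RingHom.ker φ = x.asIdeal) (h : Surjective (exch P p (bMod φ))) :
    Surjective (exch P p (ModuleCat.of A x.asIdeal.ResidueField)) := by
  let _ : Field K := hK.toField
  let _ : Algebra A K := φ.toAlgebra
  let j : x.asIdeal.ResidueField →ₐ[A] K := Ideal.ResidueField.liftₐ x.asIdeal (Algebra.ofId A K)
    (fun a ha => by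
      rw [RingHom.mem_ker]
      exact (show φ a = 0 by rw [← RingHom.mem_ker, hx]; exact ha))
    (fun a ha => by
      rw [Submonoid.mem_comap, IsUnit.mem_submonoid_iff, isUnit_iff_ne_zero]
      intro h0
      exact ha (show a ∈ x.asIdeal from hx ▸ (RingHom.mem_ker.2 h0 : a ∈ RingHom.ker φ)))
  let _ : Algebra x.asIdeal.ResidueField K := j.toRingHom.toAlgebra
  have : IsScalarTower A x.asIdeal.ResidueField K := .of_algebraMap_eq fun a => (j.commutes a).symm
  obtain ⟨l, hl⟩ := (Algebra.linearMap x.asIdeal.ResidueField K).exists_leftInverse_of_injective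
    (LinearMap.ker_eq_bot.2 (algebraMap x.asIdeal.ResidueField K).injective)
  let g : bMod φ ⟶ ModuleCat.of A x.asIdeal.ResidueField := ModuleCat.ofHom (l.restrictScalars A)
  let i : ModuleCat.of A x.asIdeal.ResidueField ⟶ bMod φ :=
    ModuleCat.ofHom ((Algebra.linearMap x.asIdeal.ResidueField K).restrictScalars A)
  have hig : i ≫ g = 𝟙 _ := ModuleCat.hom_ext (LinearMap.ext fun y => LinearMap.congr_fun hl y)
  intro z
  obtain ⟨w, hw⟩ := h ((CohIII.TFun P p).map i z)
  refine ⟨g.hom.lTensor _ w, ?_⟩
  rw [exch_natural, hw, ← CategoryTheory.comp_apply, ← Functor.map_comp, hig,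
    CategoryTheory.Functor.map_id]
  rfl

theorem surjective_exch_of_subsingleton (M : ModuleCat.{u} A) (h : Subsingleton (CohIII.T P p M)) :
    Surjective (exch P p M) :=
  fun y => ⟨0, Subsingleton.elim _ _⟩

/-- Tensoring with an algebra in which a killing element is invertible. -/
theorem subsingleton_T_of_surjective_exch {B : Type u} [CommRing B] (φ : A →+* B) (a : A)
    (ha : ∀ z : CohIII.T P p (ModuleCat.of A A), a • z = 0) (hu : IsUnit (φ a))
    (h : Surjective (exch P p (bMod φ))) : Subsingleton (CohIII.T P p (bMod φ)) := by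
  let _ := φ.toAlgebra
  have h0 : ∀ w : CohIII.T P p (ModuleCat.of A A) ⊗[A] B, w = 0 := fun w => by
    induction w with
    | zero => rfl
    | add u v hu hv => rw [hu, hv, add_zero]
    | tmul z b =>
      obtain ⟨c, hc⟩ := hu.exists_left_inv
      have : b = a • (c * b) := by
        rw [Algebra.smul_def, ← mul_assoc, mul_comm (algebraMap A B a) c,
          show algebraMap A B a = φ a from rfl, hc, one_mul]
      rw [this, ← TensorProduct.smul_tmul, ha, TensorProduct.zero_tmul]
  refine ⟨fun y y' => ?_⟩
  obtain ⟨w, rfl⟩ := h y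
  obtain ⟨w', rfl⟩ := h y'
  rw [show w = 0 from h0 w, show w' = 0 from h0 w']

/-- Vanishing of `T_p` at an algebra kills the homology of the base change. -/
theorem subsingleton_homology_bc {B : Type u} [CommRing B] (φ : A →+* B)
    (h : Subsingleton (CohIII.T P p (bMod φ))) :
    Subsingleton ((CohIII.bcCx φ P).homology p) := by
  let _ := φ.toAlgebra
  let e : (ModuleCat.restrictScalars φ).obj (ModuleCat.of B B) ≅ bMod φ :=
    restrictSelfIso (A := A) B
  exact ((((CohIII.TFun P p).mapIso e).symm ≪≫ bcHomologyIso φ P p).toLinearEquiv.toEquiv.subsingleton_congr.1 h)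

end Cx

section Chain

variable (P : ChainComplex (ModuleCat.{u} A) ℤ)
  (hP : ∀ i, Module.Finite A (P.X i) ∧ Module.Free A (P.X i))

/-- Flatness of the cokernel out of degree `i`. -/
def FlatAt (i : ℤ) : Prop := Module.Flat A (Coker P i (i - 1))

theorem flatAt_bc {B : Type u} [CommRing B] (φ : A →+* B) (i : ℤ) (h : FlatAt P i) :
    FlatAt (CohIII.bcCx φ P) i := by
  let _ := φ.toAlgebra
  have : Module.Flat A (P.X (i - 1) ⧸ LinearMap.range (P.d i (i - 1)).hom) := h
  exact (flat_coker_bc_iff φ P i (i - 1)).2 inferInstance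

theorem flatAt_bc_away (a : A) {B : Type u} [CommRing B] [Algebra A B] [IsLocalization.Away a B]
    (φ : A →+* B) (hφ : φ = algebraMap A B) (i : ℤ)
    (h : Module.Flat (Localization.Away a) (Localization.Away a ⊗[A] Coker P i (i - 1))) :
    FlatAt (CohIII.bcCx φ P) i := by
  subst hφ
  have e : ‹Algebra A B› = (algebraMap A B).toAlgebra := Algebra.algebra_ext _ _ fun _ => rfl
  refine (flat_coker_bc_iff (algebraMap A B) P i (i - 1)).2 ?_
  rw [← e]
  let ε := IsLocalization.algEquiv (Submonoid.powers a) (Localization.Away a) B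
  let _ : Algebra (Localization.Away a) B := ε.toRingEquiv.toRingHom.toAlgebra
  have : IsScalarTower A (Localization.Away a) B := .of_algebraMap_eq fun x => (ε.commutes x).symm
  exact Module.Flat.of_linearEquiv
    (M := B ⊗[Localization.Away a] (Localization.Away a ⊗[A] Coker P i (i - 1)))
    (AlgebraTensorModule.cancelBaseChange A (Localization.Away a) B B (Coker P i (i - 1))).symm

include hP

theorem exists_flatAt_of_surjective_exch (i : ℤ) (x : PrimeSpectrum A)
    (h : Surjective (exch P i (ModuleCat.of A x.asIdeal.ResidueField))) :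
    ∃ a : A, a ∉ x.asIdeal ∧
      Module.Flat (Localization.Away a) (Localization.Away a ⊗[A] Coker P i (i - 1)) := by
  have := (hP i).1
  have := (hP (i - 1)).1
  have := (hP (i - 1)).2
  exact exists_flat_coker_of_surjective_exch P i (i - 1) (by omega) x h

theorem bijective_exch_of_flatAt (i : ℤ) (h : FlatAt P i) (M : ModuleCat.{u} A) :
    Bijective (exch P i M) := by
  have := (hP (i - 1)).2
  have : Module.Flat A (P.X (i - 1) ⧸ LinearMap.range (P.d i (i - 1)).hom) := h
  exact bijective_exch_of_flat P i (i - 1) (by omega) M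

theorem finite_homology_of_flatAt (i : ℤ) (h : FlatAt P i) : Module.Finite A (P.homology i) := by
  have := (hP i).1
  have := (hP (i - 1)).1
  have := (hP (i - 1)).2
  have : Module.Flat A (Coker P i (i - 1)) := h
  exact (finite_homology P i (i - 1) (by omega) (i + 1) rfl).1

theorem projective_homology_of_flatAt (i : ℤ) (h : FlatAt P i) (h' : FlatAt P (i + 1)) :
    Module.Finite A (P.homology i) ∧ Module.Projective A (P.homology i) := by
  have := (hP (i + 1)).1
  have := (hP i).1
  have := (hP i).2
  have := (hP (i - 1)).1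
  have := (hP (i - 1)).2
  have : Module.Flat A (Coker P i (i - 1)) := h
  have h'' : Module.Flat A (Coker P (i + 1) i) := by
    have e : i + 1 - 1 = i := by omega
    unfold FlatAt at h'
    rwa [e] at h'
  exact ((homology_flat_iff P i (i - 1) (by omega) (i + 1) rfl).2 h'').symm

theorem flatAt_succ_of_flat_homology (i : ℤ) (h : FlatAt P i) (hH : Module.Flat A (P.homology i)) :
    FlatAt P (i + 1) := by
  have := (hP (i + 1)).1
  have := (hP i).1
  have := (hP i).2
  have := (hP (i - 1)).1
  have := (hP (i - 1)).2
  have : Module.Flat A (Coker P i (i - 1)) := h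
  have h'' := (homology_flat_iff P i (i - 1) (by omega) (i + 1) rfl).1.1 hH
  have e : i + 1 - 1 = i := by omega
  unfold FlatAt
  rw [e]
  exact h''

/-- A vanishing fibre and flat cokernel: the homology dies near the point. -/
theorem exists_kill_homology (i : ℤ) (h : FlatAt P i) (x : PrimeSpectrum A)
    (hx : Subsingleton (CohIII.T P i (ModuleCat.of A x.asIdeal.ResidueField))) :
    ∃ a : A, a ∉ x.asIdeal ∧ ∀ z : CohIII.T P i (ModuleCat.of A A), a • z = 0 := by
  have := finite_homology_of_flatAt P hP i h
  have : Module.Finite A (CohIII.T P i (ModuleCat.of A A)) :=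
    Module.Finite.equiv (unitTIso P i).toLinearEquiv.symm
  have hs : Subsingleton (CohIII.T P i (ModuleCat.of A A) ⊗[A] x.asIdeal.ResidueField) :=
    (Equiv.ofBijective _
      (bijective_exch_of_flatAt P hP i h (ModuleCat.of A x.asIdeal.ResidueField))).subsingleton
  have hns : x ∉ Module.support A (CohIII.T P i (ModuleCat.of A A)) := by
    rw [Module.mem_support_iff_nontrivial_residueField_tensorProduct, not_nontrivial_iff_subsingleton]
    exact (TensorProduct.comm A _ _).toEquiv.subsingleton
  rw [Module.support_eq_zeroLocus, PrimeSpectrum.mem_zeroLocus] at hns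
  obtain ⟨a, ha, hax⟩ := Set.not_subset.1 hns
  exact ⟨a, hax, Module.mem_annihilator.1 ha⟩

omit hP in
theorem flatAt_of_subsingleton_X (i : ℤ) (h : Subsingleton (P.X (i - 1))) : FlatAt P i :=
  inferInstanceAs (Module.Flat A (P.X (i - 1) ⧸ LinearMap.range (P.d i (i - 1)).hom))

/-- Over a reduced ring locally constant fibre dimension makes both cokernels flat. -/
theorem flatAt_of_isLocallyConstant_dRank [IsReduced A] (i : ℤ)
    (h : IsLocallyConstant (CohIII.dRank P i)) : FlatAt P i ∧ FlatAt P (i + 1) := by
  have := (hP i).1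
  have := (hP (i - 1)).1
  have := (hP (i - 1)).2
  have hP' : ∀ j, Module.Finite A (P.X j) ∧ Module.Flat A (P.X j) := fun j =>
    ⟨(hP j).1, have := (hP j).2; inferInstance⟩
  have : Module.FinitePresentation A (P.X (i - 1)) := Module.finitePresentation_of_projective A _
  have h' : IsLocallyConstant fun x : PrimeSpectrum A =>
      fibreRank (P.X i ⧸ LinearMap.range (P.d (i + 1) i).hom) x +
        fibreRank (P.X (i - 1) ⧸ LinearMap.range (P.d i (i - 1)).hom) x := by
    have : IsLocallyConstant fun x => CohIII.dRank P i x + Module.rankAtStalk (P.X (i - 1)) x :=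
      h.comp₂ (Module.isLocallyConstant_rankAtStalk) (· + ·)
    simpa only [dRank_add P hP' (i + 1) i (i - 1) rfl (by omega)] using this
  obtain ⟨h1, h2⟩ := isLocallyConstant_of_usc_add (upperSemicontinuous_fibreRank _)
    (upperSemicontinuous_fibreRank _) h'
  refine ⟨flat_of_isLocallyConstant_fibreRank _ h2, ?_⟩
  have e : i + 1 - 1 = i := by omega
  unfold FlatAt
  rw [e]
  exact flat_of_isLocallyConstant_fibreRank _ h1

/-- With both cokernels flat the fibre dimension is locally constant. -/
theorem isLocallyConstant_dRank (i : ℤ) (h : FlatAt P i) (h' : FlatAt P (i + 1)) :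
    IsLocallyConstant (CohIII.dRank P i) := by
  have := (hP i).1
  have := (hP (i - 1)).1
  have := (hP (i - 1)).2
  have := (hP i).2
  have hP' : ∀ j, Module.Finite A (P.X j) ∧ Module.Flat A (P.X j) := fun j =>
    ⟨(hP j).1, have := (hP j).2; inferInstance⟩
  have : Module.FinitePresentation A (P.X i) := Module.finitePresentation_of_projective A _
  have : Module.FinitePresentation A (P.X (i - 1)) := Module.finitePresentation_of_projective A _
  have hc₁ : Module.Flat A (P.X (i - 1) ⧸ LinearMap.range (P.d i (i - 1)).hom) := h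
  have hc₂ : Module.Flat A (P.X i ⧸ LinearMap.range (P.d (i + 1) i).hom) := by
    have e : i + 1 - 1 = i := by omega
    unfold FlatAt at h'
    rwa [e] at h'
  have : Module.FinitePresentation A (P.X (i - 1) ⧸ LinearMap.range (P.d i (i - 1)).hom) :=
    Module.finitePresentation_of_surjective _ (Submodule.mkQ_surjective _)
      (by rw [Submodule.ker_mkQ, LinearMap.range_eq_map]; exact (Module.Finite.fg_top).map _)
  have : Module.FinitePresentation A (P.X i ⧸ LinearMap.range (P.d (i + 1) i).hom) :=
    Module.finitePresentation_of_surjective _ (Submodule.mkQ_surjective _)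
      (by have := (hP (i + 1)).1; rw [Submodule.ker_mkQ, LinearMap.range_eq_map]; exact (Module.Finite.fg_top).map _)
  refine (IsLocallyConstant.iff_eventually_eq _).2 fun x => ?_
  filter_upwards [(Module.isLocallyConstant_rankAtStalk (R := A) (M := P.X (i - 1))).eventually_eq x,
    (Module.isLocallyConstant_rankAtStalk (R := A)
      (M := P.X (i - 1) ⧸ LinearMap.range (P.d i (i - 1)).hom)).eventually_eq x,
    (Module.isLocallyConstant_rankAtStalk (R := A)
      (M := P.X i ⧸ LinearMap.range (P.d (i + 1) i).hom)).eventually_eq x] with y h1 h2 h3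
  have ex := dRank_add P hP' (i + 1) i (i - 1) rfl (by omega) x
  have ey := dRank_add P hP' (i + 1) i (i - 1) rfl (by omega) y
  simp only [fibreRank_eq_rankAtStalk] at ex ey
  omega

end Chain

end Groth.Agent.CohExch
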