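import Groth.Agent.CohExch.ChartApps
import Groth.Agent.H8Lim.FibreDimVanish

/-!
# Cohomology and base change at a point, over an arbitrary base
-/

set_option autoImplicit false
set_option backward.isDefEq.respectTransparency false

universe u

open CategoryTheory CategoryTheory.Limits AlgebraicGeometry Opposite TopologicalSpace TensorProduct
open CohPull CohCmp Function
open Groth.Agent.Coherent Groth.Agent.Coherent.CohBC

namespace Groth.Agent.CohExch

variable {X S : Scheme.{u}} {f : X ⟶ S} {F : X.Modules} [IsProper f] [LocallyOfFinitePresentation f]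
  [Coh.IsQCoh F] (hfp : CohB1.IsFP F) (hfl : FlatMod.IsFlatOver f F)

include hfp hfl

/-- A vanishing fibre gives a chart with flat cokernels and vanishing homology. -/
theorem exists_zero_chart {V : S.Opens} {s : S} (hs : s ∈ V) (p : ℕ)
    (h : Subsingleton (CohIII.fiberH f F s p)) :
    ∃ C : Chart f F, s ∈ C.U ∧ C.U ≤ V ∧ C.Flat p ∧ C.Flat ((p : ℤ) - 1) ∧
      Subsingleton (C.P.homology (-(p : ℤ))) := by
  obtain ⟨C₀, h₀, hle₀⟩ := exists_chart hfp hfl hs
  obtain ⟨C, hC, hle, h1, h2, hz, -⟩ := C₀.exists_zero_of_fibre hfp hfl h₀ p h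
  exact ⟨C, hC, hle.trans hle₀, h1, h2, hz⟩

theorem isOpen_fibre_vanishing (p : ℕ) :
    IsOpen {s : S | Subsingleton (CohIII.fiberH f F s p)} := by
  refine isOpen_iff_forall_mem_open.2 fun s hs => ?_
  obtain ⟨C, hC, -, h1, -, hz⟩ := exists_zero_chart hfp hfl (V := ⊤) (s := s) trivial p hs
  exact ⟨C.U, fun t ht => C.subsingleton_fiberH hfp hfl p h1 hz ht, C.U.2, hC⟩

theorem isZero_rpush_restrict_of_fibres [HasInjectiveResolutions X.Modules] (p : ℕ) (U : S.Opens)
    (h : ∀ y ∈ U, Subsingleton (CohIII.fiberH f F y p)) :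
    IsZero (((Coh.Rpush f p).obj F).restrict U.ι) := by
  refine isZero_restrict_of_nhds _ U fun y hy W hW => ?_
  obtain ⟨C, hC, hle, -, -, hz⟩ := exists_zero_chart hfp hfl hW p (h y hy)
  obtain ⟨e⟩ := C.nonempty_sectionsEquiv p
  exact ⟨C.U, hC, hle, e.toEquiv.subsingleton⟩

theorem isZero_rpush_of_fibres [HasInjectiveResolutions X.Modules] (p : ℕ)
    (h : ∀ y : S, Subsingleton (CohIII.fiberH f F y p)) : IsZero ((Coh.Rpush f p).obj F) := by
  refine (IsZero.iff_id_eq_zero _).2 (Scheme.Modules.hom_ext _ _ fun V => ?_)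
  ext z
  show (z : Γ((Coh.Rpush f p).obj F, V)) = 0
  refine Props12.eq_of_nhds _ _ _ fun y hy => ?_
  obtain ⟨C, hC, hle, -, -, hz⟩ := exists_zero_chart hfp hfl hy p (h y)
  obtain ⟨e⟩ := C.nonempty_sectionsEquiv p
  have := e.toEquiv.subsingleton
  exact ⟨C.U, hle, hC, Subsingleton.elim _ _⟩

omit hfl [LocallyOfFinitePresentation f] [Coh.IsQCoh F] in
/-- Fibres of dimension `≤ d` have no cohomology above `d`. -/
theorem subsingleton_fiberH_of_dim (d : ℕ) (s : S) (hd : topologicalKrullDim (f.fiber s) ≤ d)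
    (p : ℕ) (hp : d < p) : Subsingleton (CohIII.fiberH f F s p) := by
  have : IsProper (f.fiberToSpecResidueField s) :=
    MorphismProperty.pullback_snd (P := @IsProper) _ _ inferInstance
  have hc : Coh.IsCoh (CohIII.fiberMod f F s) := ConsPropLib.isCoh_fibre f F hfp s
  have : Coh.IsQCoh (CohIII.fiberMod f F s) := hc.1
  refine H8Lim.subsingleton_HH_of_fibre_dim (f.fiberToSpecResidueField s) d (fun y => ?_)
    (CohIII.fiberMod f F s) p hp
  exact le_trans ((f.fiberToSpecResidueField s).fiberι y).isEmbedding.isInducing.topologicalKrullDim_le hd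

end Groth.Agent.CohExch
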