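import Groth.Agent.Coherent.CohBC.FlatReplace
import Groth.Agent.FlatCxLib.Exact
import Groth.Agent.FlatCxLib.BaseChange
import Mathlib.Algebra.Homology.ShortComplex.Linear

/-!
# The exchange maps `T_p(A) ⊗ M → T_p(M)` of a complex of flat modules

No Noetherian hypothesis.
-/

set_option autoImplicit false
set_option backward.isDefEq.respectTransparency false

universe u

open CategoryTheory CategoryTheory.Limits TensorProduct Function MonoidalCategory
open Groth.Agent.FlatCxLib

namespace Groth.Agent.CohExch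

variable {A : Type u} [CommRing A]

section Functor

variable {ι : Type} {c : ComplexShape ι} (P : HomologicalComplex (ModuleCat.{u} A) c) (p : ι)

theorem TFun_map_add {M N : ModuleCat.{u} A} (g h : M ⟶ N) :
    (CohIII.TFun P p).map (g + h) = (CohIII.TFun P p).map g + (CohIII.TFun P p).map h := by
  show HomologicalComplex.homologyMap _ p = _
  have e : CohIII.tensorMap P (g + h) = CohIII.tensorMap P g + CohIII.tensorMap P h := by
    refine HomologicalComplex.hom_ext _ _ fun i => ModuleCat.hom_ext ?_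
    exact LinearMap.lTensor_add (P.X i) g.hom h.hom
  rw [e, HomologicalComplex.homologyMap_add]
  rfl

theorem TFun_map_smul (r : A) {M N : ModuleCat.{u} A} (g : M ⟶ N) :
    (CohIII.TFun P p).map (r • g) = r • (CohIII.TFun P p).map g := by
  have e : CohIII.tensorMap P (r • g) = r • CohIII.tensorMap P g := by
    refine HomologicalComplex.hom_ext _ _ fun i => ModuleCat.hom_ext ?_
    exact TensorProduct.ext' fun x m => TensorProduct.tmul_smul r x (g.hom m)
  show HomologicalComplex.homologyMap _ p = _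
  rw [e]
  show ShortComplex.homologyMap ((HomologicalComplex.shortComplexFunctor (ModuleCat.{u} A) c p).map
    (r • CohIII.tensorMap P g)) = r • ShortComplex.homologyMap _
  rw [← ShortComplex.homologyMap_smul]
  congr 1

/-- `a ↦ a • m`. -/
noncomputable abbrev elemHom {M : ModuleCat.{u} A} (m : M) : ModuleCat.of A A ⟶ M :=
  ModuleCat.ofHom (LinearMap.toSpanSingleton A M m)

theorem elemHom_add {M : ModuleCat.{u} A} (m m' : M) : elemHom (m + m') = elemHom m + elemHom m' :=
  ModuleCat.hom_ext (LinearMap.ext fun a => smul_add a m m')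

theorem elemHom_smul {M : ModuleCat.{u} A} (r : A) (m : M) : elemHom (r • m) = r • elemHom m :=
  ModuleCat.hom_ext (LinearMap.ext fun a => smul_comm a r m)

theorem elemHom_comp {M N : ModuleCat.{u} A} (m : M) (g : M ⟶ N) :
    elemHom m ≫ g = elemHom (g m) :=
  ModuleCat.hom_ext (LinearMap.ext fun a => g.hom.map_smul a m)

/-- The exchange map `T_p(A) ⊗ M → T_p(M)`. -/
noncomputable def exch (M : ModuleCat.{u} A) :
    CohIII.T P p (ModuleCat.of A A) ⊗[A] M →ₗ[A] CohIII.T P p M :=
  TensorProduct.lift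
    (LinearMap.mk₂ A (fun z m => (CohIII.TFun P p).map (elemHom m) z)
      (fun z z' m => map_add _ z z') (fun r z m => map_smul _ r z)
      (fun z m m' => by rw [elemHom_add, TFun_map_add]; rfl)
      (fun r z m => by rw [elemHom_smul, TFun_map_smul]; rfl))

theorem exch_tmul (M : ModuleCat.{u} A) (z : CohIII.T P p (ModuleCat.of A A)) (m : M) :
    exch P p M (z ⊗ₜ m) = (CohIII.TFun P p).map (elemHom m) z := rfl

theorem exch_natural {M N : ModuleCat.{u} A} (g : M ⟶ N)
    (w : CohIII.T P p (ModuleCat.of A A) ⊗[A] M) :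
    exch P p N (g.hom.lTensor _ w) = (CohIII.TFun P p).map g (exch P p M w) := by
  induction w with
  | zero => simp
  | add a b ha hb => simp only [map_add, ha, hb]
  | tmul z m =>
    rw [LinearMap.lTensor_tmul, exch_tmul, exch_tmul, ← CategoryTheory.comp_apply, ← Functor.map_comp,
      elemHom_comp]

theorem exch_of_iso {M N : ModuleCat.{u} A} (e : M ≅ N) :
    (Surjective (exch P p M) ↔ Surjective (exch P p N)) ∧
      (Bijective (exch P p M) ↔ Bijective (exch P p N)) := by
  have h : ⇑(exch P p N) ∘ ⇑(LinearEquiv.lTensor (CohIII.T P p (ModuleCat.of A A)) e.toLinearEquiv) =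
      ⇑((CohIII.TFun P p).mapIso e).toLinearEquiv ∘ ⇑(exch P p M) :=
    funext fun w => exch_natural P p e.hom w
  refine ⟨?_, ?_⟩
  · rw [← EquivLike.comp_surjective _ ((CohIII.TFun P p).mapIso e).toLinearEquiv, ← h]
    exact Surjective.of_comp_iff _ (LinearEquiv.surjective _)
  · rw [← EquivLike.comp_bijective _ ((CohIII.TFun P p).mapIso e).toLinearEquiv, ← h]
    exact Bijective.of_comp_iff _ (LinearEquiv.bijective _)

variable {ι' : Type} {c' : ComplexShape ι'} (Q : HomologicalComplex (ModuleCat.{u} A) c') (q : ι')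

theorem exch_transfer (α : CohIII.TFun P p ≅ CohIII.TFun Q q) (M : ModuleCat.{u} A) :
    ⇑(exch Q q M) ∘ ⇑(LinearEquiv.rTensor M (α.app (ModuleCat.of A A)).toLinearEquiv) =
      ⇑(α.app M).toLinearEquiv ∘ ⇑(exch P p M) := by
  funext w
  induction w with
  | zero => simp
  | add a b ha hb => simp only [Function.comp_apply, map_add] at ha hb ⊢; rw [ha, hb]
  | tmul z m =>
    exact (ConcreteCategory.congr_hom (α.hom.naturality (elemHom m)) z).symm

theorem exch_transfer_iff (α : CohIII.TFun P p ≅ CohIII.TFun Q q) (M : ModuleCat.{u} A) :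
    (Surjective (exch P p M) ↔ Surjective (exch Q q M)) ∧
      (Bijective (exch P p M) ↔ Bijective (exch Q q M)) := by
  have h := exch_transfer P p Q q α M
  refine ⟨?_, ?_⟩
  · rw [← EquivLike.comp_surjective _ (α.app M).toLinearEquiv, ← h]
    exact Surjective.of_comp_iff _ (LinearEquiv.surjective _)
  · rw [← EquivLike.comp_bijective _ (α.app M).toLinearEquiv, ← h]
    exact Bijective.of_comp_iff _ (LinearEquiv.bijective _)

end Functor

section Chain

variable (P : ChainComplex (ModuleCat.{u} A) ℤ) (p r : ℤ) (hpr : r + 1 = p)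
  (M : ModuleCat.{u} A)

/-- A cycle of `P`, as one of `P ⊗ A`. -/
theorem tmul_one_mem_ker {x : P.X p} (hx : x ∈ LinearMap.ker (P.d p r).hom) :
    x ⊗ₜ[A] (1 : A) ∈ LinearMap.ker ((CohIII.tensorObj P (ModuleCat.of A A)).d p r).hom := by
  rw [LinearMap.mem_ker] at hx ⊢
  show (P.d p r).hom.rTensor A (x ⊗ₜ 1) = 0
  rw [LinearMap.rTensor_tmul, hx, TensorProduct.zero_tmul]

/-- The class of a cycle in `T_p(A)`. -/
noncomputable def cls₁ : LinearMap.ker (P.d p r).hom →ₗ[A] CohIII.T P p (ModuleCat.of A A) :=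
  (cls (CohIII.tensorObj P (ModuleCat.of A A)) p r hpr).comp
    (LinearMap.codRestrict _
      (((TensorProduct.mk A (P.X p) A).flip 1).comp (LinearMap.ker (P.d p r).hom).subtype)
      fun x => tmul_one_mem_ker P p r x.2)

theorem cls₁_surjective : Surjective (cls₁ P p r hpr) := by
  intro z
  obtain ⟨⟨w, hw⟩, rfl⟩ := cls_surjective (CohIII.tensorObj P (ModuleCat.of A A)) p r hpr z
  obtain ⟨x, rfl⟩ := (TensorProduct.rid A (P.X p)).symm.surjective w
  refine ⟨⟨x, ?_⟩, congrArg (cls (CohIII.tensorObj P (ModuleCat.of A A)) p r hpr)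
    (Subtype.ext (TensorProduct.rid_symm_apply x).symm)⟩
  rw [LinearMap.mem_ker] at hw ⊢
  have : (TensorProduct.rid A (P.X r)) ((P.d p r).hom.rTensor A (x ⊗ₜ[A] (1 : A))) = 0 := by
    rw [← TensorProduct.rid_symm_apply]
    exact (congrArg _ hw).trans (map_zero _)
  rwa [LinearMap.rTensor_tmul, TensorProduct.rid_tmul, one_smul] at this

/-- `ker d ⊗ M → ker (d ⊗ M)`. -/
noncomputable def kerTensor :
    LinearMap.ker (P.d p r).hom ⊗[A] M →ₗ[A]
      LinearMap.ker ((CohIII.tensorObj P M).d p r).hom :=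
  LinearMap.codRestrict _ ((LinearMap.ker (P.d p r).hom).subtype.rTensor M) fun u => by
    rw [LinearMap.mem_ker]
    show (P.d p r).hom.rTensor M ((LinearMap.ker (P.d p r).hom).subtype.rTensor M u) = 0
    rw [← LinearMap.comp_apply, ← LinearMap.rTensor_comp, LinearMap.comp_ker_subtype,
      LinearMap.rTensor_zero, LinearMap.zero_apply]

theorem exch_cls₁ (u : LinearMap.ker (P.d p r).hom ⊗[A] M) :
    exch P p M ((cls₁ P p r hpr).rTensor M u) =
      cls (CohIII.tensorObj P M) p r hpr (kerTensor P p r M u) := by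
  induction u with
  | zero => simp
  | add a b ha hb => simp only [map_add, ha, hb]
  | tmul x m =>
    rw [LinearMap.rTensor_tmul, exch_tmul]
    refine (cls_map p r hpr (CohIII.tensorMap P (elemHom m)) _).trans (congrArg _ (Subtype.ext ?_))
    show (x : P.X p) ⊗ₜ[A] ((1 : A) • m) = (x : P.X p) ⊗ₜ[A] m
    rw [one_smul]

include hpr in
theorem surjective_kerTensor_of_surjective_exch (h : Surjective (exch P p M))
    (hfd : ∀ v, (P.d (p + 1) p).hom.rTensor M v ∈
      LinearMap.range ((LinearMap.ker (P.d p r).hom).subtype.rTensor M)) :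
    LinearMap.ker ((P.d p r).hom.rTensor M) ≤
      LinearMap.range ((LinearMap.ker (P.d p r).hom).subtype.rTensor M) := by
  intro z hz
  obtain ⟨w, hw⟩ := h (cls (CohIII.tensorObj P M) p r hpr ⟨z, hz⟩)
  obtain ⟨u, rfl⟩ := LinearMap.rTensor_surjective M (cls₁_surjective P p r hpr) w
  rw [exch_cls₁, ← sub_eq_zero, ← map_sub, cls_eq_zero_iff _ (p + 1) p r rfl hpr] at hw
  obtain ⟨v, hv⟩ := hw
  have hsub : z = (LinearMap.ker (P.d p r).hom).subtype.rTensor M u -
      (P.d (p + 1) p).hom.rTensor M v := by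
    rw [show (P.d (p + 1) p).hom.rTensor M v =
      (LinearMap.ker (P.d p r).hom).subtype.rTensor M u - z from hv]
    abel
  rw [hsub]
  exact sub_mem ⟨u, rfl⟩ (hfd v)

theorem boundary_mem (v : P.X (p + 1) ⊗[A] M) :
    (P.d (p + 1) p).hom.rTensor M v ∈
      LinearMap.range ((LinearMap.ker (P.d p r).hom).subtype.rTensor M) := by
  let f' : P.X (p + 1) →ₗ[A] LinearMap.ker (P.d p r).hom :=
    (P.d (p + 1) p).hom.codRestrict _ fun x =>
      LinearMap.mem_ker.2 (LinearMap.congr_fun (d_comp_d_hom P (p + 1) p r) x)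
  refine ⟨f'.rTensor M v, ?_⟩
  rw [← LinearMap.comp_apply, ← LinearMap.rTensor_comp, LinearMap.subtype_comp_codRestrict]

include hpr in
/-- The exchange map is onto iff cycles of `P ⊗ M` come from cycles of `P`. -/
theorem surjective_exch_iff :
    Surjective (exch P p M) ↔
      LinearMap.ker ((P.d p r).hom.rTensor M) ≤
        LinearMap.range ((LinearMap.ker (P.d p r).hom).subtype.rTensor M) := by
  refine ⟨fun h => surjective_kerTensor_of_surjective_exch P p r hpr M h (boundary_mem P p r M),
    fun h z => ?_⟩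
  obtain ⟨⟨w, hw⟩, rfl⟩ := cls_surjective (CohIII.tensorObj P M) p r hpr z
  obtain ⟨u, hu⟩ := h hw
  exact ⟨(cls₁ P p r hpr).rTensor M u,
    (exch_cls₁ P p r hpr M u).trans (congrArg _ (Subtype.ext hu))⟩

include hpr in
/-- The exchange map is bijective next to a flat cokernel. -/
theorem bijective_exch_of_flat [Module.Flat A (P.X r)]
    [Module.Flat A (P.X r ⧸ LinearMap.range (P.d p r).hom)] :
    Bijective (exch P p M) := by
  have hker := ker_rTensor_eq (g := (P.d p r).hom) M
  refine ⟨?_, (surjective_exch_iff P p r hpr M).2 hker.le⟩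
  rw [← LinearMap.ker_eq_bot, eq_bot_iff]
  intro w hw
  obtain ⟨u, rfl⟩ := LinearMap.rTensor_surjective M (cls₁_surjective P p r hpr) w
  rw [LinearMap.mem_ker, exch_cls₁, cls_eq_zero_iff _ (p + 1) p r rfl hpr] at hw
  obtain ⟨v, hv⟩ := hw
  obtain ⟨u', hu'⟩ : ∃ u', u' = ((P.d (p + 1) p).hom.codRestrict (LinearMap.ker (P.d p r).hom) fun x =>
      LinearMap.mem_ker.2 (LinearMap.congr_fun (d_comp_d_hom P (p + 1) p r) x)).rTensor M v := ⟨_, rfl⟩
  have := flat_range (P.d p r).hom
  have hex : Exact (LinearMap.ker (P.d p r).hom).subtype (P.d p r).hom.rangeRestrict := by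
    rw [LinearMap.exact_iff, LinearMap.ker_rangeRestrict, Submodule.range_subtype]
  have hi : Injective ((LinearMap.ker (P.d p r).hom).subtype.rTensor M) :=
    (LinearMap.lTensor_inj_iff_rTensor_inj M _).mp
      (LinearMap.lTensor_injective_of_exact_of_flat _ (P.d p r).hom.surjective_rangeRestrict _
        Subtype.val_injective hex M)
  have hu : u = u' := hi <| by
    rw [hu', ← LinearMap.comp_apply (f := (LinearMap.ker (P.d p r).hom).subtype.rTensor M)
      (g := LinearMap.rTensor M _), ← LinearMap.rTensor_comp, LinearMap.subtype_comp_codRestrict]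
    exact hv.symm
  rw [Submodule.mem_bot, hu, hu', ← LinearMap.comp_apply, ← LinearMap.rTensor_comp]
  have h0 : (cls₁ P p r hpr) ∘ₗ ((P.d (p + 1) p).hom.codRestrict (LinearMap.ker (P.d p r).hom) fun x =>
      LinearMap.mem_ker.2 (LinearMap.congr_fun (d_comp_d_hom P (p + 1) p r) x)) = 0 := by
    refine LinearMap.ext fun x => ?_
    refine (cls_eq_zero_iff _ (p + 1) p r rfl hpr _).2 ⟨x ⊗ₜ[A] (1 : A), ?_⟩
    rfl
  rw [h0, LinearMap.rTensor_zero, LinearMap.zero_apply]

end Chain

end Groth.Agent.CohExch
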