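import Groth.Agent.CohExch.AnyShape
import Groth.Agent.CohExch.Cech
import Groth.Agent.Coherent.CohBC.FlatHomology
import Groth.Agent.Coherent.CohBC.Geom
import Mathlib.RingTheory.IsTensorProduct

/-!
# The exchange map is bijective for flat cohomology
-/

set_option autoImplicit false
set_option backward.isDefEq.respectTransparency false

universe u

open CategoryTheory CategoryTheory.Limits AlgebraicGeometry Opposite TopologicalSpace TensorProduct
open Function HomologicalComplex
open Groth.Agent.Coherent Groth.Agent.Coherent.CohBC Groth.Agent.FlatCxLib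

namespace Groth.Agent.CohExch

section Cochain

variable {A : Type u} [CommRing A] (C : CochainComplex (ModuleCat.{u} A) ℕ)

/-- Cokernels of isomorphic maps. -/
noncomputable def cokerCongr {M N M' N' : Type u} [AddCommGroup M] [AddCommGroup N] [AddCommGroup M']
    [AddCommGroup N'] [Module A M] [Module A N] [Module A M'] [Module A N'] (f : M →ₗ[A] N)
    (f' : M' →ₗ[A] N') (e₁ : M ≃ₗ[A] M') (e₂ : N ≃ₗ[A] N')
    (h : e₂.toLinearMap ∘ₗ f = f' ∘ₗ e₁.toLinearMap) :
    (N ⧸ LinearMap.range f) ≃ₗ[A] N' ⧸ LinearMap.range f' :=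
  Submodule.Quotient.equiv _ _ e₂ (by
    rw [← LinearMap.range_comp, h, LinearMap.range_comp_of_range_eq_top _ e₁.range])

theorem flat_coker_cochain (hflat : ∀ n, Module.Flat A (C.X n)) (N : ℕ)
    (hvan : ∀ n, N ≤ n → ∀ M : ModuleCat.{u} A, IsZero (CohIII.T C n M))
    (hH : ∀ n, Module.Flat A (C.homology n)) (n : ℕ) :
    Module.Flat A (C.X (n + 1) ⧸ LinearMap.range (C.d n (n + 1)).hom) := by
  let e : ∀ m : ℕ, (extZ C).homology (m : ℤ) ≅ C.homology m := fun m =>
    (unitTIso _ _).symm ≪≫ extTIso C _ m ≪≫ unitTIso C m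
  have hH' : ∀ i, Module.Flat A ((extZ C).homology i) := fun i => by
    rcases lt_or_ge i 0 with hi | hi
    · have := ModuleCat.subsingleton_of_isZero
        ((isZero_T_extZ_neg C _ i hi).of_iso (unitTIso (extZ C) i).symm)
      infer_instance
    · lift i to ℕ using hi
      exact @Module.Flat.of_linearEquiv A (C.homology i) _ _ _ _ _ _ (hH i) (e i).toLinearEquiv
  have h : Module.Flat A ((toChain (extZ C)).X (-((n + 1 : ℕ) : ℤ)) ⧸
      LinearMap.range ((toChain (extZ C)).d (-((n + 1 : ℕ) : ℤ) + 1) (-((n + 1 : ℕ) : ℤ))).hom) :=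
    flat_coker_toChain (extZ C) (flat_extZ C hflat) (N : ℤ) (univVanishes_extZ C N hvan) hH' _
  have key : ∀ i j : ℤ, i = (n : ℤ) → j = ((n + 1 : ℕ) : ℤ) →
      Module.Flat A ((extZ C).X j ⧸ LinearMap.range ((extZ C).d i j).hom) →
      Module.Flat A (C.X (n + 1) ⧸ LinearMap.range (C.d n (n + 1)).hom) := by
    rintro i j rfl rfl h
    let e₁ := C.extendXIso ComplexShape.embeddingUpNat (i := n) (i' := (n : ℤ)) rfl
    let e₂ := C.extendXIso ComplexShape.embeddingUpNat (i := n + 1) (i' := ((n + 1 : ℕ) : ℤ)) rfl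
    refine @Module.Flat.of_linearEquiv A _ _ _ _ _ _ _ h
      (cokerCongr _ _ e₁.toLinearEquiv e₂.toLinearEquiv (LinearMap.ext fun x => ?_)).symm
    have hd := C.extend_d_eq ComplexShape.embeddingUpNat (i := n) (j := n + 1) (i' := (n : ℤ))
      (j' := ((n + 1 : ℕ) : ℤ)) rfl rfl
    show e₂.hom ((extZ C).d (n : ℤ) ((n + 1 : ℕ) : ℤ) x) = C.d n (n + 1) (e₁.hom x)
    rw [hd]
    simp only [CategoryTheory.comp_apply]
    erw [← CategoryTheory.comp_apply, Iso.inv_hom_id]
    rfl
  exact key _ _ (show -(-((n + 1 : ℕ) : ℤ) + 1) = (n : ℤ) by push_cast; ring) (neg_neg _) h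

end Cochain

section Injective

variable {A R A' B : Type u} [CommRing A] [CommRing R] [CommRing A'] [CommRing B] [Algebra A R]
  [Algebra A A'] [Algebra R B] [Algebra A' B] [Algebra A B] [IsScalarTower A R B]
  [IsScalarTower A A' B] [Algebra.IsPushout A R A' B]

variable {K N : Type u} [AddCommGroup K] [AddCommGroup N] [Module R K] [Module R N] [Module A K]
  [Module A N] [IsScalarTower A R K] [IsScalarTower A R N]

theorem injective_rTensor_of_pushout (j : K →ₗ[R] N)
    (h : Injective ((j.restrictScalars A).rTensor A')) : Injective (j.rTensor B) := by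
  let e : R ⊗[A] A' ≃ₗ[R] B := (Algebra.IsPushout.equiv A R A' B).toLinearEquiv
  let cK := ((LinearEquiv.lTensor K e).symm).trans (AlgebraTensorModule.cancelBaseChange A R R K A')
  let cN := ((LinearEquiv.lTensor N e).symm).trans (AlgebraTensorModule.cancelBaseChange A R R N A')
  have hc : ∀ z, cN (j.rTensor B z) = (j.restrictScalars A).rTensor A' (cK z) := fun z => by
    induction z with
    | zero => simp
    | add a b ha hb => simp only [map_add, ha, hb]
    | tmul k b =>
      obtain ⟨t, rfl⟩ := e.surjective b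
      induction t with
      | zero => simp
      | add a b ha hb => simp only [map_add, TensorProduct.tmul_add, ha, hb]
      | tmul r a =>
        simp [cK, cN, map_smul]
  intro x y hxy
  exact cK.injective (h ((hc x).symm.trans ((congrArg cN hxy).trans (hc y))))

end Injective

section Cech

variable {A R B : Type u} [CommRing A] [CommRing R] [CommRing B] [Algebra A R]
  [Algebra R B] [Algebra A B] [IsScalarTower A R B]
  {Z : Scheme.{u}} [Z.Over (Spec (CommRingCat.of A))] [Z.Over (Spec (CommRingCat.of R))]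

theorem bijective_exch_of_flat_homology (A' : Type u) [CommRing A'] [Algebra A A'] [Algebra A' B]
    [IsScalarTower A A' B] [Algebra.IsPushout A R A' B] [IsSeparated (Z ↘ Spec (CommRingCat.of A))]
    (hZ : ∀ a : A, Coh.toGlobal (Z ↘ Spec (CommRingCat.of A)) a =
      Coh.toGlobal (Z ↘ Spec (CommRingCat.of R)) (algebraMap A R a))
    {ι : Type u} [Finite ι] (W : ι → Z.Opens) (hcov : ⨆ i, W i = ⊤)
    (hW : ∀ (p : ℕ) (a : Fin (p + 1) → ι), IsAffineOpen (cinter W a)) (F : Z.Modules) [Coh.IsQCoh F]
    (hfl' : ∀ n : ℕ, Module.Flat A ((cxA A W F).X n))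
    (hH : ∀ n : ℕ, Module.Flat A (Coh.HH Z F n)) (p : ℕ) :
    Bijective (exch (cxA R W F) p (ModuleCat.of R B)) := by
  have hc : ∀ n, Module.Flat A ((cxA A W F).X (n + 1) ⧸
      LinearMap.range ((cxA A W F).d n (n + 1)).hom) :=
    flat_coker_cochain (cxA A W F) hfl' (Nat.card ι)
      (fun m hm M => isZero_T_cxA W F hW hcov m hm M)
      fun m => @Module.Flat.of_linearEquiv A (Coh.HH Z F m) _ _ _ _ _ _ (hH m)
        (hhCech A W hcov hW F m).symm
  have : ∀ (k : ℕ), IsScalarTower A R (∀ a : Fin (k + 1) → ι, Γ(F, cinter W a)) := fun k =>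
    IsScalarTower.of_algebraMap_smul fun a x => funext fun i => by
      show (toΓ R (cinter W i) (algebraMap A R a)) • x i = (toΓ A (cinter W i) a) • x i
      exact congrArg (fun r : Γ(Z, cinter W i) => r • x i)
        (congrArg (Z.presheaf.map (homOfLE (le_top (a := cinter W i))).op) (hZ a)).symm
  let gR := cxD R W F p
  let gA := cxD A W F p
  have hg : gR.restrictScalars A = gA := LinearMap.ext fun x => rfl
  have hd : (cxA R W F).d p (p + 1) = ModuleCat.ofHom gR := cxA_d R W F p
  have hflat : Module.Flat A ((∀ a : Fin (p + 2) → ι, Γ(F, cinter W a)) ⧸ LinearMap.range gA) := by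
    have := hc p
    rwa [cxA_d] at this
  have : Module.Flat A (∀ a : Fin (p + 2) → ι, Γ(F, cinter W a)) := hfl' (p + 1)
  have := flat_range gA
  refine AnyShape.bijective_exch_of_injective (cxA R W F) ((ComplexShape.up ℕ).prev p) p (p + 1) rfl
    (CochainComplex.next ℕ p) _ ?_ ?_
  · rw [hd]
    refine injective_rTensor_of_pushout (A := A) (A' := A') (LinearMap.range gR).subtype ?_
    exact (LinearMap.lTensor_inj_iff_rTensor_inj A' _).mp
      (LinearMap.lTensor_injective_of_exact_of_flat ((LinearMap.range gA).mkQ)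
        (Submodule.mkQ_surjective _) _ Subtype.val_injective
        (LinearMap.exact_subtype_mkQ (LinearMap.range gA)) A')
  · rw [hd]
    refine injective_rTensor_of_pushout (A := A) (A' := A') (LinearMap.ker gR).subtype ?_
    refine (LinearMap.lTensor_inj_iff_rTensor_inj A' _).mp
      (LinearMap.lTensor_injective_of_exact_of_flat gA.rangeRestrict gA.surjective_rangeRestrict _
        Subtype.val_injective ?_ A')
    exact LinearMap.exact_iff.2 ((LinearMap.ker_rangeRestrict gA).trans (Submodule.range_subtype _).symm)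

end Cech

end Groth.Agent.CohExch
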