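import Groth.Agent.CohExch.Exchange
import Mathlib.RingTheory.LocalRing.Module
import Mathlib.RingTheory.Spectrum.Prime.FreeLocus
import Mathlib.RingTheory.Finiteness.Projective

/-!
# Surjective exchange at a residue field makes the cokernel of the differential free nearby
-/

set_option autoImplicit false
set_option backward.isDefEq.respectTransparency false

universe u

open CategoryTheory CategoryTheory.Limits TensorProduct Function
open Groth.Agent.FlatCxLib

namespace Groth.Agent.CohExch

variable {A : Type u} [CommRing A]

section Linear

variable {Pp Pr : Type u} [AddCommGroup Pp] [AddCommGroup Pr] [Module A Pp] [Module A Pr]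
  (g : Pp →ₗ[A] Pr)

theorem injective_rTensor_range_of_ker_le {M : Type u} [AddCommGroup M] [Module A M]
    (h : LinearMap.ker (g.rTensor M) ≤ LinearMap.range ((LinearMap.ker g).subtype.rTensor M)) :
    Injective ((LinearMap.range g).subtype.rTensor M) := by
  rw [injective_iff_map_eq_zero]
  intro v hv
  obtain ⟨z, rfl⟩ := LinearMap.rTensor_surjective M g.surjective_rangeRestrict v
  obtain ⟨w, rfl⟩ := h (x := z) (by
    rw [LinearMap.mem_ker]
    conv_lhs => rw [show g = (LinearMap.range g).subtype ∘ₗ g.rangeRestrict from rfl]
    rw [LinearMap.rTensor_comp, LinearMap.comp_apply, hv])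
  rw [← LinearMap.comp_apply, ← LinearMap.rTensor_comp]
  rw [show g.rangeRestrict ∘ₗ (LinearMap.ker g).subtype = 0 from
    LinearMap.ext fun x => Subtype.ext (LinearMap.mem_ker.1 x.2), LinearMap.rTensor_zero,
    LinearMap.zero_apply]

variable [Module.Finite A Pp] [Module.Finite A Pr] [Module.Projective A Pr]

/-- The cokernel is free at a prime at whose residue field the exchange map is onto. -/
theorem mem_freeLocus_coker (x : PrimeSpectrum A)
    (h : LinearMap.ker (g.rTensor x.asIdeal.ResidueField) ≤
      LinearMap.range ((LinearMap.ker g).subtype.rTensor x.asIdeal.ResidueField)) :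
    x ∈ Module.freeLocus A (Pr ⧸ LinearMap.range g) := by
  let Ax := Localization.AtPrime x.asIdeal
  let k := x.asIdeal.ResidueField
  rw [Module.mem_freeLocus_iff_tensor x Ax]
  have : Module.Finite A (LinearMap.range g) :=
    Module.Finite.of_surjective g.rangeRestrict g.surjective_rangeRestrict
  have : Module.Free Ax (Ax ⊗[A] Pr) := Module.free_of_flat_of_isLocalRing
  refine Module.free_of_lTensor_residueField_injective
    ((LinearMap.range g).subtype.baseChange Ax) ((LinearMap.range g).mkQ.baseChange Ax)
    (LinearMap.lTensor_surjective Ax (Submodule.mkQ_surjective _))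
    (lTensor_exact Ax (LinearMap.exact_subtype_mkQ _) (Submodule.mkQ_surjective _)) ?_
  have hi : Injective ((LinearMap.range g).subtype.lTensor k) :=
    (LinearMap.lTensor_inj_iff_rTensor_inj k _).2 (injective_rTensor_range_of_ker_le g h)
  let e₁ := AlgebraTensorModule.cancelBaseChange A Ax k k (LinearMap.range g)
  let e₂ := AlgebraTensorModule.cancelBaseChange A Ax k k Pr
  have he : ∀ z, e₂ (((LinearMap.range g).subtype.baseChange Ax).lTensor k z) =
      (LinearMap.range g).subtype.lTensor k (e₁ z) := fun z => by
    induction z with
    | zero => simp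
    | add a b ha hb => simp only [map_add, ha, hb]
    | tmul c w =>
      induction w with
      | zero => simp
      | add a b ha hb => simp only [tmul_add, map_add, ha, hb]
      | tmul a m => simp [e₁, e₂]
  intro a b hab
  exact e₁.injective (hi ((he a).symm.trans ((congrArg e₂ hab).trans (he b))))

/-- A basic neighbourhood over which the cokernel is flat. -/
theorem exists_flat_coker (x : PrimeSpectrum A) (hx : x ∈ Module.freeLocus A (Pr ⧸ LinearMap.range g)) :
    ∃ f : A, f ∉ x.asIdeal ∧
      Module.Flat (Localization.Away f) (Localization.Away f ⊗[A] (Pr ⧸ LinearMap.range g)) := by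
  have : Module.FinitePresentation A Pr := Module.finitePresentation_of_projective A Pr
  have : Module.FinitePresentation A (Pr ⧸ LinearMap.range g) :=
    Module.finitePresentation_of_surjective (LinearMap.range g).mkQ (Submodule.mkQ_surjective _)
      (by rw [Submodule.ker_mkQ, LinearMap.range_eq_map]; exact (Module.Finite.fg_top).map g)
  obtain ⟨V, ⟨f, rfl⟩, hxf, hf⟩ :=
    PrimeSpectrum.isTopologicalBasis_basic_opens.exists_subset_of_mem_open hx Module.isOpen_freeLocus
  refine ⟨f, hxf, ?_⟩
  have := Module.basicOpen_subset_freeLocus_iff.1 hf
  exact Module.Flat.of_linearEquiv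
    (LocalizedModule.equivTensorProduct (Submonoid.powers f) (Pr ⧸ LinearMap.range g)).symm

end Linear

section Chain

variable (P : ChainComplex (ModuleCat.{u} A) ℤ) (p r : ℤ) (hpr : r + 1 = p)

/-- The cokernel of the differential out of degree `p`. -/
abbrev Coker : Type u := P.X r ⧸ LinearMap.range (P.d p r).hom

include hpr in
set_option maxHeartbeats 1000000 in
/-- Surjective exchange at `k(x)` gives a flat cokernel near `x`. -/
theorem exists_flat_coker_of_surjective_exch [Module.Finite A (P.X p)] [Module.Finite A (P.X r)]
    [Module.Projective A (P.X r)] (x : PrimeSpectrum A)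
    (h : Surjective (exch P p (ModuleCat.of A x.asIdeal.ResidueField))) :
    ∃ f : A, f ∉ x.asIdeal ∧
      Module.Flat (Localization.Away f) (Localization.Away f ⊗[A] Coker P p r) :=
  exists_flat_coker _ x (mem_freeLocus_coker _ x ((surjective_exch_iff P p r hpr _).1 h))

variable (q : ℤ) (hqp : p + 1 = q)

include hpr hqp in
/-- With flat cokernel out of degree `p`, the homology is finite. -/
theorem finite_homology [Module.Finite A (P.X p)] [Module.Finite A (P.X r)] [Module.Projective A (P.X r)]
    [Module.Flat A (Coker P p r)] :
    Module.Finite A (P.homology p) ∧ Module.Projective A (LinearMap.range (P.d p r).hom) := by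
  have : Module.FinitePresentation A (P.X r) := Module.finitePresentation_of_projective A _
  have : Module.FinitePresentation A (Coker P p r) :=
    Module.finitePresentation_of_surjective (LinearMap.range (P.d p r).hom).mkQ
      (Submodule.mkQ_surjective _)
      (by rw [Submodule.ker_mkQ, LinearMap.range_eq_map]; exact (Module.Finite.fg_top).map _)
  have : Module.Projective A (Coker P p r) := Module.Flat.projective_of_finitePresentation
  have hp : Module.Projective A (LinearMap.range (P.d p r).hom) := by
    have := (Exact.split_tfae (LinearMap.exact_subtype_mkQ (LinearMap.range (P.d p r).hom))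
      Subtype.val_injective (Submodule.mkQ_surjective _)).out 0 1
    obtain ⟨l, hl⟩ := this.mp
      (Module.projective_lifting_property _ _ (Submodule.mkQ_surjective _))
    exact Module.Projective.of_split _ _ hl
  obtain ⟨s, hs⟩ := Module.projective_lifting_property (P.d p r).hom.rangeRestrict LinearMap.id
    (P.d p r).hom.surjective_rangeRestrict
  have hex : Exact (LinearMap.ker (P.d p r).hom).subtype (P.d p r).hom.rangeRestrict := by
    rw [LinearMap.exact_iff, LinearMap.ker_rangeRestrict, Submodule.range_subtype]
  have := (Exact.split_tfae hex Subtype.val_injective (P.d p r).hom.surjective_rangeRestrict).out 0 1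
  obtain ⟨l, hl⟩ := this.mp ⟨s, hs⟩
  have : Module.Finite A (LinearMap.ker (P.d p r).hom) :=
    Module.Finite.of_surjective l fun y => ⟨y, LinearMap.congr_fun hl y⟩
  exact ⟨Module.Finite.equiv (homologyQuotEquiv P q p r hqp hpr), hp⟩

include hpr hqp in
/-- With flat cokernel out of degree `p`: the homology is flat iff the cokernel into `p` is, and then
it is finite projective. -/
theorem homology_flat_iff [Module.Finite A (P.X q)] [Module.Finite A (P.X p)] [Module.Projective A (P.X p)]
    [Module.Finite A (P.X r)] [Module.Projective A (P.X r)] [Module.Flat A (Coker P p r)] :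
    (Module.Flat A (P.homology p) ↔ Module.Flat A (Coker P q p)) ∧
      (Module.Flat A (Coker P q p) → Module.Projective A (P.homology p) ∧ Module.Finite A (P.homology p)) := by
  have e := homologyQuotEquiv P q p r hqp hpr
  have hfl := flat_coker_iff_flat_homology (d_comp_d_hom P q p r)
  refine ⟨(Module.Flat.equiv_iff e.symm).trans hfl.symm, fun h => ?_⟩
  have h' : Module.Flat A (P.homology p) := (Module.Flat.equiv_iff e.symm).2 (hfl.1 h)
  obtain ⟨hfin, hproj⟩ := finite_homology P p r hpr q hqp
  refine ⟨?_, hfin⟩
  have : Module.FinitePresentation A (P.X p) := Module.finitePresentation_of_projective A _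
  have : Module.FinitePresentation A (Coker P q p) :=
    Module.finitePresentation_of_surjective (LinearMap.range (P.d q p).hom).mkQ
      (Submodule.mkQ_surjective _)
      (by rw [Submodule.ker_mkQ, LinearMap.range_eq_map]; exact (Module.Finite.fg_top).map _)
  have : Module.Projective A (Coker P q p) := Module.Flat.projective_of_finitePresentation
  have hs : Surjective ((LinearMap.range (P.d q p).hom).liftQ (P.d p r).hom.rangeRestrict (by
      rw [LinearMap.ker_rangeRestrict]
      exact LinearMap.range_le_ker_iff.mpr (d_comp_d_hom P q p r))) := fun y => by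
    obtain ⟨z, rfl⟩ := (P.d p r).hom.surjective_rangeRestrict y
    exact ⟨Submodule.Quotient.mk z, rfl⟩
  have := (Exact.split_tfae (exact_homologyToCoker (d_comp_d_hom P q p r))
    (homologyToCoker_injective _) hs).out 0 1
  obtain ⟨l, hl⟩ := this.mp (Module.projective_lifting_property _ _ hs)
  have : Module.Projective A (homologyQuot (P.d q p).hom (P.d p r).hom) :=
    Module.Projective.of_split _ l hl
  exact Module.Projective.of_equiv e

end Chain

end Groth.Agent.CohExch
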