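import Groth.Agent.Misc15.ClosedLocal

/-!
# A subfunctor of a scheme represented locally by monomorphisms with a local property
-/

set_option autoImplicit false
universe u

open CategoryTheory AlgebraicGeometry Opposite Groth.Agent.Misc15.ClosedLocal

noncomputable section

namespace Groth.Agent.CohExch.LocalSub

variable (X : Scheme.{u}) (P : ∀ T : Scheme.{u}, (T ⟶ X) → Prop)
  (hpre : ∀ (T T' : Scheme.{u}) (t : T' ⟶ T) (x : T ⟶ X), P T x → P T' (t ≫ x))

include hpre in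
theorem exists_of_locally (Q : MorphismProperty Scheme.{u}) [IsZariskiLocalAtTarget Q]
    (hloc : ∀ (T : Scheme.{u}) (x : T ⟶ X) (𝒱 : Scheme.OpenCover.{u} T), (∀ i, P _ (𝒱.f i ≫ x)) → P T x)
    {ι : Type u} (U : ι → X.Opens) (hU : TopologicalSpace.IsOpenCover U)
    (hrep : ∀ i, ∃ (Z : Scheme.{u}) (j : Z ⟶ U i), Q j ∧ Mono j ∧
      ∀ (T : Scheme.{u}) (x : T ⟶ U i), P T (x ≫ (U i).ι) ↔ ∃ z, z ≫ j = x) :
    ∃ (Z : Scheme.{u}) (j : Z ⟶ X), Q j ∧ ∀ (T : Scheme.{u}) (x : T ⟶ X), P T x ↔ ∃ z, z ≫ j = x := by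
  classical
  choose Zc jc hjc hmono hP using hrep
  let F : Sheaf Scheme.zariskiTopology.{u} (Type u) := ⟨subFunctor X P hpre, isSheaf_subFunctor X P hpre hloc⟩
  let f : ∀ i, yoneda.obj (Zc i) ⟶ F.1 := fun i =>
    { app := fun T => TypeCat.ofHom fun z => ⟨z ≫ jc i ≫ (U i).ι, by
        have := (hP i _ (z ≫ jc i)).2 ⟨z, rfl⟩
        simpa using this⟩
      naturality := fun T T' t => ConcreteCategory.hom_ext _ _ fun z => Subtype.ext (by
        show (t.unop ≫ z) ≫ jc i ≫ (U i).ι = t.unop ≫ z ≫ jc i ≫ (U i).ι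
        rw [Category.assoc]) }
  have hlift : ∀ (i) (W : Scheme.{u}) (x : W ⟶ X), P W x → Set.range x ⊆ Set.range (U i).ι →
      ∃ z : W ⟶ Zc i, z ≫ jc i ≫ (U i).ι = x := by
    intro i W x hx hr
    let x' := IsOpenImmersion.lift (U i).ι x hr
    obtain ⟨z, hz⟩ := (hP i W x').1 (by rw [IsOpenImmersion.lift_fac]; exact hx)
    exact ⟨z, by rw [← Category.assoc, hz, IsOpenImmersion.lift_fac]⟩
  have hf : ∀ i, IsOpenImmersion.presheaf (f i) := by
    intro i
    refine MorphismProperty.relative.of_exists fun T g => ?_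
    let x : T ⟶ X := ((g.app (op T)) (𝟙 T)).1
    let V : T.Opens := x ⁻¹ᵁ (U i)
    have hg : ∀ (W : Scheme.{u}) (a : W ⟶ T), ((g.app (op W)) a).1 = a ≫ x := by
      intro W a
      have h1 : g.app (op W) ((yoneda.obj T).map a.op (𝟙 T)) = F.1.map a.op (g.app (op T) (𝟙 T)) :=
        ConcreteCategory.congr_hom (g.naturality a.op) (𝟙 T)
      have h2 : (yoneda.obj T).map a.op (𝟙 T) = a := Category.comp_id a
      rw [h2] at h1
      exact congrArg Subtype.val h1
    obtain ⟨z₀, hz₀⟩ := hlift i V (V.ι ≫ x) (hpre _ _ _ _ ((g.app (op T)) (𝟙 T)).2) (by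
      rintro _ ⟨v, rfl⟩
      rw [Scheme.Opens.range_ι]
      exact v.2)
    refine ⟨V, yoneda.map z₀, V.ι, ?_, inferInstance⟩
    refine IsPullback.of_forall_isPullback_app fun W => ?_
    rw [Limits.Types.isPullback_iff]
    refine ⟨?_, fun a b h => (cancel_mono V.ι).1 h.2, fun z a h => ?_⟩
    · refine ConcreteCategory.hom_ext _ _ fun a => ?_
      apply Subtype.ext
      show ((a : unop W ⟶ (V : Scheme.{u})) ≫ z₀) ≫ jc i ≫ (U i).ι = ((g.app W) ((a : unop W ⟶ (V : Scheme.{u})) ≫ V.ι)).1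
      erw [hg]
      rw [Category.assoc, hz₀, Category.assoc]
    · let z' : unop W ⟶ Zc i := z
      let a' : unop W ⟶ T := a
      have hh : z' ≫ jc i ≫ (U i).ι = a' ≫ x := (congrArg Subtype.val h).trans (hg _ a')
      have hr : Set.range a' ⊆ Set.range V.ι := by
        rintro _ ⟨w, rfl⟩
        rw [Scheme.Opens.range_ι]
        show x (a' w) ∈ U i
        rw [← Scheme.Hom.comp_apply, ← hh, Scheme.Hom.comp_apply, Scheme.Hom.comp_apply]
        exact Subtype.prop _
      refine ⟨IsOpenImmersion.lift V.ι a' hr, ?_, IsOpenImmersion.lift_fac _ _ _⟩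
      show IsOpenImmersion.lift V.ι a' hr ≫ z₀ = z'
      rw [← cancel_mono (jc i ≫ (U i).ι), Category.assoc, hz₀, IsOpenImmersion.lift_fac_assoc, hh]
  have : Presheaf.IsLocallySurjective Scheme.zariskiTopology (Limits.Sigma.desc f) := by
    refine ⟨fun {T} s => ?_⟩
    let 𝒱 : (unop (op T)).OpenCover := T.openCoverOfIsOpenCover (fun i => s.1 ⁻¹ᵁ U i)
      (hU.comap s.1.base.hom)
    refine Scheme.zariskiTopology.superset_covering ?_ 𝒱.mem_grothendieckTopology
    rintro W a ⟨_, b, _, ⟨i⟩, rfl⟩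
    obtain ⟨z, hz⟩ := hlift i W ((b ≫ 𝒱.f i) ≫ s.1) (hpre _ _ _ _ s.2) (by
      rintro _ ⟨w, rfl⟩
      rw [Scheme.Opens.range_ι]
      exact (b w).2)
    refine ⟨(Limits.Sigma.ι (fun i => yoneda.obj (Zc i)) i).app (op W) z, ?_⟩
    have e := ConcreteCategory.congr_hom (congr_app (Limits.Sigma.ι_desc f i) (op W)) z
    refine Eq.trans ?_ (Eq.trans (e) ?_)
    · rfl
    · exact Subtype.ext hz
  let e := Scheme.LocalRepresentability.representableBy hf
  set Z := (Scheme.LocalRepresentability.glueData hf).glued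
  let j : Z ⟶ X := (e.homEquiv (𝟙 Z)).1
  have hej : ∀ (W : Scheme.{u}) (z : W ⟶ Z), (e.homEquiv z).1 = z ≫ j := by
    intro W z
    rw [e.homEquiv_eq]
    rfl
  have hinj : ∀ (W : Scheme.{u}) (z z' : W ⟶ Z), z ≫ j = z' ≫ j → z = z' := fun W z z' h =>
    e.homEquiv.injective (Subtype.ext (by rw [hej, hej, h]))
  have hiff : ∀ (T : Scheme.{u}) (x : T ⟶ X), P T x ↔ ∃ z, z ≫ j = x := by
    refine fun T x => ⟨fun hx => ⟨e.homEquiv.symm ⟨x, hx⟩, ?_⟩, ?_⟩
    · rw [← hej]
      exact congrArg Subtype.val (Equiv.apply_symm_apply e.homEquiv _)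
    · rintro ⟨z, rfl⟩
      rw [← hej]
      exact (e.homEquiv z).2
  refine ⟨Z, j, ?_, hiff⟩
  rw [IsZariskiLocalAtTarget.iff_of_openCover (P := Q) (X.openCoverOfIsOpenCover U hU)]
  intro i
  show Q (Limits.pullback.snd j (U i).ι)
  obtain ⟨a, ha⟩ := (hP i _ (Limits.pullback.snd j (U i).ι)).1 (by
    rw [← Limits.pullback.condition]
    exact (hiff _ _).2 ⟨_, rfl⟩)
  obtain ⟨b, hb⟩ := (hiff _ (jc i ≫ (U i).ι)).1 ((hP i _ (jc i)).2 ⟨𝟙 _, Category.id_comp _⟩)
  have := hmono i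
  let b' : Zc i ⟶ Limits.pullback j (U i).ι := Limits.pullback.lift b (jc i) hb
  have : IsIso a := by
    refine ⟨b', ?_, ?_⟩
    · apply Limits.pullback.hom_ext
      · refine hinj _ _ _ ?_
        simp only [b', Category.assoc, Limits.pullback.lift_fst, Category.id_comp]
        rw [hb, ← Category.assoc, ha, Limits.pullback.condition]
      · simp only [b', Category.assoc, Limits.pullback.lift_snd, Category.id_comp, ha]
    · rw [← cancel_mono (jc i), Category.assoc, ha, Category.id_comp, Limits.pullback.lift_snd]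
  rw [← ha]
  exact (Q.cancel_left_of_respectsIso a (jc i)).2 (hjc i)

end Groth.Agent.CohExch.LocalSub
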