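import Groth.Agent.CohExch.ChartAlg
import Groth.Agent.Coherent.CohBC.Fibre
import Mathlib.RingTheory.Flat.TorsionFree

/-!
# Flat cokernels over a principal ideal domain
-/

set_option autoImplicit false
set_option backward.isDefEq.respectTransparency false

universe u

open CategoryTheory Function Groth.Agent.FlatCxLib

namespace Groth.Agent.CohExch

variable {A : Type u} [CommRing A] [IsDomain A] [IsPrincipalIdealRing A]

/-- Over a principal ideal domain the cokernel into a degree is flat exactly when the homology
there is free. -/
theorem flat_coker_iff_free_homology (P : ChainComplex (ModuleCat.{u} A) ℤ)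
    (hP : ∀ i, Module.Finite A (P.X i) ∧ Module.Free A (P.X i)) (p : ℤ) :
    Module.Flat A (P.X p ⧸ LinearMap.range (P.d (p + 1) p).hom) ↔ Module.Free A (P.homology p) := by
  have := (hP p).1
  have := (hP p).2
  have := (hP (p - 1)).1
  have := (hP (p - 1)).2
  have hfg := d_comp_d_hom P (p + 1) p (p - 1)
  set q := (P.d (p + 1) p).hom
  set g := (P.d p (p - 1)).hom
  have : IsNoetherianRing A := inferInstance
  have : Module.Free A (LinearMap.range g) := Module.free_of_finite_type_torsion_free'
  have hs : Surjective ((LinearMap.range q).liftQ g.rangeRestrict (by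
      rw [LinearMap.ker_rangeRestrict]; exact LinearMap.range_le_ker_iff.mpr hfg)) := by
    intro y
    obtain ⟨x, rfl⟩ := g.surjective_rangeRestrict y
    exact ⟨Submodule.Quotient.mk x, rfl⟩
  let e := homologyQuotEquiv P (p + 1) p (p - 1) rfl (by omega)
  have h1 : Module.Flat A (P.X p ⧸ LinearMap.range q) ↔ Module.Flat A (homologyQuot q g) :=
    ⟨fun _ => flat_of_exact_left _ _ (exact_homologyToCoker hfg) hs (homologyToCoker_injective q),
      fun _ => flat_of_exact_mid _ _ (exact_homologyToCoker hfg) hs (homologyToCoker_injective q)⟩
  have h2 : Module.Flat A (homologyQuot q g) ↔ Module.Flat A (P.homology p) := Module.Flat.equiv_iff e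
  have : Module.Finite A (P.homology p) := Coherent.CohBC.finite_homology_of_finite P (fun i => (hP i).1) p
  refine h1.trans (h2.trans ⟨fun h => ?_, fun h => inferInstance⟩)
  have : Module.IsTorsionFree A (P.homology p) := Module.Flat.isTorsionFree
  exact Module.free_of_finite_type_torsion_free'

end Groth.Agent.CohExch
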