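import Groth.Agent.CohExch.ChartBC
import Groth.Agent.CohExch.LocalSub
import Groth.Agent.FlatMor12.FlatFun.GenPtsRep
import Groth.Agent.Props12.TildeFin

/-!
# The strata of constant rank of the direct image, for charts
-/

set_option autoImplicit false
set_option backward.isDefEq.respectTransparency false

universe u

open CategoryTheory CategoryTheory.Limits AlgebraicGeometry TopologicalSpace Opposite TensorProduct
open Function Groth.Agent.Coherent Groth.Agent.Coherent.CohBC Groth.Agent.FlatCxLib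

namespace Groth.Agent.CohExch

/-- Flatness of a base changed module survives further base change. -/
theorem flat_of_comp {A B B' : Type u} [CommRing A] [CommRing B] [CommRing B'] (M : Type u)
    [AddCommGroup M] [Module A M] (φ : A →+* B) (ψ : B →+* B') (φ' : A →+* B')
    (hφ : φ' = ψ.comp φ) (h : letI := φ.toAlgebra; Module.Flat B (B ⊗[A] M)) :
    letI := φ'.toAlgebra
    Module.Flat B' (B' ⊗[A] M) := by
  let _ := φ.toAlgebra
  let _ := φ'.toAlgebra
  let _ := ψ.toAlgebra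
  have : IsScalarTower A B B' := .of_algebraMap_eq fun a => RingHom.congr_fun hφ a
  have : Module.Flat B (B ⊗[A] M) := h
  exact Module.Flat.of_linearEquiv (M := B' ⊗[B] (B ⊗[A] M))
    (AlgebraTensorModule.cancelBaseChange A B B' B' M).symm

/-- The cokernels of a base changed complex. -/
theorem nonempty_cokerBcEquiv {A B : Type u} [CommRing A] [CommRing B] (φ : A →+* B)
    (P : ChainComplex (ModuleCat.{u} A) ℤ) (i j : ℤ) :
    letI := φ.toAlgebra
    Nonempty (((CohIII.bcCx φ P).X j ⧸ LinearMap.range ((CohIII.bcCx φ P).d i j).hom) ≃ₗ[B]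
      B ⊗[A] (P.X j ⧸ LinearMap.range (P.d i j).hom)) := by
  let _ := φ.toAlgebra
  let π := (LinearMap.range (P.d i j).hom).mkQ.baseChange B
  have hex : Exact ((P.d i j).hom.baseChange B) π :=
    lTensor_exact B (LinearMap.exact_map_mkQ_range _) (Submodule.mkQ_surjective _)
  exact ⟨(Submodule.quotEquivOfEq _ _ (LinearMap.exact_iff.mp hex).symm).trans
    (π.quotKerEquivOfSurjective (LinearMap.lTensor_surjective B (Submodule.mkQ_surjective _)))⟩

/-- Flatness over a localisation of a base changed cokernel, read over the source ring. -/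
theorem flat_away_bc {A B B'' : Type u} [CommRing A] [CommRing B] [CommRing B''] (φ : A →+* B)
    (ψ : B →+* B'') (φ' : A →+* B'') (hφ : φ' = ψ.comp φ) (a : B)
    (hloc : letI := ψ.toAlgebra; IsLocalization.Away a B'') (P : ChainComplex (ModuleCat.{u} A) ℤ)
    (i j : ℤ) (h : Module.Flat (Localization.Away a)
      (Localization.Away a ⊗[B] Coker (CohIII.bcCx φ P) i j)) :
    letI := φ'.toAlgebra
    Module.Flat B'' (B'' ⊗[A] (P.X j ⧸ LinearMap.range (P.d i j).hom)) := by
  let _ := φ.toAlgebra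
  let _ := ψ.toAlgebra
  let L := Localization.Away a
  obtain ⟨e⟩ := nonempty_cokerBcEquiv φ P i j
  have h1 : Module.Flat L (L ⊗[B] (B ⊗[A] (P.X j ⧸ LinearMap.range (P.d i j).hom))) :=
    Module.Flat.of_linearEquiv (M := L ⊗[B] Coker (CohIII.bcCx φ P) i j)
      (LinearEquiv.baseChange B L _ _ e).symm
  have h2 : Module.Flat L (L ⊗[A] (P.X j ⧸ LinearMap.range (P.d i j).hom)) :=
    Module.Flat.of_linearEquiv (M := L ⊗[B] (B ⊗[A] (P.X j ⧸ LinearMap.range (P.d i j).hom)))
      (AlgebraTensorModule.cancelBaseChange A B L L _).symm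
  have : IsLocalization.Away a B'' := hloc
  let ε : L ≃ₐ[B] B'' := IsLocalization.algEquiv (Submonoid.powers a) L B''
  let _ := φ'.toAlgebra
  let _ : Algebra L B'' := ε.toRingEquiv.toRingHom.toAlgebra
  have : IsScalarTower A L B'' := .of_algebraMap_eq fun x => by
    show φ' x = ε (algebraMap A L x)
    rw [IsScalarTower.algebraMap_apply A B L, ε.commutes, hφ]
    rfl
  exact Module.Flat.of_linearEquiv (M := B'' ⊗[L] (L ⊗[A] (P.X j ⧸ LinearMap.range (P.d i j).hom)))
    (AlgebraTensorModule.cancelBaseChange A L B'' B'' _).symm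

variable {X S : Scheme.{u}} {f : X ⟶ S} {F : X.Modules}

/-- Flatness, near a point of the source, of the pulled back cokernel out of degree zero. -/
def Chart.Good (C : Chart f F) {T : Scheme.{u}} (u : T ⟶ S) (t : T) : Prop :=
  ∃ (U' : T.Opens) (_ : IsAffineOpen U') (le : U' ≤ u ⁻¹ᵁ C.U), t ∈ U' ∧
    letI := (u.appLE C.U U' le).hom.toAlgebra
    Module.Flat Γ(T, U') (Γ(T, U') ⊗[Γ(S, C.U)] (C.P.X (-1) ⧸ LinearMap.range (C.P.d 0 (-1)).hom))

/-- The stratum condition of rank `r`. -/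
def Stratum (f : X ⟶ S) (F : X.Modules) (r : ℕ) (T : Scheme.{u}) (u : T ⟶ S) : Prop :=
  ∀ t : T, CohIII.fiberRank f F 0 (u t) = r ∧ ∀ C : Chart f F, u t ∈ C.U → C.Good u t

theorem Chart.Good.precomp {C : Chart f F} {T T' : Scheme.{u}} {u : T ⟶ S} (x : T' ⟶ T) {t' : T'}
    (h : C.Good u (x t')) : C.Good (x ≫ u) t' := by
  obtain ⟨U', hU', le, hxU, hflat⟩ := h
  obtain ⟨U'', hU'', htU, le'⟩ := exists_isAffineOpen_mem_and_subset (x := t') (U := x ⁻¹ᵁ U') hxU
  refine ⟨U'', hU'', le'.trans (x.preimage_mono le), htU,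
    flat_of_comp _ (u.appLE C.U U' le).hom (x.appLE U' U'' le').hom _ ?_ hflat⟩
  exact (congrArg CommRingCat.Hom.hom (Scheme.Hom.appLE_comp_appLE x u C.U U' U'' le le')).symm

theorem Chart.Good.of_openImmersion {C : Chart f F} {T V : Scheme.{u}} {u : T ⟶ S} (x : V ⟶ T)
    [IsOpenImmersion x] {v : V} (h : C.Good (x ≫ u) v) : C.Good u (x v) := by
  obtain ⟨U'', hU'', le'', hvU, hflat⟩ := h
  have le : x ''ᵁ U'' ≤ u ⁻¹ᵁ C.U := by
    rintro _ ⟨w, hw, rfl⟩
    exact le'' hw
  refine ⟨x ''ᵁ U'', hU''.image_of_isOpenImmersion x, le, ⟨v, hvU, rfl⟩,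
    flat_of_comp _ ((x ≫ u).appLE C.U U'' le'').hom (x.appIso U'').inv.hom _ ?_ hflat⟩
  have e := Scheme.Hom.appLE_comp_appLE x u C.U (x ''ᵁ U'') U'' le (x.preimage_image_eq U'').ge
  rw [← Scheme.Hom.appIso_hom'] at e
  refine congrArg CommRingCat.Hom.hom (?_ : u.appLE C.U (x ''ᵁ U'') le =
    (x ≫ u).appLE C.U U'' le'' ≫ (x.appIso U'').inv)
  rw [Iso.eq_comp_inv]
  exact e

theorem Stratum.precomp {r : ℕ} {T T' : Scheme.{u}} {u : T ⟶ S} (x : T' ⟶ T)
    (h : Stratum f F r T u) : Stratum f F r T' (x ≫ u) :=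
  fun t' => ⟨(h (x t')).1, fun C hC => ((h (x t')).2 C hC).precomp x⟩

theorem Stratum.of_cover {r : ℕ} {T : Scheme.{u}} {u : T ⟶ S} (𝒱 : Scheme.OpenCover.{u} T)
    (h : ∀ i, Stratum f F r _ (𝒱.f i ≫ u)) : Stratum f F r T u := by
  intro t
  obtain ⟨i, v, rfl⟩ : ∃ i v, 𝒱.f i v = t := ⟨_, (𝒱.exists_eq t).choose_spec⟩
  exact ⟨(h i v).1, fun C hC => ((h i v).2 C hC).of_openImmersion (𝒱.f i)⟩

theorem stratum_of_field {r : ℕ} {K : CommRingCat.{u}} (hK : IsField K) (u : Spec K ⟶ S)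
    (h : ∀ t, CohIII.fiberRank f F 0 (u t) = r) : Stratum f F r (Spec K) u := by
  refine fun t => ⟨h t, fun C hC => ?_⟩
  have hsub : Subsingleton ↥(Spec K) := by
    let _ : Field K := hK.toField
    exact inferInstanceAs (Subsingleton (PrimeSpectrum K))
  have le : (⊤ : (Spec K).Opens) ≤ u ⁻¹ᵁ C.U := fun z _ => by
    obtain rfl := Subsingleton.elim z t
    exact hC
  have hF : IsField Γ(Spec K, ⊤) :=
    MulEquiv.isField hK (Scheme.ΓSpecIso K).commRingCatIsoToRingEquiv.toMulEquiv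
  refine ⟨⊤, isAffineOpen_top _, le, trivial, ?_⟩
  let _ : Field Γ(Spec K, ⊤) := hF.toField
  infer_instance

/-- A chart stays flat out of degree zero over a good point. -/
theorem Chart.exists_bc_flat [IsSeparated f] [Coh.IsQCoh F] (hfl : FlatMod.IsFlatOver f F)
    (C : Chart f F) {X' T : Scheme.{u}} {g' : X' ⟶ X} {f' : X' ⟶ T} {u : T ⟶ S}
    (h : IsPullback g' f' f u) {t : T} (ht : C.Good u t) :
    ∃ C' : Chart f' ((Scheme.Modules.pullback g').obj F), t ∈ C'.U ∧ C'.Flat ((0 : ℕ) : ℤ) := by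
  obtain ⟨U', hU', le, htU, hflat⟩ := ht
  exact ⟨C.bc hfl h hU' le, htU, (C.flat_bc_iff hfl h hU' le _).2 hflat⟩

/-- An epimorphic base change to the point gives a good point. -/
theorem Chart.good_of_epi0 [IsProper f] [Coh.IsQCoh F] (hfl : FlatMod.IsFlatOver f F)
    (C : Chart f F) {X' T : Scheme.{u}} {g' : X' ⟶ X} {f' : X' ⟶ T} {u : T ⟶ S}
    (h : IsPullback g' f' f u) {t : T} (ht : u t ∈ C.U)
    (hepi : Epi (CohBC.bc0 f' (T.fromSpecResidueField t) (f'.fiberToSpecResidueField t) (f'.fiberι t)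
      (f'.fiber_fac t) ((Scheme.Modules.pullback g').obj F))) :
    C.Good u t := by
  have : IsProper f' := MorphismProperty.of_isPullback (P := @IsProper) h inferInstance
  have := EGA43.InjFibre.isQCoh_pullback g' F
  obtain ⟨U', hU', htU, le⟩ := exists_isAffineOpen_mem_and_subset (x := t) (U := u ⁻¹ᵁ C.U) ht
  let C' := C.bc hfl h hU' le
  have hsq : IsPullback (f'.fiberι t) (f'.fiberToSpecResidueField t) f' (T.fromSpecResidueField t) :=
    IsPullback.of_hasPullback f' (T.fromSpecResidueField t)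
  have : Subsingleton ↥(Spec (T.residueField t)) :=
    inferInstanceAs (Subsingleton (PrimeSpectrum (T.residueField t)))
  have le₀ : (⊤ : (Spec (T.residueField t)).Opens) ≤ T.fromSpecResidueField t ⁻¹ᵁ C'.U := fun z _ => by
    have : T.fromSpecResidueField t z ∈ Set.range (T.fromSpecResidueField t) := ⟨z, rfl⟩
    rw [Scheme.range_fromSpecResidueField] at this
    show T.fromSpecResidueField t z ∈ C'.U
    rw [this]
    exact htU
  have hsurj := surjective_exch_residue_of_field C'.P (-((0 : ℕ) : ℤ))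
    (isField_Γ_spec (T.residueField t)) _ (C'.pt htU) (ker_appLE_fromSpecResidueField C'.hU htU le₀)
    ((C'.bc0_app_iff hsq (isAffineOpen_top _) le₀).1.1 ((epi_iff_surjective_top _).1 hepi))
  obtain ⟨a₀, ha, hflat⟩ := exists_flatAt_of_surjective_exch C'.P C'.finite_free _ _ hsurj
  let a : Γ(T, U') := a₀
  have le' : T.basicOpen a ≤ u ⁻¹ᵁ C.U := (T.basicOpen_le a).trans le
  refine ⟨T.basicOpen a, hU'.basicOpen a, le', mem_basicOpen_of_not_mem C' htU ha, ?_⟩
  refine flat_away_bc (u.appLE C.U U' le).hom (T.presheaf.map (homOfLE (T.basicOpen_le a)).op).hom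
    (u.appLE C.U (T.basicOpen a) le').hom ?_ a ?_ C.P 0 (-1) hflat
  · exact (congrArg CommRingCat.Hom.hom
      (Scheme.Hom.appLE_map u le (homOfLE (T.basicOpen_le a)).op)).symm
  · exact hU'.isLocalization_basicOpen a

/-- Sections over an affine of the pullback of the sheaf of a module on an affine open. -/
theorem nonempty_pullback_tilde_sections {U : S.Opens} (hU : IsAffineOpen U)
    (M : ModuleCat.{u} Γ(S, U)) {T : Scheme.{u}} {u : T ⟶ S} (c : T ⟶ Spec Γ(S, U))
    (hc : c ≫ hU.fromSpec = u) {U' : T.Opens} (hU' : IsAffineOpen U') (le : U' ≤ u ⁻¹ᵁ U) :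
    letI := (u.appLE U U' le).hom.toAlgebra
    Nonempty (Γ(T, U') ⊗[Γ(S, U)] M ≃ₗ[Γ(T, U')]
      Γ((Scheme.Modules.pullback c).obj (tilde M), U')) := by
  let _ := (u.appLE U U' le).hom.toAlgebra
  let φ := u.appLE U U' le
  let P := (Scheme.Modules.pullback c).obj (tilde M)
  have hc' : hU'.fromSpec ≫ c = Spec.map φ := by
    rw [← cancel_mono hU.fromSpec, Category.assoc, hc]
    exact (hU.SpecMap_appLE_fromSpec u hU' le).symm
  let i : P.restrict hU'.fromSpec ≅ (ModuleCat.extendScalars φ.hom ⋙ tilde.functor _).obj M :=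
    (Scheme.Modules.restrictFunctorIsoPullback hU'.fromSpec).app P ≪≫
      (Scheme.Modules.pullbackComp hU'.fromSpec c).app (tilde M) ≪≫
      (Scheme.Modules.pullbackCongr hc').app (tilde M) ≪≫
      (Flatn12.tildePullbackIso φ).app M
  let j : moduleSpecΓFunctor.obj (P.restrict hU'.fromSpec) ≅ (ModuleCat.extendScalars φ.hom).obj M :=
    moduleSpecΓFunctor.mapIso i ≪≫ (tilde.toTildeΓNatIso.app _).symm
  exact ⟨j.toLinearEquiv.symm.trans (Flatn12.secEquiv hU' P)⟩

theorem Chart.flat_bc_coker_neg_one (C : Chart f F) {B : Type u} [CommRing B]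
    [Algebra Γ(S, C.U) B] :
    Module.Flat B (B ⊗[Γ(S, C.U)] (C.P.X 0 ⧸ LinearMap.range (C.P.d 1 0).hom)) := by
  have := C.flat_coker_neg_one
  infer_instance

/-- The sheaf of `M₀` has rank `shift + r` after pullback exactly on the stratum. -/
theorem Chart.isFinLocFreeOfRank_iff [IsSeparated f] [QuasiCompact f] [Coh.IsQCoh F]
    (hfl : FlatMod.IsFlatOver f F) (C : Chart f F) (r : ℕ) {T : Scheme.{u}} {u : T ⟶ S}
    (c : T ⟶ Spec Γ(S, C.U)) (hc : c ≫ C.hU.fromSpec = u) :
    FlatMod.IsFinLocFreeOfRank (r + C.shift)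
        ((Scheme.Modules.pullback c).obj (tilde (ModuleCat.of Γ(S, C.U) C.M₀))) ↔
      ∀ t : T, CohIII.fiberRank f F 0 (u t) = r ∧ C.Good u t := by
  let M : ModuleCat.{u} Γ(S, C.U) := ModuleCat.of Γ(S, C.U) C.M₀
  let G := (Scheme.Modules.pullback c).obj (tilde M)
  have := Props12.isQCoh_tilde M
  have : Coh.IsQCoh G := EGA43.InjFibre.isQCoh_pullback c _
  have hsub : ∀ t : T, u t ∈ C.U := fun t => by
    rw [← hc, ← SetLike.mem_coe, ← C.hU.range_fromSpec]
    exact ⟨c t, rfl⟩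
  -- a trivialisation reads off flatness and the fibre dimension
  have key : ∀ (t : T) (W : T.Opens) (m : ℕ), t ∈ W →
      Nonempty (G.restrict W.ι ≅ FlatMod.freeMod W.toScheme m) →
      C.Good u t ∧ CohIII.fiberRank f F 0 (u t) + C.shift = m := by
    rintro t W m htW ⟨e⟩
    obtain ⟨U', hU', htU, le'⟩ :=
      exists_isAffineOpen_mem_and_subset (x := t) (U := W ⊓ u ⁻¹ᵁ C.U) ⟨htW, hsub t⟩
    have le : U' ≤ u ⁻¹ᵁ C.U := le'.trans inf_le_right
    let _ := (u.appLE C.U U' le).hom.toAlgebra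
    obtain ⟨b⟩ := Props12.exists_basis_sections e (le'.trans inf_le_left)
    obtain ⟨e'⟩ := nonempty_pullback_tilde_sections C.hU M c hc hU' le
    let b' : Module.Basis (Fin m) Γ(T, U') (Γ(T, U') ⊗[Γ(S, C.U)] C.M₀) := b.map e'.symm
    have : Module.Free Γ(T, U') (Γ(T, U') ⊗[Γ(S, C.U)] C.M₀) := Module.Free.of_basis b'
    let p := TensorProduct.prodRight Γ(S, C.U) Γ(T, U') Γ(T, U')
      (C.P.X 0 ⧸ LinearMap.range (C.P.d 1 0).hom) (C.P.X (-1) ⧸ LinearMap.range (C.P.d 0 (-1)).hom)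
    refine ⟨⟨U', hU', le, htU, ?_⟩, ?_⟩
    · have := Module.Flat.of_linearEquiv (M := Γ(T, U') ⊗[Γ(S, C.U)] C.M₀) p.symm
      exact Module.Flat.of_retract
        (M := (Γ(T, U') ⊗[Γ(S, C.U)] (C.P.X 0 ⧸ LinearMap.range (C.P.d 1 0).hom)) ×
          (Γ(T, U') ⊗[Γ(S, C.U)] (C.P.X (-1) ⧸ LinearMap.range (C.P.d 0 (-1)).hom)))
        (LinearMap.inr Γ(T, U') _ _) (LinearMap.snd Γ(T, U') _ _) (LinearMap.ext fun _ => rfl)
    · have hx : PrimeSpectrum.comap (algebraMap Γ(S, C.U) Γ(T, U')) (hU'.primeIdealOf ⟨t, htU⟩) =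
          C.pt (hsub t) := IsAffineOpen.comap_primeIdealOf_appLE C.U C.hU U' hU' le htU
      have : Nontrivial Γ(T, U') := (hU'.primeIdealOf ⟨t, htU⟩).nontrivial
      rw [← C.fibreRank_M₀ hfl (hsub t), ← hx, ← fibreRank_baseChange, fibreRank,
        Module.finrank_baseChange, Module.finrank_eq_card_basis b', Fintype.card_fin]
  constructor
  · intro h t
    obtain ⟨W, htW, hW⟩ := h t
    obtain ⟨h1, h2⟩ := key t W _ htW hW
    exact ⟨by omega, h1⟩
  · intro h t
    obtain ⟨hr, U', hU', le, htU, hflat⟩ := h t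
    let _ := (u.appLE C.U U' le).hom.toAlgebra
    have := C.finitePresentation_M₀
    have := C.flat_bc_coker_neg_one (B := Γ(T, U'))
    have hfpc : ∀ i j : ℤ, Module.FinitePresentation Γ(S, C.U)
        (C.P.X j ⧸ LinearMap.range (C.P.d i j).hom) := fun i j => C.finitePresentation_coker i j
    have := hfpc 1 0
    have := hfpc 0 (-1)
    have : Module.Projective Γ(T, U')
        (Γ(T, U') ⊗[Γ(S, C.U)] (C.P.X 0 ⧸ LinearMap.range (C.P.d 1 0).hom)) :=
      Module.Flat.projective_of_finitePresentation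
    have : Module.Projective Γ(T, U')
        (Γ(T, U') ⊗[Γ(S, C.U)] (C.P.X (-1) ⧸ LinearMap.range (C.P.d 0 (-1)).hom)) :=
      Module.Flat.projective_of_finitePresentation
    have : Module.Projective Γ(T, U') (Γ(T, U') ⊗[Γ(S, C.U)] C.M₀) :=
      Module.Projective.of_equiv (TensorProduct.prodRight Γ(S, C.U) Γ(T, U') Γ(T, U')
        (C.P.X 0 ⧸ LinearMap.range (C.P.d 1 0).hom) (C.P.X (-1) ⧸ LinearMap.range (C.P.d 0 (-1)).hom)).symm
    obtain ⟨e'⟩ := nonempty_pullback_tilde_sections C.hU M c hc hU' le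
    have : Module.Finite Γ(T, U') Γ(G, U') := Module.Finite.equiv e'
    have : Module.Projective Γ(T, U') Γ(G, U') := Module.Projective.of_equiv e'
    obtain ⟨W, m, htW, hW⟩ := exists_free_nhd_of_sections G hU' htU
    obtain ⟨-, hm⟩ := key t W m htW hW
    obtain rfl : m = r + C.shift := by omega
    exact ⟨W, htW, hW⟩

/-- The stratum is a finitely presented immersion over a chart. -/
theorem Chart.exists_immersion [IsSeparated f] [QuasiCompact f] [Coh.IsQCoh F]
    (hfl : FlatMod.IsFlatOver f F) (C : Chart f F) (r : ℕ) :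
    ∃ (Z : Scheme.{u}) (j : Z ⟶ C.U.toScheme),
      IsImmersion j ∧ LocallyOfFinitePresentation j ∧ QuasiCompact j ∧
      ∀ (T : Scheme.{u}) (x : T ⟶ C.U.toScheme),
        (∀ t : T, CohIII.fiberRank f F 0 ((x ≫ C.U.ι) t) = r ∧ C.Good (x ≫ C.U.ι) t) ↔
          ∃ z, z ≫ j = x := by
  let M : ModuleCat.{u} Γ(S, C.U) := ModuleCat.of Γ(S, C.U) C.M₀
  have := Props12.isQCoh_tilde M
  have := C.finitePresentation_M₀
  have hFP : CohB1.IsFP (tilde M) := (Props12.isFP_tilde_iff M).2 inferInstance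
  have hFT : CohB1.IsFT (tilde M) := (Props12.isFT_tilde_iff M).2 inferInstance
  let n := r + C.shift
  let O := FlatMor12.FlatFun.genOpen (tilde M) n
  let y := (FlatMor12.FlatFun.stratumIdeal (tilde M) n).subschemeι
  have : LocallyOfFinitePresentation y :=
    FlatMor12.FlatFun.locallyOfFinitePresentation_stratum (tilde M) n hFP
  have : QuasiCompact O.ι := by
    refine quasiCompact_iff_forall_isAffineOpen.2 fun W hW => ?_
    rw [O.ι.isOpenEmbedding.isEmbedding.isCompact_iff, Scheme.Hom.coe_preimage,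
      Set.image_preimage_eq_inter_range, Scheme.Opens.range_ι, Set.inter_comm]
    exact FlatMor12.FlatFun.isCompact_genOpen_inter (tilde M) n hFP ⟨W, hW⟩
  refine ⟨_, y ≫ O.ι ≫ C.hU.isoSpec.inv, inferInstance, inferInstance, inferInstance, fun T x => ?_⟩
  let c := x ≫ C.hU.isoSpec.hom
  have hc : c ≫ C.hU.fromSpec = x ≫ C.U.ι := by
    rw [Category.assoc, IsAffineOpen.isoSpec_hom, IsAffineOpen.toSpecΓ_fromSpec]
  rw [← C.isFinLocFreeOfRank_iff hfl r c hc]
  constructor
  · intro h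
    have hr : Set.range c ⊆ O.ι.opensRange := by
      rw [Scheme.Opens.opensRange_ι]
      rintro _ ⟨t, rfl⟩ hsup
      have hT := isFT_pullback_qcoh c (F := tilde M) inferInstance hFT
      have := EGA43.InjFibre.isQCoh_pullback c (tilde M)
      have htop := ((FlatMor12.FittSheaf.isFinLocFreeOfRank_iff _ hT n).1 h).2 n le_rfl
      rw [← FlatMor12.FittSheaf.comap_eq _ c hFT] at htop
      have : t ∈ ((Fitt.sheafIdeal (tilde M) n).comap c).support := by
        rw [Scheme.IdealSheafData.support_comap]; exact hsup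
      rw [htop, Scheme.IdealSheafData.support_top] at this
      exact this
    let g := IsOpenImmersion.lift O.ι c hr
    have hg : g ≫ O.ι = c := IsOpenImmersion.lift_fac _ _ _
    obtain ⟨l, hl⟩ := (FlatMor12.FlatFun.factors_stratum_iff (tilde M) n hFT g).2 (by rw [hg]; exact h)
    refine ⟨l, ?_⟩
    rw [reassoc_of% hl, reassoc_of% hg]
    show (x ≫ C.hU.isoSpec.hom) ≫ C.hU.isoSpec.inv = x
    rw [Category.assoc, Iso.hom_inv_id, Category.comp_id]
  · rintro ⟨z, rfl⟩
    have h := (FlatMor12.FlatFun.factors_stratum_iff (tilde M) n hFT (z ≫ y)).1 ⟨z, rfl⟩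
    have e : c = (z ≫ y) ≫ O.ι := by
      show (z ≫ y ≫ O.ι ≫ C.hU.isoSpec.inv) ≫ C.hU.isoSpec.hom = _
      rw [Category.assoc, Category.assoc, Category.assoc, Iso.inv_hom_id, Category.comp_id,
        Category.assoc]
    rw [e]
    exact h

end Groth.Agent.CohExch
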